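import Cfsg.Agent.Lib.Helper48.Coprime
import Mathlib.GroupTheory.Abelianization.Defs
import Mathlib.GroupTheory.Solvable
import Mathlib.Data.ZMod.Basic

/-!
# Generation by centralizers under coprime action of a noncyclic elementary abelian `p`-group
(helper48)

Main results, all internal to a finite group `G`:
* `coprime_generation`: if commuting elements `a`, `b` with `a ^ p = b ^ p = 1` normalize a subgroup `K` of
  order prime to `p`, and `Y` contains `C_K(a)` and all `C_K(a ^ i * b)`, then `K ≤ Y`;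
* `elemAb_generation`: if `A` is an elementary abelian `p`-subgroup of order at least `p ^ 2` normalizing
  a `p'`-subgroup `K`, and `Y` contains `C_K(u)` for every nontrivial `u ∈ A`, then `K ≤ Y`;
* `exists_invariant_sylow`: a `p`-group normalizing a `p'`-group normalizes one of its Sylow `q`-subgroups.
-/

set_option autoImplicit false

namespace Cfsg.Agent.Lib.Helper48

open scoped commutatorElement Pointwise

variable {G : Type*} [Group G]

/-- Partition of `𝔽_p²` into the `p + 1` lines through the origin, as a product identity. -/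
theorem zmod_lines_prod {M : Type*} [CommMonoid M] (p : ℕ) [Fact p.Prime]
    (F : ZMod p → ZMod p → M) :
    (∏ i, ∏ k, F (i * k) k) * ∏ k, F k 0 = F 0 0 ^ p * ∏ k, ∏ j, F j k := by
  classical
  have h1 : ∀ k : ZMod p, k ≠ 0 → ∏ i, F (i * k) k = ∏ j, F j k := by
    intro k hk
    exact Fintype.prod_equiv (Equiv.mulRight₀ k hk) _ _ (fun i => rfl)
  have h0 : ∏ i : ZMod p, F (i * 0) 0 = F 0 0 ^ p := by
    simp [Finset.prod_const, Finset.card_univ, ZMod.card]
  rw [Finset.prod_comm]
  rw [← Finset.mul_prod_erase Finset.univ (fun k => ∏ i, F (i * k) k) (Finset.mem_univ 0)]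
  rw [← Finset.mul_prod_erase Finset.univ (fun k => ∏ j, F j k) (Finset.mem_univ 0)]
  rw [h0]
  have h2 : ∏ k ∈ Finset.univ.erase (0 : ZMod p), ∏ i, F (i * k) k =
      ∏ k ∈ Finset.univ.erase (0 : ZMod p), ∏ j, F j k := by
    apply Finset.prod_congr rfl
    intro k hk
    exact h1 k (Finset.ne_of_mem_erase hk)
  rw [h2]
  rw [mul_assoc]
  congr 1
  rw [mul_comm]


/-- Conjugation by an element of the normalizer, restricted to `K`. -/
def conjRestrict (K : Subgroup G) (e : G) (he : e ∈ Subgroup.normalizer (K : Set G)) : ↥K →* ↥K where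
  toFun x := ⟨e * x * e⁻¹, (Subgroup.mem_normalizer_iff.mp he x).mp x.2⟩
  map_one' := by ext; simp
  map_mul' x y := by ext; simp [mul_assoc]

@[simp] theorem conjRestrict_coe (K : Subgroup G) (e : G) (he : e ∈ Subgroup.normalizer (K : Set G))
    (x : K) : (conjRestrict K e he x : G) = e * x * e⁻¹ := rfl

theorem mem_commutator_iff_coe (K : Subgroup G) (u : K) :
    u ∈ _root_.commutator K ↔ (u : G) ∈ ⁅K, K⁆ := by
  rw [← Subgroup.map_subtype_commutator]
  constructor
  · intro h; exact ⟨u, h, rfl⟩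
  · rintro ⟨v, hv, hvu⟩
    have : v = u := Subtype.ext hvu
    exact this ▸ hv

theorem abelianization_of_eq_iff (K : Subgroup G) (u v : K) :
    (Abelianization.of u : Abelianization K) = Abelianization.of v ↔ (u : G)⁻¹ * v ∈ ⁅K, K⁆ := by
  rw [eq_comm, MonoidHom.eq_iff, Abelianization.ker_of, mem_commutator_iff_coe]
  simp

/-- A version of `exists_fixed_in_coset` for a single element `c` of `q`-power order. -/
theorem exists_fixed_in_coset_of_elem {q : ℕ} [Fact q.Prime] (c : G)
    (hc : IsPGroup q (Subgroup.zpowers c))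
    (N : Subgroup G) (hN : ¬ q ∣ Nat.card N) (hcN : c ∈ Subgroup.normalizer (N : Set G)) (x : G)
    (hx : x⁻¹ * (c * x * c⁻¹) ∈ N) :
    ∃ n ∈ N, c * (x * n) * c⁻¹ = x * n := by
  -- the stabilizer of the coset `x N`
  let St : Subgroup G :=
    { carrier := {b | b ∈ Subgroup.normalizer (N : Set G) ∧ x⁻¹ * (b * x * b⁻¹) ∈ N}
      one_mem' := ⟨Subgroup.one_mem _, by simp⟩
      mul_mem' := by
        rintro b₁ b₂ ⟨h1, h1'⟩ ⟨h2, h2'⟩
        refine ⟨Subgroup.mul_mem _ h1 h2, ?_⟩
        have e : x⁻¹ * (b₁ * b₂ * x * (b₁ * b₂)⁻¹) =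
            (x⁻¹ * (b₁ * x * b₁⁻¹)) * (b₁ * (x⁻¹ * (b₂ * x * b₂⁻¹)) * b₁⁻¹) := by group
        rw [e]
        exact N.mul_mem h1' ((Subgroup.mem_normalizer_iff.mp h1 _).mp h2')
      inv_mem' := by
        rintro b ⟨h1, h1'⟩
        refine ⟨Subgroup.inv_mem _ h1, ?_⟩
        have e : x⁻¹ * (b⁻¹ * x * b⁻¹⁻¹) = b⁻¹ * (x⁻¹ * (b * x * b⁻¹))⁻¹ * b⁻¹⁻¹ := by group
        rw [e]
        exact (Subgroup.mem_normalizer_iff.mp (Subgroup.inv_mem _ h1) _).mp (N.inv_mem h1') }
  have hcSt : c ∈ St := ⟨hcN, hx⟩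
  have hle : Subgroup.zpowers c ≤ St := by rwa [Subgroup.zpowers_le]
  obtain ⟨n, hn, hfix⟩ := exists_fixed_in_coset (Subgroup.zpowers c) hc N hN
    (fun b hb => (hle hb).1) x (fun b hb => (hle hb).2)
  exact ⟨n, hn, hfix c (Subgroup.mem_zpowers c)⟩

theorem isPGroup_zpowers_of_pow_eq_one {p : ℕ} [Fact p.Prime] {c : G} (hc : c ^ p = 1) :
    IsPGroup p (Subgroup.zpowers c) := by
  have hd : orderOf c ∣ p := orderOf_dvd_of_pow_eq_one hc
  rcases (Nat.dvd_prime Fact.out).mp hd with h | h
  · apply IsPGroup.of_card (n := 0)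
    rw [Nat.card_zpowers, h, pow_zero]
  · apply IsPGroup.of_card (n := 1)
    rw [Nat.card_zpowers, h, pow_one]

/-- Lifting fixed points from the abelianization (coprime action of an element of order
dividing `p`). -/
theorem exists_fixed_lift {p : ℕ} [Fact p.Prime] [Finite G] (K : Subgroup G)
    (hK : ¬ p ∣ Nat.card K) (c : G) (hc : c ∈ Subgroup.normalizer (K : Set G)) (hcp : c ^ p = 1)
    (y : K)
    (hy : (Abelianization.of (conjRestrict K c hc y) : Abelianization K) = Abelianization.of y) :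
    ∃ f : K, (Abelianization.of f : Abelianization K) = Abelianization.of y ∧
      c * (f : G) * c⁻¹ = f := by
  have hN : ¬ p ∣ Nat.card (⁅K, K⁆ : Subgroup G) :=
    fun h => hK (h.trans (Subgroup.card_dvd_of_le (Subgroup.commutator_le_self K)))
  have hcN : c ∈ Subgroup.normalizer ((⁅K, K⁆ : Subgroup G) : Set G) :=
    normalizer_inf_le_normalizer_commutator K K ⟨hc, hc⟩
  have hx : (y : G)⁻¹ * (c * y * c⁻¹) ∈ ⁅K, K⁆ := by
    rw [eq_comm, abelianization_of_eq_iff] at hy
    simpa using hy
  obtain ⟨n, hn, hfix⟩ := exists_fixed_in_coset_of_elem c (isPGroup_zpowers_of_pow_eq_one hcp)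
    ⁅K, K⁆ hN hcN (y : G) hx
  refine ⟨⟨y * n, K.mul_mem y.2 (Subgroup.commutator_le_self K hn)⟩, ?_, hfix⟩
  rw [eq_comm, abelianization_of_eq_iff]
  simpa using hn

/-- Total version of `conjRestrict`: conjugation by `e` on `K` if `e` normalizes `K`,
the identity otherwise. -/
noncomputable def conjR (K : Subgroup G) (e : G) : ↥K →* ↥K := by
  classical
  exact if h : e ∈ Subgroup.normalizer (K : Set G) then conjRestrict K e h else MonoidHom.id _

theorem conjR_eq (K : Subgroup G) {e : G} (h : e ∈ Subgroup.normalizer (K : Set G)) :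
    conjR K e = conjRestrict K e h := by
  unfold conjR
  rw [dif_pos h]

theorem conjR_coe (K : Subgroup G) {e : G} (h : e ∈ Subgroup.normalizer (K : Set G)) (x : K) :
    (conjR K e x : G) = e * x * e⁻¹ := by
  rw [conjR_eq K h]; rfl

theorem conjR_mul (K : Subgroup G) {e₁ e₂ : G} (h₁ : e₁ ∈ Subgroup.normalizer (K : Set G))
    (h₂ : e₂ ∈ Subgroup.normalizer (K : Set G)) (x : K) :
    conjR K (e₁ * e₂) x = conjR K e₁ (conjR K e₂ x) := by
  apply Subtype.ext
  rw [conjR_coe K (Subgroup.mul_mem _ h₁ h₂), conjR_coe K h₁, conjR_coe K h₂]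
  group

theorem conjR_one (K : Subgroup G) (x : K) : conjR K 1 x = x := by
  apply Subtype.ext
  rw [conjR_coe K (Subgroup.one_mem _)]
  group

theorem pow_zmod_val {p : ℕ} [Fact p.Prime] {c : G} (hcp : c ^ p = 1) (n : ℕ) :
    c ^ ((n : ZMod p).val) = c ^ n := by
  rw [ZMod.val_natCast, ← pow_eq_pow_mod n hcp]

/-- The trace of `y` under `c` in the abelianization of `K`. -/
noncomputable def trAb (p : ℕ) [Fact p.Prime] (K : Subgroup G) (c : G) (y : K) : Abelianization K :=
  ∏ k : ZMod p, Abelianization.of (conjR K (c ^ k.val) y)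

theorem map_conjR_trAb {p : ℕ} [Fact p.Prime] (K : Subgroup G) {c : G}
    (hc : c ∈ Subgroup.normalizer (K : Set G)) (hcp : c ^ p = 1) (y : K) :
    Abelianization.map (conjR K c) (trAb p K c y) = trAb p K c y := by
  unfold trAb
  rw [map_prod]
  have h1 : ∀ k : ZMod p, Abelianization.map (conjR K c) (Abelianization.of (conjR K (c ^ k.val) y)) =
      Abelianization.of (conjR K (c ^ (k + 1).val) y) := by
    intro k
    rw [Abelianization.map_of, ← conjR_mul K hc (Subgroup.pow_mem _ hc _)]
    congr 2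
    have : k + 1 = ((k.val + 1 : ℕ) : ZMod p) := by
      rw [Nat.cast_add, ZMod.natCast_zmod_val, Nat.cast_one]
    rw [this, pow_zmod_val hcp, pow_succ']
  simp_rw [h1]
  exact Fintype.prod_equiv (Equiv.addRight (1 : ZMod p)) _ _ (fun k => rfl)

/-- The trace lies in the image of `Y`, if `Y` contains `[K, K]`... in fact only `C_K(c) ≤ Y`
is needed. -/
theorem trAb_mem {p : ℕ} [Fact p.Prime] [Finite G] (K Y : Subgroup G) (hK : ¬ p ∣ Nat.card K)
    {c : G} (hc : c ∈ Subgroup.normalizer (K : Set G)) (hcp : c ^ p = 1)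
    (hcY : K ⊓ Subgroup.centralizer ({c} : Set G) ≤ Y) (y : K) :
    trAb p K c y ∈ (Y.subgroupOf K).map (Abelianization.of : K →* Abelianization K) := by
  obtain ⟨z, hz⟩ : ∃ z : K, Abelianization.of z = trAb p K c y :=
    QuotientGroup.mk_surjective (trAb p K c y)
  have h1 : (Abelianization.of (conjRestrict K c hc z) : Abelianization K) = Abelianization.of z := by
    rw [← conjR_eq K hc, ← Abelianization.map_of, hz, map_conjR_trAb K hc hcp]
  obtain ⟨f, hf1, hf2⟩ := exists_fixed_lift K hK c hc hcp z h1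
  refine ⟨f, ?_, by rw [hf1, hz]⟩
  show f ∈ Y.subgroupOf K
  rw [Subgroup.mem_subgroupOf]
  apply hcY
  refine ⟨f.2, ?_⟩
  show (f : G) ∈ Subgroup.centralizer ({c} : Set G)
  rw [Subgroup.mem_centralizer_singleton_iff]
  calc (f : G) * c = c * f * c⁻¹ * c := by rw [hf2]
    _ = c * f := by group

/-- The key identity in the abelianization. -/
theorem of_pow_mul_trAb {p : ℕ} [Fact p.Prime] (K : Subgroup G) {a b : G}
    (ha : a ^ p = 1) (hab : a * b = b * a)
    (haK : a ∈ Subgroup.normalizer (K : Set G)) (hbK : b ∈ Subgroup.normalizer (K : Set G))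
    (x z : K) (hz : (Abelianization.of z : Abelianization K) = trAb p K b x) :
    (Abelianization.of x : Abelianization K) ^ p * trAb p K a z =
      (∏ i : ZMod p, trAb p K (a ^ i.val * b) x) * trAb p K a x := by
  have hcomm : Commute a b := hab
  set F : ZMod p → ZMod p → Abelianization K :=
    fun i j => Abelianization.of (conjR K (a ^ i.val * b ^ j.val) x) with hF
  have key := zmod_lines_prod p F
  have e1 : ∀ i : ZMod p, trAb p K (a ^ i.val * b) x = ∏ k, F (i * k) k := by
    intro i
    unfold trAb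
    apply Finset.prod_congr rfl
    intro k _
    simp only [hF]
    congr 3
    have h1 : (a ^ i.val * b) ^ k.val = (a ^ i.val) ^ k.val * b ^ k.val :=
      ((hcomm.pow_left i.val)).mul_pow k.val
    rw [h1, ← pow_mul]
    congr 1
    rw [ZMod.val_mul, ← pow_eq_pow_mod _ ha]
  have e2 : trAb p K a x = ∏ k, F k 0 := by
    unfold trAb
    apply Finset.prod_congr rfl
    intro k _
    simp only [hF, ZMod.val_zero, pow_zero, mul_one]
  have e3 : trAb p K a z = ∏ k, ∏ j, F j k := by
    rw [Finset.prod_comm]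
    unfold trAb
    apply Finset.prod_congr rfl
    intro j _
    rw [← Abelianization.map_of, hz]
    unfold trAb
    rw [map_prod]
    apply Finset.prod_congr rfl
    intro k _
    simp only [hF]
    rw [Abelianization.map_of, ← conjR_mul K (Subgroup.pow_mem _ haK _) (Subgroup.pow_mem _ hbK _)]
  have e4 : (Abelianization.of x : Abelianization K) = F 0 0 := by
    simp only [hF, ZMod.val_zero, pow_zero, mul_one, conjR_one]
  rw [e3, e4, ← key, e2]
  congr 1
  apply Finset.prod_congr rfl
  intro i _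
  exact (e1 i).symm

theorem card_lt_card_of_lt' [Finite G] {H K : Subgroup G} (h : H < K) : Nat.card H < Nat.card K := by
  by_contra hcon
  exact h.ne (Subgroup.eq_of_le_of_card_ge h.le (not_lt.mp hcon))

/-- Generation by centralizers for a solvable group `K` of order prime to `p` acted on by
commuting elements `a`, `b` with `a ^ p = b ^ p = 1`. -/
theorem coprime_generation_solvable {p : ℕ} [Fact p.Prime] [Finite G] {a b : G}
    (ha : a ^ p = 1) (hb : b ^ p = 1) (hab : a * b = b * a) (Y : Subgroup G) (n : ℕ) :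
    ∀ K : Subgroup G, Nat.card K ≤ n → Group.IsSolvable K → ¬ p ∣ Nat.card K →
      a ∈ Subgroup.normalizer (K : Set G) → b ∈ Subgroup.normalizer (K : Set G) →
      K ⊓ Subgroup.centralizer ({a} : Set G) ≤ Y →
      (∀ i : ℕ, K ⊓ Subgroup.centralizer ({a ^ i * b} : Set G) ≤ Y) → K ≤ Y := by
  induction n with
  | zero =>
    intro K hcard
    exact absurd hcard (by have := Nat.card_pos (α := K); omega)
  | succ n ih =>
    intro K hcard hsol hK haK hbK hYa hYb
    have := hsol
    by_cases hK1 : K = ⊥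
    · rw [hK1]; exact bot_le
    -- the derived subgroup is proper and lies in Y by induction
    have hK'le : ⁅K, K⁆ ≤ K := Subgroup.commutator_le_self K
    have hK'lt : ⁅K, K⁆ < K := by
      refine lt_of_le_of_ne hK'le (fun e => ?_)
      have : Nontrivial K := (Subgroup.nontrivial_iff_ne_bot K).mpr hK1
      have h1 := Group.IsSolvable.commutator_lt_top_of_nontrivial K
      apply h1.ne
      rw [eq_top_iff]
      intro u _
      rw [mem_commutator_iff_coe, e]
      exact u.2
    have hK'Y : ⁅K, K⁆ ≤ Y := by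
      apply ih ⁅K, K⁆
      · have := card_lt_card_of_lt' hK'lt
        omega
      · exact Group.isSolvable_of_isSolvable_injective (f := Subgroup.inclusion hK'le)
          (Subgroup.inclusion_injective hK'le)
      · exact fun h => hK (h.trans (Subgroup.card_dvd_of_le hK'le))
      · exact normalizer_inf_le_normalizer_commutator K K ⟨haK, haK⟩
      · exact normalizer_inf_le_normalizer_commutator K K ⟨hbK, hbK⟩
      · exact (inf_le_inf_right _ hK'le).trans hYa
      · exact fun i => (inf_le_inf_right _ hK'le).trans (hYb i)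
    intro x hx
    set xK : K := ⟨x, hx⟩ with hxK
    obtain ⟨z, hz⟩ : ∃ z : K, Abelianization.of z = trAb p K b xK :=
      QuotientGroup.mk_surjective (trAb p K b xK)
    have key := of_pow_mul_trAb K ha hab haK hbK xK z hz
    set Y' := (Y.subgroupOf K).map (Abelianization.of : K →* Abelianization K) with hY'
    have hb' : K ⊓ Subgroup.centralizer ({b} : Set G) ≤ Y := by
      have := hYb 0
      simpa using this
    have h1 : trAb p K a z ∈ Y' := trAb_mem K Y hK haK ha hYa z
    have h2 : trAb p K a xK ∈ Y' := trAb_mem K Y hK haK ha hYa xK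
    have h3 : ∀ i : ZMod p, trAb p K (a ^ i.val * b) xK ∈ Y' := by
      intro i
      have hc : a ^ i.val * b ∈ Subgroup.normalizer (K : Set G) :=
        Subgroup.mul_mem _ (Subgroup.pow_mem _ haK _) hbK
      have hcp : (a ^ i.val * b) ^ p = 1 := by
        have hcomm : Commute a b := hab
        rw [(hcomm.pow_left i.val).mul_pow, hb, ← pow_mul, mul_comm, pow_mul, ha, one_pow, mul_one]
      exact trAb_mem K Y hK hc hcp (hYb i.val) xK
    have h4 : (Abelianization.of xK : Abelianization K) ^ p ∈ Y' := by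
      have h5 : (Abelianization.of xK : Abelianization K) ^ p =
          ((∏ i : ZMod p, trAb p K (a ^ i.val * b) xK) * trAb p K a xK) * (trAb p K a z)⁻¹ := by
        rw [← key]; group
      rw [h5]
      exact Y'.mul_mem (Y'.mul_mem (Subgroup.prod_mem _ (fun i _ => h3 i)) h2) (Y'.inv_mem h1)
    obtain ⟨g, hg, hgx⟩ := h4
    rw [← map_pow, abelianization_of_eq_iff] at hgx
    have hgY : (g : G) ∈ Y := Subgroup.mem_subgroupOf.mp hg
    have hxp : x ^ p ∈ Y := by
      have h6 := Y.mul_mem hgY (hK'Y hgx)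
      simpa [hxK] using h6
    -- x is a power of x ^ p
    have hcop : p.Coprime (orderOf x) := by
      rw [Nat.Prime.coprime_iff_not_dvd Fact.out]
      intro hdiv
      apply hK
      have : orderOf xK = orderOf x := Subgroup.orderOf_mk x hx
      exact hdiv.trans (this ▸ orderOf_dvd_natCard xK)
    obtain ⟨m, hm⟩ := exists_pow_eq_self_of_coprime hcop
    rw [← hm]
    exact Y.pow_mem hxp m


/-- A subgroup `B` lies in `C` as soon as, for every prime `q`, some Sylow `q`-subgroup of `B`
lies in `C`. -/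
theorem le_of_forall_exists_sylow_le [Finite G] {B C : Subgroup G}
    (h : ∀ (q : ℕ) [Fact q.Prime], ∃ R : Subgroup G, R ≤ B ∧ R ≤ C ∧
      Nat.card R = q ^ (Nat.card B).factorization q) : B ≤ C := by
  have hdvd : Nat.card B ∣ Nat.card (B ⊓ C : Subgroup G) := by
    rw [← Nat.factorization_prime_le_iff_dvd Nat.card_pos.ne' Nat.card_pos.ne']
    intro q hq
    have : Fact q.Prime := ⟨hq⟩
    obtain ⟨R, hRB, hRC, hRcard⟩ := h q
    have h1 : q ^ (Nat.card B).factorization q ∣ Nat.card (B ⊓ C : Subgroup G) :=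
      hRcard ▸ Subgroup.card_dvd_of_le (le_inf hRB hRC)
    exact (Nat.Prime.pow_dvd_iff_le_factorization hq Nat.card_pos.ne').mp h1
  have : B ⊓ C = B :=
    Subgroup.eq_of_le_of_card_ge inf_le_left (Nat.le_of_dvd Nat.card_pos hdvd)
  exact this ▸ inf_le_right

/-- The conjugation action of `E` on a subgroup `K` that it normalizes. -/
@[reducible] def normalizerMulDistribMulAction (E K : Subgroup G)
    (h : E ≤ Subgroup.normalizer (K : Set G)) : MulDistribMulAction E K where
  smul e k := ⟨e * k * (e : G)⁻¹, (Subgroup.mem_normalizer_iff.mp (h e.2) k).mp k.2⟩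
  one_smul k := by
    apply Subtype.ext
    show ((1 : E) : G) * k * ((1 : E) : G)⁻¹ = k
    simp
  mul_smul e₁ e₂ k := by
    apply Subtype.ext
    show ((e₁ * e₂ : E) : G) * k * ((e₁ * e₂ : E) : G)⁻¹ = e₁ * (e₂ * k * (e₂ : G)⁻¹) * (e₁ : G)⁻¹
    simp [mul_assoc]
  smul_mul e k₁ k₂ := by
    apply Subtype.ext
    show (e : G) * (k₁ * k₂ : K) * (e : G)⁻¹ = (e * k₁ * (e : G)⁻¹) * (e * k₂ * (e : G)⁻¹)
    simp [mul_assoc]
  smul_one e := by
    apply Subtype.ext
    show (e : G) * ((1 : K) : G) * (e : G)⁻¹ = 1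
    simp

/-- A `p`-group `E` normalizing a `p'`-group `K` normalizes some Sylow `q`-subgroup of `K`. -/
theorem exists_invariant_sylow [Finite G] {p : ℕ} [Fact p.Prime] (E K : Subgroup G)
    (hE : IsPGroup p E) (hEK : E ≤ Subgroup.normalizer (K : Set G)) (hK : ¬ p ∣ Nat.card K)
    (q : ℕ) [Fact q.Prime] :
    ∃ R : Subgroup G, R ≤ K ∧ IsPGroup q R ∧ Nat.card R = q ^ (Nat.card K).factorization q ∧
      E ≤ Subgroup.normalizer (R : Set G) := by
  let _ := normalizerMulDistribMulAction E K hEK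
  have hcard : ¬ p ∣ Nat.card (Sylow q K) := by
    obtain ⟨P⟩ : Nonempty (Sylow q K) := inferInstance
    intro h
    exact hK ((h.trans P.card_dvd_index).trans (Subgroup.index_dvd_card _))
  obtain ⟨R, hR⟩ := hE.nonempty_fixed_point_of_prime_not_dvd_card (Sylow q K) hcard
  refine ⟨(R : Subgroup K).map K.subtype, Subgroup.map_subtype_le _, R.isPGroup'.map _, ?_, ?_⟩
  · rw [Subgroup.card_map_of_injective K.subtype_injective]
    exact R.card_eq_multiplicity
  · rw [Subgroup.le_normalizer_iff]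
    rintro e he _ ⟨r, hr, rfl⟩
    have h1 : (⟨e, he⟩ : E) • R = R := hR ⟨e, he⟩
    have h2 : (⟨e, he⟩ : E) • r ∈ ((⟨e, he⟩ : E) • R : Sylow q K) := by
      show (⟨e, he⟩ : E) • r ∈ (((⟨e, he⟩ : E) • R : Sylow q K) : Subgroup K)
      rw [Sylow.pointwise_smul_def]
      exact Subgroup.smul_mem_pointwise_smul _ _ _ hr
    rw [h1] at h2
    exact ⟨_, h2, rfl⟩


/-- Generation by centralizers: commuting elements `a`, `b` with `a ^ p = b ^ p = 1` normalizing a
subgroup `K` of order prime to `p`. -/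
theorem coprime_generation {p : ℕ} [Fact p.Prime] [Finite G] {a b : G}
    (ha : a ^ p = 1) (hb : b ^ p = 1) (hab : a * b = b * a) (K Y : Subgroup G)
    (hK : ¬ p ∣ Nat.card K) (haK : a ∈ Subgroup.normalizer (K : Set G))
    (hbK : b ∈ Subgroup.normalizer (K : Set G))
    (hYa : K ⊓ Subgroup.centralizer ({a} : Set G) ≤ Y)
    (hYb : ∀ i : ℕ, K ⊓ Subgroup.centralizer ({a ^ i * b} : Set G) ≤ Y) : K ≤ Y := by
  set E : Subgroup G := Subgroup.zpowers a ⊔ Subgroup.zpowers b with hEdef
  have hbna : Subgroup.zpowers b ≤ Subgroup.normalizer ((Subgroup.zpowers a : Subgroup G) : Set G) := by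
    rw [Subgroup.zpowers_le]
    apply centralizer_le_normalizer' (Subgroup.zpowers a)
    rw [Subgroup.mem_centralizer_iff]
    intro x hx
    obtain ⟨k, rfl⟩ := Subgroup.mem_zpowers_iff.mp hx
    have hc : Commute a b := hab
    exact (hc.zpow_left k).eq
  have hE : IsPGroup p E :=
    (isPGroup_zpowers_of_pow_eq_one ha).to_sup_of_normal_left' (isPGroup_zpowers_of_pow_eq_one hb) hbna
  have hEK : E ≤ Subgroup.normalizer (K : Set G) :=
    sup_le (by rwa [Subgroup.zpowers_le]) (by rwa [Subgroup.zpowers_le])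
  have haE : a ∈ E := le_sup_left (a := Subgroup.zpowers a) (Subgroup.mem_zpowers a)
  have hbE : b ∈ E := le_sup_right (a := Subgroup.zpowers a) (Subgroup.mem_zpowers b)
  apply le_of_forall_exists_sylow_le
  intro q _
  obtain ⟨R, hRK, hRq, hRcard, hER⟩ := exists_invariant_sylow E K hE hEK hK q
  refine ⟨R, hRK, ?_, hRcard⟩
  have hnil : Group.IsNilpotent R := hRq.isNilpotent
  have hsol : Group.IsSolvable R := inferInstance
  exact coprime_generation_solvable ha hb hab Y (Nat.card R) R le_rfl hsol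
    (fun h => hK (h.trans (Subgroup.card_dvd_of_le hRK))) (hER haE) (hER hbE)
    ((inf_le_inf_right _ hRK).trans hYa) (fun i => (inf_le_inf_right _ hRK).trans (hYb i))

/-- Generation by centralizers of nonidentity elements, for an elementary abelian `p`-subgroup `A`
of order at least `p ^ 2` normalizing a `p'`-subgroup `K`. -/
theorem elemAb_generation {p : ℕ} [Fact p.Prime] [Finite G] (A : Subgroup G)
    (hAcomm : ∀ x ∈ A, ∀ y ∈ A, x * y = y * x) (hAexp : ∀ x ∈ A, x ^ p = 1)
    (hAcard : p ^ 2 ≤ Nat.card A) (K Y : Subgroup G) (hK : ¬ p ∣ Nat.card K)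
    (hAK : A ≤ Subgroup.normalizer (K : Set G))
    (hY : ∀ u ∈ A, u ≠ 1 → K ⊓ Subgroup.centralizer ({u} : Set G) ≤ Y) : K ≤ Y := by
  have hp1 : 1 < p := (Fact.out : p.Prime).one_lt
  have hA1 : A ≠ ⊥ := by
    rw [← Subgroup.one_lt_card_iff_ne_bot]
    calc 1 < p ^ 2 := Nat.one_lt_pow (by norm_num) hp1
      _ ≤ Nat.card A := hAcard
  obtain ⟨a, ha1⟩ := (Subgroup.ne_bot_iff_exists_ne_one).mp hA1
  have ha1' : (a : G) ≠ 1 := fun h => ha1 (Subtype.ext h)
  have hap : (a : G) ^ p = 1 := hAexp a a.2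
  have hao : orderOf (a : G) = p := orderOf_eq_prime hap ha1'
  have hlt : Subgroup.zpowers (a : G) < A := by
    refine lt_of_le_of_ne (by rw [Subgroup.zpowers_le]; exact a.2) (fun e => ?_)
    have h1 : Nat.card A = p := by rw [← e, Nat.card_zpowers, hao]
    have h2 : p < p ^ 2 := by
      calc p = p ^ 1 := (pow_one p).symm
        _ < p ^ 2 := Nat.pow_lt_pow_right hp1 (by norm_num)
    omega
  obtain ⟨b, hbA, hbna⟩ := SetLike.exists_of_lt hlt
  apply coprime_generation hap (hAexp b hbA) (hAcomm a a.2 b hbA) K Y hK (hAK a.2) (hAK hbA)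
    (hY a a.2 ha1')
  intro i
  apply hY _ (A.mul_mem (A.pow_mem a.2 i) hbA)
  intro h
  apply hbna
  have : b = ((a : G) ^ i)⁻¹ := by
    rw [eq_inv_iff_mul_eq_one, ← h]
    exact (hAcomm _ (A.pow_mem a.2 i) b hbA).symm
  rw [this]
  exact Subgroup.inv_mem _ (Subgroup.pow_mem _ (Subgroup.mem_zpowers _) i)

end Cfsg.Agent.Lib.Helper48
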