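import Mathlib.GroupTheory.Sylow
import Mathlib.GroupTheory.Nilpotent
import Cfsg.Prelude.Def_EvenType

/-!
# Strongly `p`-embedded subgroups: basic toolkit (helper48)

Working forms of `Cfsg.IsStronglyPEmbedded`:
* `spe_iff`: the definition unfolded to "normalizers of nontrivial subgroups of a Sylow subgroup";
* `spe_elem'`: the elementwise form: if `x ∈ H` has order `p` and `g x g⁻¹ ∈ H` then `g ∈ H`;
* `spe_of_elem`: the converse.
Also some relative Sylow theory for subgroups of a finite group, stated with cardinalities.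
-/

set_option autoImplicit false

namespace Cfsg.Agent.Lib.Helper48

open scoped Pointwise

variable {G : Type*} [Group G]

/-! ### Small facts -/

theorem isPGroup_zpowers_of_orderOf {p : ℕ} [Fact p.Prime] {x : G} (hx : orderOf x = p) :
    IsPGroup p (Subgroup.zpowers x) := by
  apply IsPGroup.of_card (n := 1)
  rw [Nat.card_zpowers, hx, pow_one]

theorem ne_one_of_orderOf_eq_prime {p : ℕ} [Fact p.Prime] {x : G} (hx : orderOf x = p) :
    x ≠ 1 := by
  rintro rfl
  rw [orderOf_one] at hx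
  exact (Fact.out : p.Prime).one_lt.ne hx

theorem card_map_conj (T : Subgroup G) (g : G) :
    Nat.card (T.map (MulAut.conj g).toMonoidHom) = Nat.card T :=
  Subgroup.card_map_of_injective (MulAut.conj g).injective

theorem map_conj_ne_bot {Q : Subgroup G} (hQ : Q ≠ ⊥) (h : G) :
    Q.map (MulAut.conj h).toMonoidHom ≠ ⊥ := by
  intro h1
  apply hQ
  rw [Subgroup.map_eq_bot_iff] at h1
  exact le_bot_iff.mp
    (h1.trans (by simp [MonoidHom.ker_eq_bot_iff, (MulAut.conj h).injective]))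

/-- A nontrivial `p`-subgroup contains an element of order `p`. -/
theorem exists_orderOf_eq_of_ne_bot {p : ℕ} [Fact p.Prime] [Finite G] {Q : Subgroup G}
    (hQ : IsPGroup p Q) (hQ1 : Q ≠ ⊥) : ∃ x ∈ Q, orderOf x = p := by
  have hp : p ∣ Nat.card Q := by
    obtain ⟨n, hn⟩ := IsPGroup.exists_card_eq hQ
    rcases n with _ | n
    · exfalso; apply hQ1
      rw [pow_zero] at hn
      exact Subgroup.card_eq_one.mp hn
    · rw [hn]; exact dvd_pow_self p (Nat.succ_ne_zero n)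
  obtain ⟨x, hx⟩ := exists_prime_orderOf_dvd_card' p hp
  exact ⟨x, x.2, by rw [← hx, Subgroup.orderOf_coe]⟩

/-- A subgroup of order divisible by `p` contains an element of order `p`. -/
theorem exists_orderOf_eq_of_dvd_card {p : ℕ} [Fact p.Prime] [Finite G] {K : Subgroup G}
    (hp : p ∣ Nat.card K) : ∃ x ∈ K, orderOf x = p := by
  obtain ⟨x, hx⟩ := exists_prime_orderOf_dvd_card' p hp
  exact ⟨x, x.2, by rw [← hx, Subgroup.orderOf_coe]⟩

/-- A nontrivial `p`-subgroup has a central element of order `p`. -/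
theorem exists_central_orderOf_eq {p : ℕ} [Fact p.Prime] [Finite G] {T : Subgroup G}
    (hT : IsPGroup p T) (hT1 : T ≠ ⊥) :
    ∃ z ∈ T, orderOf z = p ∧ ∀ t ∈ T, t * z = z * t := by
  have : Nontrivial T := (Subgroup.nontrivial_iff_ne_bot T).mpr hT1
  have hZ : Nontrivial (Subgroup.center T) := hT.center_nontrivial
  have hZp : IsPGroup p (Subgroup.center T) := hT.to_subgroup _
  have hZ1 : Subgroup.center T ≠ ⊥ := (Subgroup.nontrivial_iff_ne_bot _).mp hZ
  obtain ⟨z, hz, hzo⟩ := exists_orderOf_eq_of_ne_bot hZp hZ1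
  refine ⟨z, z.2, by rw [← hzo, Subgroup.orderOf_coe], ?_⟩
  intro t ht
  have := (Subgroup.mem_center_iff.mp hz) ⟨t, ht⟩
  exact congrArg Subtype.val this

/-! ### `PRankLE p 0` and the definition of strong `p`-embedding -/

theorem not_pRankLE_zero_iff {p : ℕ} [Fact p.Prime] [Finite G] (Q : Subgroup G)
    (hQ : IsPGroup p Q) : ¬ Cfsg.PRankLE p 0 Q ↔ Q ≠ ⊥ := by
  constructor
  · intro h hQ'
    apply h
    intro A _ _
    subst hQ'
    have : Nat.card A ≤ Nat.card (⊥ : Subgroup G) := Subgroup.card_le_card_group A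
    simpa using this
  · intro hne h
    obtain ⟨x, hxQ, hx⟩ := exists_orderOf_eq_of_ne_bot hQ hne
    have h1 := h (Subgroup.zpowers (⟨x, hxQ⟩ : Q)) inferInstance (by
      intro a ha
      obtain ⟨k, rfl⟩ := Subgroup.mem_zpowers_iff.mp ha
      have hx' : orderOf (⟨x, hxQ⟩ : Q) = p := by rw [← hx, ← Subgroup.orderOf_coe]
      rw [← zpow_natCast, ← zpow_mul, mul_comm, zpow_mul, zpow_natCast, ← hx',
        pow_orderOf_eq_one, one_zpow])
    have hx' : orderOf (⟨x, hxQ⟩ : Q) = p := by rw [← hx, ← Subgroup.orderOf_coe]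
    rw [Nat.card_zpowers, hx', pow_zero] at h1
    exact absurd h1 (by have := (Fact.out : p.Prime).two_le; omega)

theorem spe_iff {p : ℕ} [Fact p.Prime] [Finite G] (H : Subgroup G) :
    Cfsg.IsStronglyPEmbedded p H ↔ p ∣ Nat.card G ∧ H ≠ ⊤ ∧ ∃ P : Sylow p G,
      ∀ Q : Subgroup G, Q ≤ P → Q ≠ ⊥ → Subgroup.normalizer (Q : Set G) ≤ H := by
  unfold Cfsg.IsStronglyPEmbedded Cfsg.kGeneratedCore
  refine and_congr Iff.rfl (and_congr Iff.rfl (exists_congr fun P => ?_))
  rw [iSup_le_iff]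
  constructor
  · intro h Q hQP hQ1
    exact h ⟨Q, hQP, (not_pRankLE_zero_iff Q (P.isPGroup'.to_le hQP)).mpr hQ1⟩
  · rintro h ⟨Q, hQP, hQ⟩
    exact h Q hQP ((not_pRankLE_zero_iff Q (P.isPGroup'.to_le hQP)).mp hQ)

/-! ### Relative Sylow theory -/

/-- Normalizers grow in `p`-groups (relative form). -/
theorem exists_mem_normalizer_not_mem {p : ℕ} [Fact p.Prime] [Finite G] {T T₁ : Subgroup G}
    (hT₁ : IsPGroup p T₁) (h : T < T₁) :
    ∃ n ∈ T₁, n ∈ Subgroup.normalizer (T : Set G) ∧ n ∉ T := by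
  have : Group.IsNilpotent T₁ := hT₁.isNilpotent
  have hnc := Group.normalizerCondition_of_isNilpotent (G := T₁)
  have hlt : T.subgroupOf T₁ < ⊤ := by
    rw [lt_top_iff_ne_top, Ne, Subgroup.subgroupOf_eq_top]
    exact not_le_of_gt h
  have h2 := hnc _ hlt
  obtain ⟨n, hn, hn'⟩ := SetLike.exists_of_lt h2
  refine ⟨n, n.2, ?_, ?_⟩
  · rw [← Subgroup.subgroupOf_normalizer_eq h.le] at hn
    exact hn
  · exact hn'

/-- Every `p`-subgroup of `D` lies in a maximal `p`-subgroup of `D` (a Sylow subgroup of `D`,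
viewed in `G`). -/
theorem exists_max_pSubgroup {p : ℕ} [Fact p.Prime] [Finite G] (D Q : Subgroup G) (hQD : Q ≤ D)
    (hQ : IsPGroup p Q) :
    ∃ T : Subgroup G, Q ≤ T ∧ T ≤ D ∧ IsPGroup p T ∧
      (∀ T' : Subgroup G, IsPGroup p T' → T' ≤ D → T ≤ T' → T' ≤ T) ∧
      Nat.card T = p ^ (Nat.card D).factorization p := by
  have hQ' : IsPGroup p (Q.subgroupOf D) := hQ.comap_subtype
  obtain ⟨R, hR⟩ := hQ'.exists_le_sylow
  refine ⟨(R : Subgroup D).map D.subtype, ?_, ?_, ?_, ?_, ?_⟩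
  · intro q hq
    exact ⟨⟨q, hQD hq⟩, hR (by simpa [Subgroup.mem_subgroupOf] using hq), rfl⟩
  · exact Subgroup.map_subtype_le _
  · exact R.isPGroup'.map _
  · intro T' hT' hT'D hle
    have h1 : IsPGroup p (T'.subgroupOf D) := hT'.comap_subtype
    have h2 : (R : Subgroup D) ≤ T'.subgroupOf D := by
      intro r hr
      rw [Subgroup.mem_subgroupOf]
      exact hle ⟨r, hr, rfl⟩
    have h3 := R.is_maximal' h1 h2
    intro t ht
    exact ⟨⟨t, hT'D ht⟩, by rw [← h3]; simpa [Subgroup.mem_subgroupOf] using ht, rfl⟩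
  · rw [Subgroup.card_map_of_injective D.subtype_injective]
    exact R.card_eq_multiplicity

/-- A `p`-subgroup of `D` has order at most the `p`-part of `|D|`. -/
theorem card_le_of_isPGroup {p : ℕ} [Fact p.Prime] [Finite G] {D T : Subgroup G} (hTD : T ≤ D)
    (hT : IsPGroup p T) : Nat.card T ≤ p ^ (Nat.card D).factorization p := by
  obtain ⟨n, hn⟩ := IsPGroup.exists_card_eq hT
  rw [hn]
  apply Nat.pow_le_pow_right (Fact.out : p.Prime).pos
  have h1 : p ^ n ∣ Nat.card D := hn ▸ Subgroup.card_dvd_of_le hTD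
  exact (Nat.Prime.pow_dvd_iff_le_factorization Fact.out Nat.card_pos.ne').mp h1

/-- A subgroup of `D` whose order is the `p`-part of `|D|` is maximal among `p`-subgroups
of `D`. -/
theorem eq_of_le_of_card_eq {p : ℕ} [Fact p.Prime] [Finite G] {D T T₁ : Subgroup G}
    (hcard : Nat.card T = p ^ (Nat.card D).factorization p) (hT₁D : T₁ ≤ D)
    (hT₁ : IsPGroup p T₁) (hle : T ≤ T₁) : T = T₁ :=
  Subgroup.eq_of_le_of_card_ge hle (hcard ▸ card_le_of_isPGroup hT₁D hT₁)

/-- Sylow's conjugacy theorem inside a subgroup `H`, in cardinality form. -/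
theorem exists_conj_le_of_card {p : ℕ} [Fact p.Prime] [Finite G] (H P' : Subgroup G)
    (hPH : P' ≤ H) (hcard : Nat.card P' = p ^ (Nat.card H).factorization p)
    (Q : Subgroup G) (hQH : Q ≤ H) (hQ : IsPGroup p Q) :
    ∃ h ∈ H, Q.map (MulAut.conj h).toMonoidHom ≤ P' := by
  have hQ' : IsPGroup p (Q.subgroupOf H) := hQ.comap_subtype
  obtain ⟨R, hR⟩ := hQ'.exists_le_sylow
  have hc' : Nat.card (P'.subgroupOf H) = p ^ (Nat.card H).factorization p := by
    rw [← hcard]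
    exact Nat.card_congr (Subgroup.subgroupOfEquivOfLe hPH).toEquiv
  obtain ⟨h, hh⟩ := MulAction.exists_smul_eq H R (Sylow.ofCard (P'.subgroupOf H) hc')
  refine ⟨h, h.2, ?_⟩
  rintro _ ⟨q, hq, rfl⟩
  have hqR : (⟨q, hQH hq⟩ : H) ∈ (R : Subgroup H) :=
    hR (by simpa [Subgroup.mem_subgroupOf] using hq)
  have h3 : MulAut.conj h • (⟨q, hQH hq⟩ : H) ∈ MulAut.conj h • (R : Subgroup H) :=
    Subgroup.smul_mem_pointwise_smul _ _ _ hqR
  rw [← Sylow.coe_subgroup_smul, hh, Sylow.coe_ofCard, Subgroup.mem_subgroupOf] at h3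
  simpa using h3

/-- The `p`-part of `|H|` equals the `p`-part of `|G|` if `H` contains a Sylow `p`-subgroup
of `G`. -/
theorem factorization_card_eq_of_sylow_le {p : ℕ} [Fact p.Prime] [Finite G] {H : Subgroup G}
    {P : Sylow p G} (hPH : (P : Subgroup G) ≤ H) :
    (Nat.card H).factorization p = (Nat.card G).factorization p := by
  apply le_antisymm
  · exact (Nat.factorization_le_iff_dvd Nat.card_pos.ne' Nat.card_pos.ne').mpr
      (Subgroup.card_subgroup_dvd_card H) p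
  · have h1 : p ^ (Nat.card G).factorization p ∣ Nat.card H := by
      rw [← P.card_eq_multiplicity]
      exact Subgroup.card_dvd_of_le hPH
    exact (Nat.Prime.pow_dvd_iff_le_factorization Fact.out Nat.card_pos.ne').mp h1

/-- Conjugating a `p`-subgroup of `H` into a given Sylow subgroup of `G` lying in `H`,
by an element of `H`. -/
theorem exists_conj_le_sylow {p : ℕ} [Fact p.Prime] [Finite G] (H : Subgroup G) (P : Sylow p G)
    (hPH : (P : Subgroup G) ≤ H) (Q : Subgroup G) (hQH : Q ≤ H) (hQ : IsPGroup p Q) :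
    ∃ h ∈ H, Q.map (MulAut.conj h).toMonoidHom ≤ P :=
  exists_conj_le_of_card H P hPH
    (by rw [P.card_eq_multiplicity, factorization_card_eq_of_sylow_le hPH]) Q hQH hQ

/-! ### Strongly `p`-embedded subgroups: from normalizers to elements -/

/-- Step 1: normalizers of all nontrivial `p`-subgroups of `H` lie in `H`. -/
theorem spe_normalizer_le {p : ℕ} [Fact p.Prime] [Finite G] {H : Subgroup G} {P : Sylow p G}
    (hPH : (P : Subgroup G) ≤ H)
    (hnorm : ∀ Q : Subgroup G, Q ≤ P → Q ≠ ⊥ → Subgroup.normalizer (Q : Set G) ≤ H)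
    {Q : Subgroup G} (hQH : Q ≤ H) (hQ : IsPGroup p Q) (hQ1 : Q ≠ ⊥) :
    Subgroup.normalizer (Q : Set G) ≤ H := by
  obtain ⟨h, hh, hle⟩ := exists_conj_le_sylow H P hPH Q hQH hQ
  have h1 := hnorm _ hle (map_conj_ne_bot hQ1 h)
  intro n hn
  have h2 : (MulAut.conj h).toMonoidHom n ∈
      Subgroup.normalizer ((Q.map (MulAut.conj h).toMonoidHom : Subgroup G) : Set G) :=
    Subgroup.le_normalizer_map _ ⟨n, hn, rfl⟩
  have h3 := h1 h2
  simp only [MulEquiv.toMonoidHom_eq_coe, MonoidHom.coe_coe, MulAut.conj_apply] at h3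
  have h4 := H.mul_mem (H.mul_mem (H.inv_mem hh) h3) hh
  simpa [mul_assoc] using h4

/-- Step 2: the elementwise form of strong `p`-embedding. -/
theorem spe_elem {p : ℕ} [Fact p.Prime] [Finite G] {H : Subgroup G} {P : Sylow p G}
    (hPH : (P : Subgroup G) ≤ H)
    (hnorm : ∀ Q : Subgroup G, Q ≤ P → Q ≠ ⊥ → Subgroup.normalizer (Q : Set G) ≤ H)
    (g x : G) (hx : orderOf x = p) (hxH : x ∈ H) (hgx : g * x * g⁻¹ ∈ H) : g ∈ H := by
  set c : G →* G := (MulAut.conj g).toMonoidHom with hc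
  set D : Subgroup G := H ⊓ H.comap c with hD
  have hxD : x ∈ D := ⟨hxH, by simpa [hc, Subgroup.mem_comap] using hgx⟩
  obtain ⟨T, hQT, hTD, hTp, hTmax, -⟩ := exists_max_pSubgroup D (Subgroup.zpowers x)
    (by rwa [Subgroup.zpowers_le]) (isPGroup_zpowers_of_orderOf hx)
  have hxT : x ∈ T := hQT (Subgroup.mem_zpowers x)
  have hT1 : T ≠ ⊥ := by
    intro h
    rw [h, Subgroup.mem_bot] at hxT
    exact ne_one_of_orderOf_eq_prime hx hxT
  have hTH : T ≤ H := hTD.trans inf_le_left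
  have hNT : Subgroup.normalizer (T : Set G) ≤ H := spe_normalizer_le hPH hnorm hTH hTp hT1
  have hTc : T.map c ≤ H := by
    rw [Subgroup.map_le_iff_le_comap]; exact hTD.trans inf_le_right
  have hTc1 : T.map c ≠ ⊥ := map_conj_ne_bot hT1 g
  have hNTc : Subgroup.normalizer ((T.map c : Subgroup G) : Set G) ≤ H :=
    spe_normalizer_le hPH hnorm hTc (hTp.map c) hTc1
  have hND : Subgroup.normalizer (T : Set G) ≤ D := by
    intro n hn
    refine ⟨hNT hn, ?_⟩
    show n ∈ H.comap c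
    rw [Subgroup.mem_comap]
    exact hNTc (Subgroup.le_normalizer_map c ⟨n, hn, rfl⟩)
  -- T is a maximal p-subgroup of H
  have hTmaxH : ∀ T₁ : Subgroup G, IsPGroup p T₁ → T₁ ≤ H → T ≤ T₁ → T₁ ≤ T := by
    intro T₁ hT₁ hT₁H hle
    by_contra hcon
    have hlt : T < T₁ := lt_of_le_of_ne hle (fun h => hcon (h ▸ le_rfl))
    obtain ⟨n, hn1, hn2, hn3⟩ := exists_mem_normalizer_not_mem hT₁ hlt
    have h1 : T ⊔ Subgroup.zpowers n ≤ T₁ := sup_le hle (by rwa [Subgroup.zpowers_le])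
    have h2 : T ⊔ Subgroup.zpowers n ≤ D :=
      sup_le hTD (by rw [Subgroup.zpowers_le]; exact hND hn2)
    have h3 := hTmax _ (hT₁.to_le h1) h2 le_sup_left
    exact hn3 (h3 (le_sup_right (a := T) (Subgroup.mem_zpowers n)))
  -- card T = card P
  have hcardT : Nat.card T = Nat.card (P : Subgroup G) := by
    obtain ⟨T', hTT', hT'H, hT'p, -, hT'card⟩ := exists_max_pSubgroup H T hTH hTp
    have hTT : T' = T := le_antisymm (hTmaxH T' hT'p hT'H hTT') hTT'
    rw [hTT] at hT'card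
    rw [hT'card, P.card_eq_multiplicity, factorization_card_eq_of_sylow_le hPH]
  obtain ⟨h₁, hh₁, hle₁⟩ := exists_conj_le_sylow H P hPH T hTH hTp
  obtain ⟨h₂, hh₂, hle₂⟩ := exists_conj_le_sylow H P hPH (T.map c) hTc (hTp.map c)
  have e₁ : T.map (MulAut.conj h₁).toMonoidHom = P :=
    Subgroup.eq_of_le_of_card_ge hle₁ (by rw [card_map_conj, hcardT])
  have e₂ : (T.map c).map (MulAut.conj h₂).toMonoidHom = P :=
    Subgroup.eq_of_le_of_card_ge hle₂ (by rw [card_map_conj, hc, card_map_conj, hcardT])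
  have e₃ : T.map (MulAut.conj (h₁⁻¹ * h₂ * g)).toMonoidHom = T := by
    have : (MulAut.conj (h₁⁻¹ * h₂ * g)).toMonoidHom =
        ((MulAut.conj h₁⁻¹).toMonoidHom.comp (MulAut.conj h₂).toMonoidHom).comp c := by
      ext y; simp [hc, mul_assoc]
    rw [this, ← Subgroup.map_map, ← Subgroup.map_map, e₂, ← e₁, Subgroup.map_map]
    have : (MulAut.conj h₁⁻¹).toMonoidHom.comp (MulAut.conj h₁).toMonoidHom =
        MonoidHom.id G := by
      ext y; simp [mul_assoc]
    rw [this, Subgroup.map_id]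
  have h5 : h₁⁻¹ * h₂ * g ∈ Subgroup.normalizer (T : Set G) :=
    Subgroup.mem_normalizer_iff_map_conj_eq.mpr e₃
  have h6 := hNT h5
  have h7 := H.mul_mem (H.mul_mem (H.inv_mem hh₂) hh₁) h6
  simpa [mul_assoc] using h7

/-- Data extracted from the definition of a strongly `p`-embedded subgroup. -/
theorem spe_data {p : ℕ} [Fact p.Prime] [Finite G] {H : Subgroup G}
    (hH : Cfsg.IsStronglyPEmbedded p H) :
    p ∣ Nat.card G ∧ H ≠ ⊤ ∧ ∃ P : Sylow p G, (P : Subgroup G) ≠ ⊥ ∧ (P : Subgroup G) ≤ H ∧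
      ∀ Q : Subgroup G, Q ≤ P → Q ≠ ⊥ → Subgroup.normalizer (Q : Set G) ≤ H := by
  obtain ⟨hdiv, hne, P, hP⟩ := (spe_iff H).mp hH
  have hP1 : (P : Subgroup G) ≠ ⊥ := P.ne_bot_of_dvd_card hdiv
  exact ⟨hdiv, hne, P, hP1, Subgroup.le_normalizer.trans (hP P le_rfl hP1), hP⟩

/-- The elementwise form of strong `p`-embedding. -/
theorem spe_elem' {p : ℕ} [Fact p.Prime] [Finite G] {H : Subgroup G}
    (hH : Cfsg.IsStronglyPEmbedded p H) (g x : G) (hx : orderOf x = p) (hxH : x ∈ H)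
    (hgx : g * x * g⁻¹ ∈ H) : g ∈ H := by
  obtain ⟨-, -, P, -, hPH, hP⟩ := spe_data hH
  exact spe_elem hPH hP g x hx hxH hgx

/-- `p` divides the order of a strongly `p`-embedded subgroup. -/
theorem spe_dvd_card {p : ℕ} [Fact p.Prime] [Finite G] {H : Subgroup G}
    (hH : Cfsg.IsStronglyPEmbedded p H) : p ∣ Nat.card H := by
  obtain ⟨hdiv, -, P, -, hPH, -⟩ := spe_data hH
  exact (P.dvd_card_of_dvd_card hdiv).trans (Subgroup.card_dvd_of_le hPH)

/-- In a strongly `p`-embedded subgroup, normalizers of all nontrivial `p`-subgroups of `H` lie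
in `H`. -/
theorem spe_normalizer_le' {p : ℕ} [Fact p.Prime] [Finite G] {H : Subgroup G}
    (hH : Cfsg.IsStronglyPEmbedded p H) {Q : Subgroup G} (hQH : Q ≤ H) (hQ : IsPGroup p Q)
    (hQ1 : Q ≠ ⊥) : Subgroup.normalizer (Q : Set G) ≤ H := by
  obtain ⟨-, -, P, -, hPH, hP⟩ := spe_data hH
  exact spe_normalizer_le hPH hP hQH hQ hQ1

/-! ### The elementwise property -/

/-- `K` is elementwise strongly `p`-embedded in `L`. -/
def ElemSE (p : ℕ) (K L : Subgroup G) : Prop :=
  ∀ g ∈ L, ∀ x ∈ K, orderOf x = p → g * x * g⁻¹ ∈ K → g ∈ K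

theorem ElemSE.inf {p : ℕ} {K : Subgroup G} (h : ElemSE p K ⊤) (L : Subgroup G) :
    ElemSE p (K ⊓ L) L :=
  fun g hg x hx hxp hgx => ⟨h g (Subgroup.mem_top g) x hx.1 hxp hgx.1, hg⟩

/-- A `p`-subgroup of `L` meeting the elementwise strongly `p`-embedded `K` nontrivially
lies in `K`. -/
theorem ElemSE.le_of_inf_ne_bot {p : ℕ} [Fact p.Prime] [Finite G] {K L : Subgroup G}
    (h : ElemSE p K L) {T₁ : Subgroup G} (hT₁L : T₁ ≤ L) (hT₁ : IsPGroup p T₁)
    (hne : T₁ ⊓ K ≠ ⊥) : T₁ ≤ K := by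
  by_contra hcon
  have hlt : T₁ ⊓ K < T₁ := lt_of_le_of_ne inf_le_left (fun e => hcon (e ▸ inf_le_right))
  obtain ⟨n, hn1, hn2, hn3⟩ := exists_mem_normalizer_not_mem hT₁ hlt
  obtain ⟨x, hx, hxp⟩ := exists_orderOf_eq_of_ne_bot (hT₁.to_le inf_le_left) hne
  have h1 : n * x * n⁻¹ ∈ T₁ ⊓ K := (Subgroup.mem_normalizer_iff.mp hn2 x).mp hx
  exact hn3 ⟨hn1, h n (hT₁L hn1) x hx.2 hxp h1.2⟩

/-- Sylow `p`-subgroups of an elementwise strongly `p`-embedded subgroup `K ≤ L` of order divisible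
by `p` are Sylow in `L`. -/
theorem ElemSE.factorization_eq {p : ℕ} [Fact p.Prime] [Finite G] {K L : Subgroup G}
    (h : ElemSE p K L) (hKL : K ≤ L) (hp : p ∣ Nat.card K) :
    (Nat.card K).factorization p = (Nat.card L).factorization p := by
  obtain ⟨T, -, hTK, hTp, hTmax, hTcard⟩ := exists_max_pSubgroup (p := p) K ⊥ bot_le IsPGroup.of_bot
  have hT1 : T ≠ ⊥ := by
    intro e
    rw [e, Subgroup.card_bot] at hTcard
    have h0 : (Nat.card K).factorization p = 0 := by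
      by_contra h0
      have := Nat.one_lt_pow h0 (Fact.out : p.Prime).one_lt
      omega
    have := (Nat.Prime.dvd_iff_one_le_factorization Fact.out Nat.card_pos.ne').mp hp
    omega
  obtain ⟨T₁, hTT₁, hT₁L, hT₁p, -, hT₁card⟩ := exists_max_pSubgroup L T (hTK.trans hKL) hTp
  have hne : T₁ ⊓ K ≠ ⊥ := by
    intro e
    apply hT1
    exact le_bot_iff.mp (e ▸ le_inf hTT₁ hTK)
  have hT₁K : T₁ ≤ K := h.le_of_inf_ne_bot hT₁L hT₁p hne
  have hTT : T₁ = T := le_antisymm (hTmax T₁ hT₁p hT₁K hTT₁) hTT₁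
  rw [hTT, hTcard] at hT₁card
  exact Nat.pow_right_injective (Fact.out : p.Prime).two_le hT₁card

/-- The definition of strong `p`-embedding gives the elementwise property. -/
theorem spe_elemSE {p : ℕ} [Fact p.Prime] [Finite G] {H : Subgroup G}
    (hH : Cfsg.IsStronglyPEmbedded p H) : ElemSE p H ⊤ :=
  fun g _ x hx hxp hgx => spe_elem' hH g x hxp hx hgx

/-- Conversely the elementwise property gives strong `p`-embedding. -/
theorem spe_of_elemSE {p : ℕ} [Fact p.Prime] [Finite G] {H : Subgroup G}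
    (h : ElemSE p H ⊤) (hp : p ∣ Nat.card H) (hne : H ≠ ⊤) : Cfsg.IsStronglyPEmbedded p H := by
  rw [spe_iff]
  refine ⟨hp.trans (Subgroup.card_subgroup_dvd_card H), hne, ?_⟩
  obtain ⟨T, -, hTH, hTp, -, hTcard⟩ := exists_max_pSubgroup (p := p) H ⊥ bot_le IsPGroup.of_bot
  have hfac := h.factorization_eq le_top hp
  rw [Subgroup.card_top] at hfac
  rw [hfac] at hTcard
  refine ⟨Sylow.ofCard T hTcard, ?_⟩
  intro Q hQT hQ1 n hn
  rw [Sylow.coe_ofCard] at hQT
  obtain ⟨x, hx, hxp⟩ := exists_orderOf_eq_of_ne_bot (hTp.to_le hQT) hQ1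
  have h1 : n * x * n⁻¹ ∈ Q := (Subgroup.mem_normalizer_iff.mp hn x).mp hx
  exact h n (Subgroup.mem_top n) x (hTH (hQT hx)) hxp (hTH (hQT h1))

end Cfsg.Agent.Lib.Helper48
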