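import Mathlib
import Cfsg.Agent.Lib.Helper78.FiniteOrderSpectral

/-!
# W2P module [REP] (helper48, for helper12's S0720 project)

`no_rep`: an irreducible complex representation of degree `n ≥ 2` cannot have nonzero fixed
vectors `v₁`, `v₂` of subgroups `H₁`, `H₂` generating `G`, if some `w ∈ H₁ ⊓ H₂` normalizes a
cyclic group `⟨π⟩` of prime order `p`, acting on it as the `k`-th power with `k` of order `n`
mod `p`, while `ρ π` has simple eigenvalues, none equal to `1`.
-/

set_option autoImplicit false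

namespace Cfsg.Agent.Lib.Helper48

open Finset Cfsg.Agent.Lib.Helper78

section Reindex

/-- Re-indexing a `p`-periodic sum by multiplication with `k` prime to `p`. -/
theorem sum_range_mul_of_periodic {M : Type*} [AddCommMonoid M] (f : ℕ → M) {p k : ℕ}
    (hp : p.Prime) (hk : ¬ p ∣ k) (hf : ∀ m, f (m % p) = f m) :
    ∑ i ∈ range p, f (i * k) = ∑ i ∈ range p, f i := by
  have : Fact p.Prime := ⟨hp⟩
  have : NeZero p := ⟨hp.ne_zero⟩
  have hk0 : (k : ZMod p) ≠ 0 := by
    rw [Ne, ZMod.natCast_eq_zero_iff]; exact hk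
  -- sums over `range p` of functions of the class are sums over `ZMod p`
  have key : ∀ G : ZMod p → M, ∑ i ∈ range p, G (i : ZMod p) = ∑ x : ZMod p, G x := by
    intro G
    refine Finset.sum_nbij' (fun i => (i : ZMod p)) (fun x => x.val) ?_ ?_ ?_ ?_ ?_
    · intro a _; exact Finset.mem_univ _
    · intro a _; exact Finset.mem_range.mpr (ZMod.val_lt a)
    · intro a ha; exact ZMod.val_natCast_of_lt (Finset.mem_range.mp ha)
    · intro a _; exact ZMod.natCast_zmod_val a
    · intro a _; rfl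
  have hF : ∀ m : ℕ, f m = f ((m : ZMod p).val) := by
    intro m; rw [ZMod.val_natCast, hf]
  calc ∑ i ∈ range p, f (i * k)
      = ∑ i ∈ range p, (fun x : ZMod p => f ((x * (k : ZMod p)).val)) (i : ZMod p) := by
        apply Finset.sum_congr rfl
        intro i _
        show f (i * k) = f ((((i : ZMod p)) * (k : ZMod p)).val)
        rw [hF (i * k), Nat.cast_mul]
    _ = ∑ x : ZMod p, f ((x * (k : ZMod p)).val) :=
        key (fun x : ZMod p => f ((x * (k : ZMod p)).val))
    _ = ∑ x : ZMod p, f (x.val) :=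
        Equiv.sum_comp (Equiv.mulRight₀ (k : ZMod p) hk0) (fun x : ZMod p => f x.val)
    _ = ∑ i ∈ range p, (fun x : ZMod p => f x.val) (i : ZMod p) := (key _).symm
    _ = ∑ i ∈ range p, f i := by
        apply Finset.sum_congr rfl
        intro i _
        exact (hF i).symm

end Reindex

section Intertwine

variable {V : Type*} [AddCommGroup V] [Module ℂ V]

theorem pow_mul_of_intertwine {A U : Module.End ℂ V} {k : ℕ} (hAU : A * U = U * A ^ k)
    (i : ℕ) : A ^ i * U = U * A ^ (i * k) := by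
  induction i with
  | zero => simp
  | succ i ih =>
    rw [pow_succ, mul_assoc, hAU, ← mul_assoc, ih, mul_assoc, ← pow_add, add_mul, one_mul]

theorem specIdem_intertwine {A U : Module.End ℂ V} {p k : ℕ} (hp : p.Prime) (hk : ¬ p ∣ k)
    (hA : A ^ p = 1) {ξ : ℂ} (hξ : ξ ^ p = 1) (hAU : A * U = U * A ^ k) (j : ℕ) :
    specIdem A p ξ (j * k) * U = U * specIdem A p ξ j := by
  unfold specIdem
  rw [smul_mul_assoc, mul_smul_comm, Finset.sum_mul, Finset.mul_sum]
  congr 1
  have hper : ∀ m : ℕ, (fun m : ℕ => U * ((ξ ^ (m * j)) • A ^ m)) (m % p) =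
      (fun m : ℕ => U * ((ξ ^ (m * j)) • A ^ m)) m := by
    intro m
    show U * ((ξ ^ ((m % p) * j)) • A ^ (m % p)) = U * ((ξ ^ (m * j)) • A ^ m)
    rw [pow_mul ξ (m % p) j, pow_mul ξ m j, ← pow_eq_pow_mod m hξ, ← pow_eq_pow_mod m hA]
  rw [← sum_range_mul_of_periodic (fun m : ℕ => U * ((ξ ^ (m * j)) • A ^ m)) hp hk hper]
  apply Finset.sum_congr rfl
  intro i _
  show (ξ ^ (i * (j * k))) • A ^ i * U = U * ((ξ ^ (i * k * j)) • A ^ (i * k))
  rw [smul_mul_assoc, pow_mul_of_intertwine hAU i, mul_smul_comm]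
  congr 2
  ring

theorem specIdem_congr_pow (A : Module.End ℂ V) (p : ℕ) {ξ : ℂ} {j j' : ℕ}
    (h : ξ ^ j = ξ ^ j') : specIdem A p ξ j = specIdem A p ξ j' := by
  unfold specIdem
  congr 1
  apply Finset.sum_congr rfl
  intro i _
  rw [mul_comm i j, mul_comm i j', pow_mul, pow_mul, h]

end Intertwine

section Fixed

variable {V : Type*} [AddCommGroup V] [Module ℂ V] [FiniteDimensional ℂ V]

open Module in
/-- Key linear algebra: the fixed space of `U` is at most one-dimensional. -/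
theorem fixed_dependent (A U U' : Module.End ℂ V) {p k n : ℕ} (hp : p.Prime) (hA : A ^ p = 1)
    (hAU : A * U = U * A ^ k) (hU : U' * U = 1) (hkd : orderOf (k : ZMod p) = n) (hn : 2 ≤ n)
    (hfr : Module.finrank ℂ V = n)
    (hmult : ∀ ω : ℂ, Module.finrank ℂ (Module.End.eigenspace A ω) ≤ 1)
    (h1 : Module.End.eigenspace A 1 = ⊥) (v₁ v₂ : V) (hv₁ : v₁ ≠ 0) (hU₁ : U v₁ = v₁)
    (hU₂ : U v₂ = v₂) : ∃ c : ℂ, v₂ = c • v₁ := by
  have hfp : Fact p.Prime := ⟨hp⟩
  have hn0 : n ≠ 0 := by omega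
  -- `k` is a unit mod `p`
  have hkn : (k : ZMod p) ^ n = 1 := by rw [← hkd]; exact pow_orderOf_eq_one _
  have hk : ¬ p ∣ k := by
    intro h
    rw [← ZMod.natCast_eq_zero_iff] at h
    rw [h, zero_pow hn0] at hkn
    exact zero_ne_one hkn
  -- roots of unity
  obtain ⟨ζ, hζ⟩ : ∃ ζ : ℂ, IsPrimitiveRoot ζ p := ⟨_, Complex.isPrimitiveRoot_exp p hp.ne_zero⟩
  have hζ0 : ζ ≠ 0 := hζ.ne_zero hp.ne_zero
  set ξ : ℂ := ζ⁻¹ with hξdef
  have hξ : IsPrimitiveRoot ξ p := hζ.inv
  have hξp : ξ ^ p = 1 := hξ.pow_eq_one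
  have hζξ : ζ * ξ = 1 := mul_inv_cancel₀ hζ0
  -- facts on the spectral idempotents
  have fa : ∀ (j : ℕ) (x : V), A (specIdem A p ξ j x) = ζ ^ j • specIdem A p ξ j x := by
    intro j x
    have := LinearMap.congr_fun (mul_specIdem (ζ := ζ) hA hξp hζξ j) x
    simpa using this
  have fb : ∀ x : V, ∑ j ∈ range p, specIdem A p ξ j x = x := by
    intro x
    have := LinearMap.congr_fun (sum_specIdem (A := A) hp.pos hξ) x
    simpa [LinearMap.sum_apply] using this
  have fc : ∀ (j : ℕ) (x : V), U x = x →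
      U (specIdem A p ξ j x) = specIdem A p ξ (j * k) x := by
    intro j x hx
    have := LinearMap.congr_fun (specIdem_intertwine hp hk hA hξp hAU j) x
    simp only [Module.End.mul_apply, hx] at this
    exact this.symm
  have hUinj : Function.Injective U := by
    intro a b hab
    have := congrArg U' hab
    rw [← Module.End.mul_apply, ← Module.End.mul_apply, hU] at this
    simpa using this
  have fc' : ∀ (i j : ℕ) (x : V), U x = x → specIdem A p ξ j x ≠ 0 →
      specIdem A p ξ (j * k ^ i) x ≠ 0 := by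
    intro i
    induction i with
    | zero => intro j x _ h; simpa using h
    | succ i ih =>
      intro j x hx h
      rw [pow_succ, ← mul_assoc, ← fc _ x hx]
      intro h0
      exact ih j x hx h (hUinj (by rw [h0, map_zero]))
  have fd : ∀ (j : ℕ) (x : V), specIdem A p ξ j x ≠ 0 → ¬ p ∣ j := by
    intro j x h hpj
    apply h
    have hz : ζ ^ j = 1 := by
      obtain ⟨m, rfl⟩ := hpj
      rw [pow_mul, hζ.pow_eq_one, one_pow]
    have hmem : specIdem A p ξ j x ∈ Module.End.eigenspace A 1 := by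
      rw [Module.End.mem_eigenspace_iff, fa, hz]
    rw [h1] at hmem
    simpa using hmem
  have fe : ∀ j j' : ℕ, ζ ^ j = ζ ^ j' → specIdem A p ξ j = specIdem A p ξ j' := by
    intro j j' h
    apply specIdem_congr_pow
    rw [hξdef, inv_pow, inv_pow, h]
  have fnz : ∀ x : V, x ≠ 0 → ∃ j, specIdem A p ξ j x ≠ 0 := by
    intro x hx
    by_contra hcon
    push Not at hcon
    apply hx
    rw [← fb x]
    exact Finset.sum_eq_zero (fun j _ => hcon j)
  -- main argument
  obtain ⟨j₀, hj₀⟩ := fnz v₁ hv₁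
  have hmem₁ : specIdem A p ξ j₀ v₁ ∈ Module.End.eigenspace A (ζ ^ j₀) := by
    rw [Module.End.mem_eigenspace_iff, fa]
  have hmem₂ : specIdem A p ξ j₀ v₂ ∈ Module.End.eigenspace A (ζ ^ j₀) := by
    rw [Module.End.mem_eigenspace_iff, fa]
  have hfr1 : Module.finrank ℂ (Module.End.eigenspace A (ζ ^ j₀)) = 1 := by
    apply le_antisymm (hmult _)
    rw [Nat.succ_le_iff, Module.finrank_pos_iff_exists_ne_zero]
    exact ⟨⟨_, hmem₁⟩, fun h => hj₀ (congrArg Subtype.val h)⟩
  obtain ⟨c, hc⟩ := exists_smul_eq_of_finrank_eq_one hfr1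
    (x := ⟨_, hmem₁⟩) (fun h => hj₀ (congrArg Subtype.val h)) ⟨_, hmem₂⟩
  have hc' : c • specIdem A p ξ j₀ v₁ = specIdem A p ξ j₀ v₂ := congrArg Subtype.val hc
  refine ⟨c, ?_⟩
  by_contra hne
  set x : V := v₂ - c • v₁ with hxdef
  have hx0 : x ≠ 0 := fun h => hne (sub_eq_zero.mp h)
  have hUx : U x = x := by rw [hxdef, map_sub, map_smul, hU₁, hU₂]
  have hxj₀ : specIdem A p ξ j₀ x = 0 := by
    rw [hxdef, map_sub, map_smul, hc', sub_self]
  obtain ⟨j₁, hj₁⟩ := fnz x hx0
  have hpj₁ : ¬ p ∣ j₁ := fd j₁ x hj₁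
  have hj₁0 : (j₁ : ZMod p) ≠ 0 := by
    rw [Ne, ZMod.natCast_eq_zero_iff]; exact hpj₁
  -- n + 1 independent eigenvectors
  let μ : Option (Fin n) → ℂ := fun o => o.elim (ζ ^ j₀) (fun i => ζ ^ (j₁ * k ^ (i : ℕ)))
  let vec : Option (Fin n) → V :=
    fun o => o.elim (specIdem A p ξ j₀ v₁) (fun i => specIdem A p ξ (j₁ * k ^ (i : ℕ)) x)
  have hμ : Function.Injective μ := by
    intro a b hab
    cases a with
    | none =>
      cases b with
      | none => rfl
      | some i =>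
        exfalso
        have h : ζ ^ j₀ = ζ ^ (j₁ * k ^ (i : ℕ)) := hab
        have := fc' (i : ℕ) j₁ x hUx hj₁
        rw [← fe _ _ h] at this
        exact this hxj₀
    | some i =>
      cases b with
      | none =>
        exfalso
        have h : ζ ^ (j₁ * k ^ (i : ℕ)) = ζ ^ j₀ := hab
        have := fc' (i : ℕ) j₁ x hUx hj₁
        rw [fe _ _ h] at this
        exact this hxj₀
      | some i' =>
        have h : ζ ^ (j₁ * k ^ (i : ℕ)) = ζ ^ (j₁ * k ^ (i' : ℕ)) := hab
        have hmod : j₁ * k ^ (i : ℕ) ≡ j₁ * k ^ (i' : ℕ) [MOD p] := by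
          rw [pow_eq_pow_mod (j₁ * k ^ (i : ℕ)) hζ.pow_eq_one,
            pow_eq_pow_mod (j₁ * k ^ (i' : ℕ)) hζ.pow_eq_one] at h
          exact hζ.pow_inj (Nat.mod_lt _ hp.pos) (Nat.mod_lt _ hp.pos) h
        rw [← ZMod.natCast_eq_natCast_iff] at hmod
        replace h := hmod
        push_cast at h
        have h2 : (k : ZMod p) ^ (i : ℕ) = (k : ZMod p) ^ (i' : ℕ) := mul_left_cancel₀ hj₁0 h
        have h3 : (i : ℕ) = (i' : ℕ) := by
          apply pow_injOn_Iio_orderOf (x := (k : ZMod p))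
          · rw [hkd]; exact i.2
          · rw [hkd]; exact i'.2
          · exact h2
        exact congrArg some (Fin.ext h3)
  have hvec : ∀ o, Module.End.HasEigenvector A (μ o) (vec o) := by
    intro o
    cases o with
    | none => exact ⟨hmem₁, hj₀⟩
    | some i =>
      refine ⟨?_, fc' (i : ℕ) j₁ x hUx hj₁⟩
      show specIdem A p ξ (j₁ * k ^ (i : ℕ)) x ∈ Module.End.eigenspace A (ζ ^ (j₁ * k ^ (i : ℕ)))
      rw [Module.End.mem_eigenspace_iff, fa]
  have hli : LinearIndependent ℂ vec := Module.End.eigenvectors_linearIndependent' A μ hμ vec hvec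
  have hcard := hli.fintype_card_le_finrank
  rw [Fintype.card_option, Fintype.card_fin, hfr] at hcard
  omega

end Fixed

section Main

/-- **MODULE [REP]** of the W2P project. -/
theorem no_rep {G : Type*} [Group G] [Fintype G] {n : ℕ} (hn : 2 ≤ n)
    (ρ : Representation ℂ G (Fin n → ℂ)) (hirr : ρ.IsIrreducible) (H₁ H₂ : Subgroup G)
    (hH : H₁ ⊔ H₂ = ⊤) (v₁ v₂ : Fin n → ℂ) (hv₁ : v₁ ≠ 0) (hv₂ : v₂ ≠ 0)
    (h₁ : ∀ g ∈ H₁, ρ g v₁ = v₁) (h₂ : ∀ g ∈ H₂, ρ g v₂ = v₂) (w π : G) (hw₁ : w ∈ H₁)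
    (hw₂ : w ∈ H₂) {p : ℕ} (hp : p.Prime) (hπ : π ^ p = 1) (k : ℕ)
    (hk : w * π * w⁻¹ = π ^ k) (hkd : orderOf (k : ZMod p) = n)
    (hmult : ∀ ω : ℂ, Module.finrank ℂ (Module.End.eigenspace (ρ π) ω) ≤ 1)
    (h1 : Module.End.eigenspace (ρ π) 1 = ⊥) : False := by
  have hA : (ρ π) ^ p = 1 := by rw [← map_pow, hπ, map_one]
  have hAU : ρ π * ρ w⁻¹ = ρ w⁻¹ * (ρ π) ^ k := by
    rw [← map_pow, ← map_mul, ← map_mul, ← hk]
    congr 1
    group
  have hU : ρ w * ρ w⁻¹ = 1 := by rw [← map_mul, mul_inv_cancel, map_one]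
  have hfr : Module.finrank ℂ (Fin n → ℂ) = n := by simp
  have hU₁ : ρ w⁻¹ v₁ = v₁ := h₁ _ (H₁.inv_mem hw₁)
  have hU₂ : ρ w⁻¹ v₂ = v₂ := h₂ _ (H₂.inv_mem hw₂)
  obtain ⟨c, hc⟩ := fixed_dependent (ρ π) (ρ w⁻¹) (ρ w) hp hA hAU hU hkd hn hfr hmult h1
    v₁ v₂ hv₁ hU₁ hU₂
  have hc0 : c ≠ 0 := by
    intro h
    rw [h, zero_smul] at hc
    exact hv₂ hc
  -- `v₁` is fixed by `H₂` as well, hence by all of `G`
  have h₂' : ∀ g ∈ H₂, ρ g v₁ = v₁ := by
    intro g hg
    have := h₂ g hg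
    rw [hc, map_smul] at this
    exact smul_right_injective _ hc0 this
  have hall : ∀ g : G, ρ g v₁ = v₁ := by
    intro g
    have hg : g ∈ H₁ ⊔ H₂ := by rw [hH]; exact Subgroup.mem_top g
    have hle : H₁ ⊔ H₂ ≤
        { carrier := {g | ρ g v₁ = v₁}
          mul_mem' := by
            intro a b ha hb
            show ρ (a * b) v₁ = v₁
            rw [map_mul, Module.End.mul_apply, hb, ha]
          one_mem' := by
            show ρ 1 v₁ = v₁
            rw [map_one, Module.End.one_apply]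
          inv_mem' := by
            intro a ha
            show ρ a⁻¹ v₁ = v₁
            have h : ρ a⁻¹ (ρ a v₁) = v₁ := by
              rw [← Module.End.mul_apply, ← map_mul, inv_mul_cancel, map_one,
                Module.End.one_apply]
            rw [ha] at h
            exact h } := by
      rw [sup_le_iff]
      exact ⟨fun g hg => h₁ g hg, fun g hg => h₂' g hg⟩
    exact hle hg
  -- the line spanned by `v₁` is a subrepresentation
  let S : Subrepresentation ρ :=
    { toSubmodule := Submodule.span ℂ {v₁}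
      apply_mem_toSubmodule := by
        intro g v hv
        rw [Submodule.mem_span_singleton] at hv ⊢
        obtain ⟨a, rfl⟩ := hv
        exact ⟨a, by rw [map_smul, hall g]⟩ }
  have hS : S = ⊥ ∨ S = ⊤ := IsSimpleOrder.eq_bot_or_eq_top S
  rcases hS with hS | hS
  · have hmem : v₁ ∈ S.toSubmodule := Submodule.mem_span_singleton_self v₁
    rw [hS] at hmem
    change v₁ ∈ (⊥ : Submodule ℂ (Fin n → ℂ)) at hmem
    exact hv₁ ((Submodule.mem_bot ℂ).mp hmem)
  · have htop : Submodule.span ℂ {v₁} = ⊤ := by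
      have := congrArg Subrepresentation.toSubmodule hS
      exact this
    have hfin := finrank_span_singleton (K := ℂ) hv₁
    rw [htop, finrank_top, hfr] at hfin
    omega

end Main

end Cfsg.Agent.Lib.Helper48
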