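import Mathlib.GroupTheory.Sylow
import Mathlib.GroupTheory.Nilpotent
import Mathlib.GroupTheory.Commutator.Basic
import Cfsg.Agent.Lib.Helper48.SPE

/-!
# Coprime action of a `q`-group by counting (helper48)

Everything is internal to a finite group `G`: `B` is a `q`-subgroup normalizing a subgroup `K` of order
prime to `q`. Fixed points on cosets are obtained by counting (no Schur–Zassenhaus needed).

* `exists_fixed_of_conj_stable`: fixed point lemma for conjugation-stable subsets;
* `exists_fixed_in_coset`: a `B`-stable coset `x N` contains a `B`-fixed element;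
* `exists_centralizer_mul_commutator`: `K = C_K(B) [K, B]`;
* `commutator_commutator_eq`: `[K, B, B] = [K, B]`.
-/

set_option autoImplicit false

namespace Cfsg.Agent.Lib.Helper48

open scoped commutatorElement

variable {G : Type*} [Group G]

/-- The conjugation action of a subgroup `B` on a `B`-stable subset `S` of `G`. -/
@[reducible] def conjActOnSet (B : Subgroup G) (S : Set G)
    (hS : ∀ b ∈ B, ∀ y ∈ S, b * y * b⁻¹ ∈ S) : MulAction B S where
  smul b y := ⟨b * y * (b : G)⁻¹, hS b b.2 y y.2⟩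
  one_smul y := by
    apply Subtype.ext
    show (1 : G) * y * (1 : G)⁻¹ = y
    group
  mul_smul a b y := by
    apply Subtype.ext
    show ((a : G) * b) * y * ((a : G) * b)⁻¹ = a * (b * y * (b : G)⁻¹) * (a : G)⁻¹
    group

/-- Fixed point lemma: a `q`-group `B` acting by conjugation on a `B`-stable finite subset `S` of `G`
of size not divisible by `q` fixes a point of `S`. -/
theorem exists_fixed_of_conj_stable {q : ℕ} [Fact q.Prime] (B : Subgroup G) (hB : IsPGroup q B)
    (S : Set G) (hS : ∀ b ∈ B, ∀ y ∈ S, b * y * b⁻¹ ∈ S) (hcard : ¬ q ∣ Nat.card S) :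
    ∃ y ∈ S, ∀ b ∈ B, b * y * b⁻¹ = y := by
  let _ := conjActOnSet B S hS
  obtain ⟨y, hy⟩ := hB.nonempty_fixed_point_of_prime_not_dvd_card S hcard
  refine ⟨y, y.2, fun b hb => ?_⟩
  have := hy ⟨b, hb⟩
  exact congrArg Subtype.val this

/-- A `B`-stable left coset `x N` of a subgroup `N` of order prime to `q` contains a `B`-fixed
element. -/
theorem exists_fixed_in_coset {q : ℕ} [Fact q.Prime] (B : Subgroup G) (hB : IsPGroup q B)
    (N : Subgroup G) (hN : ¬ q ∣ Nat.card N) (hBN : B ≤ Subgroup.normalizer (N : Set G)) (x : G)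
    (hx : ∀ b ∈ B, x⁻¹ * (b * x * b⁻¹) ∈ N) :
    ∃ n ∈ N, ∀ b ∈ B, b * (x * n) * b⁻¹ = x * n := by
  have hS : ∀ b ∈ B, ∀ y ∈ (fun n => x * n) '' (N : Set G), b * y * b⁻¹ ∈ (fun n => x * n) '' (N : Set G) := by
    rintro b hb _ ⟨n, hn, rfl⟩
    refine ⟨x⁻¹ * (b * x * b⁻¹) * (b * n * b⁻¹), ?_, by simp only []; group⟩
    exact N.mul_mem (hx b hb) ((Subgroup.mem_normalizer_iff.mp (hBN hb) n).mp hn)
  have hcard : ¬ q ∣ Nat.card ((fun n => x * n) '' (N : Set G)) := by
    rw [Nat.card_image_of_injective (mul_right_injective x)]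
    exact hN
  obtain ⟨y, ⟨n, hn, rfl⟩, hy⟩ := exists_fixed_of_conj_stable B hB _ hS hcard
  exact ⟨n, hn, hy⟩

/-- If `B` normalizes `K` then `[K, B] ≤ K`. -/
theorem commutator_le_of_le_normalizer {K B : Subgroup G}
    (hBK : B ≤ Subgroup.normalizer (K : Set G)) : ⁅K, B⁆ ≤ K :=
  Subgroup.le_normalizer_iff_commutator_le_left.mp hBK

/-- `K = C_K(B) [K, B]` for a `q`-group `B` normalizing a `q'`-group `K`. -/
theorem exists_centralizer_mul_commutator [Finite G] {q : ℕ} [Fact q.Prime] {K B : Subgroup G}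
    (hB : IsPGroup q B) (hK : ¬ q ∣ Nat.card K) (hBK : B ≤ Subgroup.normalizer (K : Set G))
    {x : G} (hx : x ∈ K) :
    ∃ c ∈ K ⊓ Subgroup.centralizer (B : Set G), ∃ w ∈ ⁅K, B⁆, x = c * w := by
  have hNK : ⁅K, B⁆ ≤ K := commutator_le_of_le_normalizer hBK
  have hN : ¬ q ∣ Nat.card (⁅K, B⁆ : Subgroup G) := fun h => hK (h.trans (Subgroup.card_dvd_of_le hNK))
  obtain ⟨n, hn, hfix⟩ := exists_fixed_in_coset B hB ⁅K, B⁆ hN
    (Subgroup.normalizer_commutator_ge_right K B) x (by
      intro b hb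
      have : x⁻¹ * (b * x * b⁻¹) = ⁅x⁻¹, b⁆ := by
        simp [commutatorElement_def, mul_assoc]
      rw [this]
      exact Subgroup.commutator_mem_commutator (K.inv_mem hx) hb)
  refine ⟨x * n, ⟨K.mul_mem hx (hNK hn), ?_⟩, n⁻¹, Subgroup.inv_mem _ hn, by group⟩
  show x * n ∈ Subgroup.centralizer (B : Set G)
  rw [Subgroup.mem_centralizer_iff]
  intro b hb
  have := hfix b hb
  calc b * (x * n) = b * (x * n) * b⁻¹ * b := by group
    _ = x * n * b := by rw [this]

/-- An element centralizing `B` and normalizing `W` normalizes `[W, B]`. -/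
theorem conj_mem_commutator_of_centralizer {W B : Subgroup G} {c : G}
    (hcW : c ∈ Subgroup.normalizer (W : Set G)) (hcB : c ∈ Subgroup.centralizer (B : Set G))
    {y : G} (hy : y ∈ ⁅W, B⁆) : c * y * c⁻¹ ∈ ⁅W, B⁆ := by
  have h1 : ⁅W, B⁆ ≤ (⁅W, B⁆).comap (MulAut.conj c).toMonoidHom := by
    rw [Subgroup.commutator_le]
    intro w hw b hb
    rw [Subgroup.mem_comap]
    simp only [MulEquiv.toMonoidHom_eq_coe, MonoidHom.coe_coe, MulAut.conj_apply]
    rw [conjugate_commutatorElement]
    have hb' : c * b * c⁻¹ = b := by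
      rw [Subgroup.mem_centralizer_iff] at hcB
      rw [← hcB b hb]; group
    rw [hb']
    exact Subgroup.commutator_mem_commutator ((Subgroup.mem_normalizer_iff.mp hcW w).mp hw) hb
  have := h1 hy
  simpa [Subgroup.mem_comap] using this

/-- `[K, B, B] = [K, B]` for a `q`-group `B` normalizing a `q'`-group `K`. -/
theorem commutator_commutator_eq [Finite G] {q : ℕ} [Fact q.Prime] {K B : Subgroup G}
    (hB : IsPGroup q B) (hK : ¬ q ∣ Nat.card K) (hBK : B ≤ Subgroup.normalizer (K : Set G)) :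
    ⁅⁅K, B⁆, B⁆ = ⁅K, B⁆ := by
  have hWK : ⁅K, B⁆ ≤ K := commutator_le_of_le_normalizer hBK
  have hBW : B ≤ Subgroup.normalizer ((⁅K, B⁆ : Subgroup G) : Set G) :=
    Subgroup.normalizer_commutator_ge_right K B
  have hW : ¬ q ∣ Nat.card (⁅K, B⁆ : Subgroup G) := fun h => hK (h.trans (Subgroup.card_dvd_of_le hWK))
  apply le_antisymm (commutator_le_of_le_normalizer hBW)
  rw [Subgroup.commutator_le]
  intro k hk b hb
  obtain ⟨c, hc, w, hw, rfl⟩ := exists_centralizer_mul_commutator hB hK hBK hk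
  obtain ⟨c', hc', w₂, hw₂, rfl⟩ := exists_centralizer_mul_commutator hB hW hBW hw
  -- k = c * (c' * w₂) = (c * c') * w₂
  have hcc : c * c' ∈ Subgroup.centralizer (B : Set G) :=
    Subgroup.mul_mem _ hc.2 hc'.2
  have hccW : c * c' ∈ Subgroup.normalizer ((⁅K, B⁆ : Subgroup G) : Set G) :=
    Subgroup.normalizer_commutator_ge_left K B (K.mul_mem hc.1 (hWK hc'.1))
  have h1 : ⁅c * (c' * w₂), b⁆ = (c * c') * ⁅w₂, b⁆ * (c * c')⁻¹ * ⁅c * c', b⁆ := by
    rw [← mul_assoc, commutatorElement_mul_left_eq_conj_mul]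
  have h2 : ⁅c * c', b⁆ = 1 := by
    rw [commutatorElement_eq_one_iff_mul_comm]
    rw [Subgroup.mem_centralizer_iff] at hcc
    exact (hcc b hb).symm
  rw [h1, h2, mul_one]
  apply conj_mem_commutator_of_centralizer hccW hcc
  exact Subgroup.commutator_mem_commutator (commutator_le_of_le_normalizer hBW hw₂) hb

/-! ### Further general lemmas -/

/-- A subgroup `B` all of whose subgroups of prime power order lie in `C` lies in `C`. -/
theorem le_of_forall_pSubgroup_le [Finite G] {B C : Subgroup G}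
    (h : ∀ (q : ℕ) [Fact q.Prime] (Q : Subgroup G), Q ≤ B → IsPGroup q Q → Q ≤ C) : B ≤ C := by
  have hdvd : Nat.card B ∣ Nat.card (B ⊓ C : Subgroup G) := by
    rw [← Nat.factorization_prime_le_iff_dvd Nat.card_pos.ne' Nat.card_pos.ne']
    intro q hq
    have : Fact q.Prime := ⟨hq⟩
    obtain ⟨Q, -, hQB, hQq, -, hQcard⟩ := exists_max_pSubgroup (p := q) B ⊥ bot_le IsPGroup.of_bot
    have hQC : Q ≤ B ⊓ C := le_inf hQB (h q Q hQB hQq)
    have h1 : q ^ (Nat.card B).factorization q ∣ Nat.card (B ⊓ C : Subgroup G) :=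
      hQcard ▸ Subgroup.card_dvd_of_le hQC
    exact (Nat.Prime.pow_dvd_iff_le_factorization hq Nat.card_pos.ne').mp h1
  have : B ⊓ C = B :=
    Subgroup.eq_of_le_of_card_ge inf_le_left (Nat.le_of_dvd Nat.card_pos hdvd)
  exact this ▸ inf_le_right

/-- Nilpotent action: if `W ≤ L`, `L` nilpotent and `[W, L] = W` then `W = 1`. -/
theorem eq_bot_of_commutator_eq_of_isNilpotent {W L : Subgroup G} (hL : Group.IsNilpotent L)
    (hWL : W ≤ L) (h : ⁅W, L⁆ = W) : W = ⊥ := by
  obtain ⟨n, hn⟩ := (Subgroup.isNilpotent_iff_lowerCentralSeries L).mp hL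
  have : ∀ m, W ≤ L.lowerCentralSeries m := by
    intro m
    induction m with
    | zero => simpa using hWL
    | succ m ih =>
      rw [Subgroup.lowerCentralSeries_succ, ← h]
      exact Subgroup.commutator_mono ih le_rfl
  exact le_bot_iff.mp (hn ▸ this n)

/-- An element normalizing `H` and `K` normalizes `[H, K]`. -/
theorem normalizer_inf_le_normalizer_commutator (H K : Subgroup G) :
    Subgroup.normalizer (H : Set G) ⊓ Subgroup.normalizer (K : Set G) ≤
      Subgroup.normalizer ((⁅H, K⁆ : Subgroup G) : Set G) := by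
  intro g hg
  have hgH : g ∈ Subgroup.normalizer (H : Set G) := hg.1
  have hgK : g ∈ Subgroup.normalizer (K : Set G) := hg.2
  rw [Subgroup.mem_normalizer_iff_map_conj_eq] at hgH hgK ⊢
  rw [Subgroup.map_commutator, hgH, hgK]

/-- An element normalizing `H` and `K` normalizes `H ⊔ K`. -/
theorem normalizer_inf_le_normalizer_sup (H K : Subgroup G) :
    Subgroup.normalizer (H : Set G) ⊓ Subgroup.normalizer (K : Set G) ≤
      Subgroup.normalizer ((H ⊔ K : Subgroup G) : Set G) := by
  intro g hg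
  have hgH : g ∈ Subgroup.normalizer (H : Set G) := hg.1
  have hgK : g ∈ Subgroup.normalizer (K : Set G) := hg.2
  rw [Subgroup.mem_normalizer_iff_map_conj_eq] at hgH hgK ⊢
  rw [Subgroup.map_sup, hgH, hgK]

theorem centralizer_le_normalizer' (K : Subgroup G) :
    Subgroup.centralizer (K : Set G) ≤ Subgroup.normalizer (K : Set G) :=
  Subgroup.centralizer_le_normalizer _

end Cfsg.Agent.Lib.Helper48
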