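import Mathlib

/-!
# A generation criterion for `p`-groups

`isPGroup_of_central_mod`: a finite group generated by `p`-elements, having a normal `p`-subgroup `D`
and a subgroup `Z ≥ D` central modulo `D` that contains all `p'`-elements, is a `p`-group.
-/

set_option autoImplicit false

namespace Cfsg.Agent.Lib.Helper48

open scoped commutatorElement

/-- a finite nilpotent group generated by `p`-elements is a `p`-group -/
theorem isPGroup_of_nilpotent_of_closure {Γ : Type*} [Group Γ] [Finite Γ] {p : ℕ} [Fact p.Prime]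
    (hn : Group.IsNilpotent Γ) (s : Set Γ) (hs : Subgroup.closure s = ⊤)
    (hsp : ∀ u ∈ s, ∃ k : ℕ, u ^ p ^ k = 1) : IsPGroup p Γ := by
  have hnormal : ∀ P : Sylow p Γ, (P : Subgroup Γ).Normal := by
    have := (Group.isNilpotent_of_finite_tfae (G := Γ)).out 0 3
    exact fun P => (this.1 hn) p inferInstance P
  obtain ⟨P⟩ : Nonempty (Sylow p Γ) := inferInstance
  have hP := hnormal P
  have hle : Subgroup.closure s ≤ (P : Subgroup Γ) := by
    rw [Subgroup.closure_le]
    intro u hu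
    obtain ⟨k, hk⟩ := hsp u hu
    have hz : IsPGroup p (Subgroup.zpowers u) := by
      apply IsPGroup.of_card (n := (Nat.card (Subgroup.zpowers u)).factorization p)
      rw [Nat.card_zpowers]
      have hd : orderOf u ∣ p ^ k := orderOf_dvd_of_pow_eq_one hk
      obtain ⟨j, _, hj⟩ := (Nat.dvd_prime_pow Fact.out).1 hd
      rw [hj, Nat.Prime.factorization_pow Fact.out]
      simp
    obtain ⟨P', hP'⟩ := hz.exists_le_sylow
    obtain ⟨g, hg⟩ := MulAction.exists_smul_eq Γ P P'
    rw [Sylow.smul_eq_of_normal] at hg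
    rw [hg]
    exact hP' (Subgroup.mem_zpowers u)
  rw [hs] at hle
  have : (P : Subgroup Γ) = ⊤ := top_le_iff.1 hle
  intro g
  have hg : g ∈ (P : Subgroup Γ) := by rw [this]; trivial
  obtain ⟨k, hk⟩ := P.isPGroup' ⟨g, hg⟩
  exact ⟨k, by simpa using congrArg Subtype.val hk⟩

theorem isPGroup_of_central_mod {Γ : Type*} [Group Γ] [Finite Γ] {p : ℕ} [Fact p.Prime]
    (D Z : Subgroup Γ) [hD : D.Normal] (hDZ : D ≤ Z) (hDp : IsPGroup p D)
    (hcomm : ∀ g : Γ, ∀ z ∈ Z, ⁅g, z⁆ ∈ D)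
    (hZ : ∀ x : Γ, (orderOf x).Coprime p → x ∈ Z)
    (s : Set Γ) (hs : Subgroup.closure s = ⊤) (hsp : ∀ u ∈ s, ∃ k : ℕ, u ^ p ^ k = 1) :
    IsPGroup p Γ := by
  have hp : p.Prime := Fact.out
  -- `Z` is normal
  have hZn : Z.Normal := by
    constructor
    intro z hz g
    have h1 : g * z * g⁻¹ = ⁅g, z⁆ * z := by simp [commutatorElement_def]
    rw [h1]
    exact Z.mul_mem (hDZ (hcomm g z hz)) hz
  -- `Γ ⧸ Z` is a `p`-group
  have hQ2 : IsPGroup p (Γ ⧸ Z) := by
    intro q
    induction q using QuotientGroup.induction_on with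
    | H g =>
      obtain ⟨k, m, hm, hkm⟩ := Nat.exists_eq_pow_mul_and_not_dvd (orderOf_pos g).ne' p hp.ne_one
      refine ⟨k, ?_⟩
      have h1 : (g ^ p ^ k) ^ m = 1 := by
        rw [← pow_mul, ← hkm, pow_orderOf_eq_one]
      have h2 : orderOf (g ^ p ^ k) ∣ m := orderOf_dvd_of_pow_eq_one h1
      have h3 : (orderOf (g ^ p ^ k)).Coprime p :=
        Nat.Coprime.coprime_dvd_left h2 ((Nat.Prime.coprime_iff_not_dvd hp).2 hm).symm
      have h4 := hZ _ h3
      rw [← QuotientGroup.mk_pow]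
      exact (QuotientGroup.eq_one_iff _).2 h4
  have hnil2 : Group.IsNilpotent (Γ ⧸ Z) := hQ2.isNilpotent
  -- `Γ ⧸ D` is nilpotent
  let f : Γ ⧸ D →* Γ ⧸ Z := QuotientGroup.map D Z (MonoidHom.id Γ) (by
    intro x hx
    exact hDZ hx)
  have hker : f.ker ≤ Subgroup.center (Γ ⧸ D) := by
    intro q hq
    induction q using QuotientGroup.induction_on with
    | H g =>
      rw [MonoidHom.mem_ker] at hq
      have hgZ : g ∈ Z := by
        have : f (g : Γ ⧸ D) = ((g : Γ) : Γ ⧸ Z) := rfl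
        rw [this] at hq
        exact (QuotientGroup.eq_one_iff _).1 hq
      rw [Subgroup.mem_center_iff]
      intro q'
      induction q' using QuotientGroup.induction_on with
      | H g' =>
        rw [← QuotientGroup.mk_mul, ← QuotientGroup.mk_mul, QuotientGroup.eq]
        have h1 := hcomm g' g hgZ
        have h2 : (g' * g)⁻¹ * (g * g') = (g' * g)⁻¹ * ⁅g', g⁆⁻¹ * (g' * g)⁻¹⁻¹ := by
          simp only [commutatorElement_def]; group
        rw [h2]
        exact hD.conj_mem _ (D.inv_mem h1) (g' * g)⁻¹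
  have hnil1 : Group.IsNilpotent (Γ ⧸ D) := Subgroup.isNilpotent_of_ker_le_center f hker
  -- `Γ ⧸ D` is a `p`-group
  have hQ1 : IsPGroup p (Γ ⧸ D) := by
    apply isPGroup_of_nilpotent_of_closure hnil1 ((QuotientGroup.mk' D) '' s)
    · rw [← MonoidHom.map_closure, hs, ← MonoidHom.range_eq_map]
      exact MonoidHom.range_eq_top.2 (QuotientGroup.mk'_surjective D)
    · rintro _ ⟨u, hu, rfl⟩
      obtain ⟨k, hk⟩ := hsp u hu
      exact ⟨k, by rw [← map_pow, hk, map_one]⟩
  intro g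
  obtain ⟨k, hk⟩ := hQ1 (g : Γ ⧸ D)
  rw [← QuotientGroup.mk_pow] at hk
  have hgD : g ^ p ^ k ∈ D := (QuotientGroup.eq_one_iff _).1 hk
  obtain ⟨j, hj⟩ := hDp ⟨_, hgD⟩
  refine ⟨k + j, ?_⟩
  have := congrArg Subtype.val hj
  simp only [Subgroup.coe_pow, Subgroup.coe_one] at this
  rw [pow_add, pow_mul]
  exact this

end Cfsg.Agent.Lib.Helper48
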