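import Mathlib
import Cfsg.Agent.Lib.Helper19.FHDefs

/-!
# Feit–Higman project (S1142), module DFT-EVEN (helper48)

Cosine-DFT inversion of the trace equations for even `n = 2 m`.
-/

set_option autoImplicit false

namespace Cfsg.Agent.Lib.Helper48

open Cfsg.Agent.Lib.Helper19.FH

/-- weighted sum with weights `w_0 = w_m = 1`, `w_k = 2` for `0 < k < m` -/
noncomputable def fhW (m : ℕ) (f : ℕ → ℝ) : ℝ :=
  2 * ∑ k ∈ Finset.range (m + 1), f k - f 0 - f m

theorem fhW_congr {m : ℕ} {f g : ℕ → ℝ} (h : ∀ k, k ≤ m → f k = g k) : fhW m f = fhW m g := by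
  unfold fhW
  rw [Finset.sum_congr rfl (fun k hk => h k (by
    have := Finset.mem_range.mp hk
    omega)), h 0 (Nat.zero_le _), h m le_rfl]

theorem fhW_add (m : ℕ) (f g : ℕ → ℝ) : fhW m (fun k => f k + g k) = fhW m f + fhW m g := by
  unfold fhW
  rw [Finset.sum_add_distrib]; ring

theorem fhW_const_mul (m : ℕ) (c : ℝ) (f : ℕ → ℝ) :
    fhW m (fun k => c * f k) = c * fhW m f := by
  unfold fhW
  rw [← Finset.mul_sum]; ring

theorem fhW_sum {ι : Type*} (s : Finset ι) (m : ℕ) (f : ι → ℕ → ℝ) :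
    fhW m (fun k => ∑ i ∈ s, f i k) = ∑ i ∈ s, fhW m (f i) := by
  classical
  induction s using Finset.induction_on with
  | empty => simp [fhW]
  | insert a s ha ih =>
    simp only [Finset.sum_insert ha]
    rw [fhW_add, ih]

theorem fhW_ite (m : ℕ) (hm : 1 ≤ m) (N : ℝ) :
    fhW m (fun k => if k = 0 then N else 0) = N := by
  unfold fhW
  rw [Finset.sum_ite_eq' (Finset.range (m + 1)) 0 (fun _ => N)]
  have hm0 : m ≠ 0 := by omega
  simp [hm0]
  ring

/-- `Γ(x) = ∑ w_k x^k cos(kθ)` -/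
noncomputable def fhGam (m : ℕ) (x θ : ℝ) : ℝ := fhW m (fun k => x ^ k * Real.cos (k * θ))

theorem fh_partial (x θ : ℝ) (K : ℕ) :
    (1 - 2 * x * Real.cos θ + x ^ 2) * ∑ k ∈ Finset.range (K + 1), x ^ k * Real.cos (k * θ) =
      1 - x * Real.cos θ - x ^ (K + 1) * Real.cos ((K + 1 : ℕ) * θ)
        + x ^ (K + 2) * Real.cos (K * θ) := by
  induction K with
  | zero => simp; ring
  | succ K ih =>
    rw [Finset.sum_range_succ, mul_add, ih]
    have h1 : Real.cos ((K + 1 + 1 : ℕ) * θ) =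
        2 * Real.cos θ * Real.cos ((K + 1 : ℕ) * θ) - Real.cos (K * θ) := by
      have e1 : ((K + 1 + 1 : ℕ) : ℝ) * θ = ((K + 1 : ℕ) : ℝ) * θ + θ := by push_cast; ring
      have e2 : (K : ℝ) * θ = ((K + 1 : ℕ) : ℝ) * θ - θ := by push_cast; ring
      rw [e1, e2, Real.cos_add, Real.cos_sub]; ring
    rw [h1]
    ring

theorem fhGam_mul (m : ℕ) (x θ : ℝ) (hs : Real.sin (m * θ) = 0) :
    fhGam m x θ * (1 - 2 * x * Real.cos θ + x ^ 2) =
      (1 - x ^ 2) * (1 - Real.cos (m * θ) * x ^ m) := by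
  unfold fhGam fhW
  have h := fh_partial x θ m
  have h1 : Real.cos ((m + 1 : ℕ) * θ) = Real.cos (m * θ) * Real.cos θ := by
    have e1 : ((m + 1 : ℕ) : ℝ) * θ = (m : ℝ) * θ + θ := by push_cast; ring
    rw [e1, Real.cos_add, hs]; ring
  rw [h1] at h
  simp only [pow_zero, Nat.cast_zero, zero_mul, Real.cos_zero, mul_one]
  have : (2 * ∑ k ∈ Finset.range (m + 1), x ^ k * Real.cos (k * θ) - 1 - x ^ m * Real.cos (m * θ))
      * (1 - 2 * x * Real.cos θ + x ^ 2) =
      2 * ((1 - 2 * x * Real.cos θ + x ^ 2) * ∑ k ∈ Finset.range (m + 1), x ^ k * Real.cos (k * θ))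
      - (1 + x ^ m * Real.cos (m * θ)) * (1 - 2 * x * Real.cos θ + x ^ 2) := by ring
  rw [this, h]
  ring

theorem fhGam_one_zero (m : ℕ) : fhGam m 1 0 = 2 * m := by
  unfold fhGam fhW
  simp
  ring

theorem fhGam_one_eq_zero (m : ℕ) (θ : ℝ) (hs : Real.sin (m * θ) = 0) (hc : Real.cos θ ≠ 1) :
    fhGam m 1 θ = 0 := by
  have h := fhGam_mul m 1 θ hs
  have h2 : (1 - 2 * 1 * Real.cos θ + 1 ^ 2) ≠ 0 := by
    intro h3
    apply hc
    linarith
  have h3 : fhGam m 1 θ * (1 - 2 * 1 * Real.cos θ + 1 ^ 2) = 0 := by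
    rw [h]; ring
  rcases mul_eq_zero.mp h3 with h4 | h4
  · exact h4
  · exact absurd h4 h2


theorem fh_N0_even (m u v : ℕ) :
    ∑ k ∈ Finset.range (2 * m), qq u v k + ∑ k ∈ Finset.range (2 * m), qq v u (k + 1)
      = (1 + u) * (1 + v) * ∑ k ∈ Finset.range m, (u * v) ^ k := by
  induction m with
  | zero => simp
  | succ m ih =>
    have e : 2 * (m + 1) = 2 * m + 1 + 1 := by ring
    rw [e, Finset.sum_range_succ, Finset.sum_range_succ,
      Finset.sum_range_succ (fun k => qq v u (k + 1)),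
      Finset.sum_range_succ (fun k => qq v u (k + 1)),
      Finset.sum_range_succ (fun k => (u * v) ^ k)]
    have h1 : qq u v (2 * m) = u ^ m * v ^ m := by
      unfold qq
      have a1 : (2 * m + 1) / 2 = m := by omega
      have a2 : 2 * m / 2 = m := by omega
      rw [a1, a2]
    have h2 : qq u v (2 * m + 1) = u ^ (m + 1) * v ^ m := by
      unfold qq
      have a1 : (2 * m + 1 + 1) / 2 = m + 1 := by omega
      have a2 : (2 * m + 1) / 2 = m := by omega
      rw [a1, a2]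
    have h3 : qq v u (2 * m + 1) = v ^ (m + 1) * u ^ m := by
      unfold qq
      have a1 : (2 * m + 1 + 1) / 2 = m + 1 := by omega
      have a2 : (2 * m + 1) / 2 = m := by omega
      rw [a1, a2]
    have h4 : qq v u (2 * m + 1 + 1) = v ^ (m + 1) * u ^ (m + 1) := by
      unfold qq
      have a1 : (2 * m + 1 + 1 + 1) / 2 = m + 1 := by omega
      have a2 : (2 * m + 1 + 1) / 2 = m + 1 := by omega
      rw [a1, a2]
    rw [h1, h2, h3, h4]
    have h5 : ∑ k ∈ Finset.range (2 * m), qq u v k + u ^ m * v ^ m + u ^ (m + 1) * v ^ m +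
        (∑ k ∈ Finset.range (2 * m), qq v u (k + 1) + v ^ (m + 1) * u ^ m
          + v ^ (m + 1) * u ^ (m + 1)) =
        (∑ k ∈ Finset.range (2 * m), qq u v k + ∑ k ∈ Finset.range (2 * m), qq v u (k + 1))
          + (1 + u) * (1 + v) * (u * v) ^ m := by
      rw [mul_pow]; ring
    rw [h5, ih]
    ring

theorem fh_even_key (m : ℕ) (hm : 1 ≤ m) (q r ρ : ℝ) (hrρ : r * ρ = 1) (hq : q * ρ = r)
    (a2 a3 a4 x3 x4 N : ℝ) (mult : ℕ → ℝ)
    (hE : ∀ k : ℕ, k ≤ m → q ^ k + a2 + a3 * x3 ^ k + a4 * x4 ^ k +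
        ∑ j ∈ angles (2 * m), mult j * (2 * r ^ k * Real.cos (k * (Real.pi * j / m))) =
          if k = 0 then N else 0)
    (j0 : ℕ) (hj0 : j0 < m) :
    N = fhGam m r (Real.pi * j0 / m) + a2 * fhGam m ρ (Real.pi * j0 / m)
      + a3 * fhGam m (x3 * ρ) (Real.pi * j0 / m) + a4 * fhGam m (x4 * ρ) (Real.pi * j0 / m)
      + (if 1 ≤ j0 then 2 * m * mult j0 else 0) := by
  set θ0 : ℝ := Real.pi * j0 / m with hθ0
  have hmR : (m : ℝ) ≠ 0 := by
    have : (0 : ℝ) < m := by exact_mod_cast hm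
    exact this.ne'
  have h1 := fhW_ite m hm N
  have h2 : fhW m (fun k => r ^ k * Real.cos (k * θ0) + a2 * (ρ ^ k * Real.cos (k * θ0))
      + a3 * ((x3 * ρ) ^ k * Real.cos (k * θ0)) + a4 * ((x4 * ρ) ^ k * Real.cos (k * θ0))
      + ∑ j ∈ angles (2 * m), mult j * ((1 : ℝ) ^ k * Real.cos (k * (θ0 + Real.pi * j / m))
          + (1 : ℝ) ^ k * Real.cos (k * (θ0 - Real.pi * j / m))))
      = fhW m (fun k => if k = 0 then N else 0) := by
    apply fhW_congr
    intro k hk
    have h3 := hE k hk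
    have h4 : (ρ ^ k * Real.cos (k * θ0)) * (if k = 0 then N else 0) = (if k = 0 then N else 0) := by
      split_ifs with h
      · subst h; simp
      · simp
    rw [← h4, ← h3]
    have h7 : ρ ^ k * r ^ k = 1 := by rw [← mul_pow, mul_comm, hrρ, one_pow]
    have h5 : ∑ j ∈ angles (2 * m), mult j * ((1 : ℝ) ^ k * Real.cos (k * (θ0 + Real.pi * j / m))
          + (1 : ℝ) ^ k * Real.cos (k * (θ0 - Real.pi * j / m)))
        = ρ ^ k * Real.cos (k * θ0) *
          ∑ j ∈ angles (2 * m), mult j * (2 * r ^ k * Real.cos (k * (Real.pi * j / m))) := by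
      rw [Finset.mul_sum]
      apply Finset.sum_congr rfl
      intro j _
      rw [mul_add (k : ℝ), mul_sub (k : ℝ), Real.cos_add, Real.cos_sub]
      simp only [one_pow, one_mul]
      linear_combination (-2 * mult j * Real.cos (k * θ0) * Real.cos (k * (Real.pi * j / m))) * h7
    rw [h5]
    have h6 : q ^ k * ρ ^ k = r ^ k := by
      rw [← mul_pow, hq]
    rw [mul_pow, mul_pow]
    linear_combination (-Real.cos (k * θ0)) * h6
  rw [h1] at h2
  rw [fhW_add, fhW_add, fhW_add, fhW_add, fhW_const_mul, fhW_const_mul, fhW_const_mul,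
    fhW_sum] at h2
  have h8 : ∀ j ∈ angles (2 * m),
      fhW m (fun k => mult j * ((1 : ℝ) ^ k * Real.cos (k * (θ0 + Real.pi * j / m))
          + (1 : ℝ) ^ k * Real.cos (k * (θ0 - Real.pi * j / m))))
      = if j = j0 then mult j * (2 * m) else 0 := by
    intro j hj
    rw [mem_angles] at hj
    rw [fhW_const_mul, fhW_add]
    have hA : fhGam m 1 (θ0 + Real.pi * j / m) = 0 := by
      apply fhGam_one_eq_zero
      · have : (m : ℝ) * (θ0 + Real.pi * j / m) = ((j0 + j : ℕ) : ℝ) * Real.pi := by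
          rw [hθ0]; push_cast; field_simp
        rw [this]; exact Real.sin_nat_mul_pi _
      · intro hc
        have hlt1 : -(2 * Real.pi) < θ0 + Real.pi * j / m := by
          have : 0 ≤ θ0 + Real.pi * j / m := by rw [hθ0]; positivity
          linarith [Real.pi_pos]
        have hlt2 : θ0 + Real.pi * j / m < 2 * Real.pi := by
          have e : θ0 + Real.pi * j / m = Real.pi * ((j0 + j : ℕ) : ℝ) / m := by
            rw [hθ0]; push_cast; ring
          rw [e, div_lt_iff₀ (by positivity)]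
          have : ((j0 + j : ℕ) : ℝ) < 2 * m := by exact_mod_cast (by omega : j0 + j < 2 * m)
          nlinarith [Real.pi_pos]
        have h0 := (Real.cos_eq_one_iff_of_lt_of_lt hlt1 hlt2).mp hc
        have hpos : 0 < θ0 + Real.pi * j / m := by
          have h01 : 0 ≤ θ0 := by rw [hθ0]; positivity
          have h02 : 0 < Real.pi * j / m := by
            have : (0 : ℝ) < j := by exact_mod_cast hj.1
            positivity
          linarith
        linarith
    have hB : fhGam m 1 (θ0 - Real.pi * j / m) = if j = j0 then 2 * (m : ℝ) else 0 := by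
      split_ifs with hjj
      · subst hjj
        rw [hθ0, sub_self]
        exact fhGam_one_zero m
      · apply fhGam_one_eq_zero
        · have : (m : ℝ) * (θ0 - Real.pi * j / m) = (((j0 : ℤ) - j : ℤ) : ℝ) * Real.pi := by
            rw [hθ0]; push_cast; field_simp
          rw [this]; exact Real.sin_int_mul_pi _
        · intro hc
          have e : θ0 - Real.pi * j / m = Real.pi * ((j0 : ℝ) - j) / m := by
            rw [hθ0]; ring
          have hj0R : (j0 : ℝ) < m := by exact_mod_cast hj0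
          have hjR : (j : ℝ) < m := by exact_mod_cast (by omega : j < m)
          have hj0R' : (0 : ℝ) ≤ j0 := by positivity
          have hjR' : (0 : ℝ) ≤ j := by positivity
          have hmpos : (0 : ℝ) < m := by positivity
          have hlt1 : -(2 * Real.pi) < θ0 - Real.pi * j / m := by
            rw [e, lt_div_iff₀ hmpos]
            nlinarith [Real.pi_pos]
          have hlt2 : θ0 - Real.pi * j / m < 2 * Real.pi := by
            rw [e, div_lt_iff₀ hmpos]
            nlinarith [Real.pi_pos]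
          have h0 := (Real.cos_eq_one_iff_of_lt_of_lt hlt1 hlt2).mp hc
          rw [e] at h0
          have h00 : Real.pi * ((j0 : ℝ) - j) = 0 := by
            rcases div_eq_zero_iff.mp h0 with h | h
            · exact h
            · exact absurd h hmR
          have h01 : (j0 : ℝ) - j = 0 := by
            rcases mul_eq_zero.mp h00 with h | h
            · exact absurd h Real.pi_pos.ne'
            · exact h
          apply hjj
          have : (j : ℝ) = j0 := by linarith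
          exact_mod_cast this
    unfold fhGam at hA hB
    rw [hA, hB]
    split_ifs <;> ring
  rw [Finset.sum_congr rfl h8, Finset.sum_ite_eq' (angles (2 * m)) j0] at h2
  rw [← h2]
  unfold fhGam
  have hmem : j0 ∈ angles (2 * m) ↔ 1 ≤ j0 := by
    rw [mem_angles]
    constructor
    · exact fun h => h.1
    · exact fun h => ⟨h, by omega⟩
  simp only [hmem]
  split_ifs <;> ring


/-- the four `Γ`-evaluations in terms of `y = 2 r cos θ` -/
theorem fh_even_gam_eval (m : ℕ) (u v r ρ θ : ℝ) (hr2 : r ^ 2 = u * v) (hrρ : r * ρ = 1)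
    (hs : Real.sin (m * θ) = 0) :
    fhGam m r θ * (1 + u * v - 2 * r * Real.cos θ) = (1 - u * v) * (1 - Real.cos (m * θ) * r ^ m) ∧
    fhGam m ρ θ * (1 + u * v - 2 * r * Real.cos θ) = (u * v - 1) * (1 - Real.cos (m * θ) * ρ ^ m) ∧
    fhGam m (-u * ρ) θ * (u + v + 2 * r * Real.cos θ) =
      (v - u) * (1 - Real.cos (m * θ) * (-u * ρ) ^ m) ∧
    fhGam m (-v * ρ) θ * (u + v + 2 * r * Real.cos θ) =
      (u - v) * (1 - Real.cos (m * θ) * (-v * ρ) ^ m) := by
  have G1 := fhGam_mul m r θ hs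
  have G2 := fhGam_mul m ρ θ hs
  have G3 := fhGam_mul m (-u * ρ) θ hs
  have G4 := fhGam_mul m (-v * ρ) θ hs
  have hρ2 : r ^ 2 * ρ ^ 2 = 1 := by rw [← mul_pow, hrρ, one_pow]
  have huvρ : u * v * ρ = r := by rw [← hr2]; linear_combination r * hrρ
  have hua : u * u * v * ρ * ρ = u := by
    have : u * u * v * ρ * ρ = u * (u * v * ρ) * ρ := by ring
    rw [this, huvρ]; linear_combination u * hrρ
  have hvb : v * v * u * ρ * ρ = v := by
    have : v * v * u * ρ * ρ = v * (u * v * ρ) * ρ := by ring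
    rw [this, huvρ]; linear_combination v * hrρ
  refine ⟨?_, ?_, ?_, ?_⟩
  · rw [← hr2]; linear_combination G1
  · rw [← hr2]
    linear_combination r ^ 2 * G2 + (-fhGam m ρ θ - (1 - Real.cos (m * θ) * ρ ^ m)) * hρ2
        + (2 * fhGam m ρ θ * r * Real.cos θ) * hrρ
  · linear_combination v * G3
      - (fhGam m (-u * ρ) θ + 1 - Real.cos (m * θ) * (-u * ρ) ^ m) * hua
      - 2 * fhGam m (-u * ρ) θ * Real.cos θ * huvρ
  · linear_combination u * G4
      - (fhGam m (-v * ρ) θ + 1 - Real.cos (m * θ) * (-v * ρ) ^ m) * hvb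
      - 2 * fhGam m (-v * ρ) θ * Real.cos θ * huvρ


theorem fh_even_alg (u v y ε X Z W3 W4 g1 g2 g3 g4 c00 c10 c01 N E T : ℝ)
    (G1 : g1 * (1 + u * v - y) = (1 - u * v) * (1 - ε * X))
    (G2 : g2 * (1 + u * v - y) = (u * v - 1) * (1 - ε * Z))
    (G3 : g3 * (u + v + y) = (v - u) * (1 - ε * W3))
    (G4 : g4 * (u + v + y) = (u - v) * (1 - ε * W4))
    (K : N = g1 + c00 * g2 + c10 * g3 + c01 * g4 + T)
    (hc00X : c00 * Z = X) (hc00 : (u * v - 1) * E = c00 - 1)
    (hc : c10 - c01 = E * (v - u)) (hNE : N = (1 + u) * (1 + v) * E) :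
    T * ((1 + u * v - y) * (u + v + y)) =
      N * (4 * u * v - y ^ 2) + ε * (1 + u * v - y) * ((v - u) * (c10 * W3 - c01 * W4)) := by
  have s1 : g1 * (1 + u * v - y) + c00 * (g2 * (1 + u * v - y)) = (u * v - 1) ^ 2 * E := by
    rw [G1, G2]
    linear_combination (-(u * v - 1)) * hc00 - ε * (u * v - 1) * hc00X
  have s2 : c10 * (g3 * (u + v + y)) + c01 * (g4 * (u + v + y)) =
      (v - u) * (E * (v - u) - ε * (c10 * W3 - c01 * W4)) := by
    rw [G3, G4]
    linear_combination (v - u) * hc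
  linear_combination (-(1 + u * v - y) * (u + v + y)) * K - (u + v + y) * s1
    - (1 + u * v - y) * s2 + ((1 + u * v - y) * (u + v + y) - (4 * u * v - y ^ 2)) * hNE


/-- **FH module DFT-EVEN**: the multiplicity formula for even `n = 2 m`. -/
theorem mult_formula_even (m u v : ℕ) (hm : 1 ≤ m) (hu : 2 ≤ u) (hv : 2 ≤ v)
    (N₀ : ℕ) (hN : N₀ = ∑ k ∈ Finset.range (2 * m), qq u v k
      + ∑ k ∈ Finset.range (2 * m), qq v u (k + 1))
    (c00 c10 c01 : ℕ) (mult : ℕ → ℕ)
    (hE : ∀ k : ℕ, k ≤ m → ((u : ℝ) * v) ^ k + c00 + c10 * (-(u : ℝ)) ^ k + c01 * (-(v : ℝ)) ^ k +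
        ∑ j ∈ angles (2 * m), (mult j : ℝ) * (2 * (Real.sqrt ((u : ℝ) * v)) ^ k *
          Real.cos (2 * Real.pi * j * k / ((2 * m : ℕ) : ℝ))) = if k = 0 then (N₀ : ℝ) else 0)
    (hTa : (0 : ℝ) = u * (1 + c10) - (c00 + c01)
      + ((u : ℝ) - 1) * ∑ j ∈ angles (2 * m), (mult j : ℝ))
    (hTb : (0 : ℝ) = v * (1 + c01) - (c00 + c10)
      + ((v : ℝ) - 1) * ∑ j ∈ angles (2 * m), (mult j : ℝ)) :
    ∀ j ∈ angles (2 * m), ((2 * m : ℕ) : ℝ) * mult j *
        ((1 + (u : ℝ) * v - yy (2 * m) u v j) * ((u : ℝ) + v + yy (2 * m) u v j)) =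
      N₀ * (4 * (u : ℝ) * v - (yy (2 * m) u v j) ^ 2) := by
  have hmR : (0 : ℝ) < m := by exact_mod_cast hm
  have huR : (2 : ℝ) ≤ u := by exact_mod_cast hu
  have hvR : (2 : ℝ) ≤ v := by exact_mod_cast hv
  have huv0 : (0 : ℝ) ≤ (u : ℝ) * v := by positivity
  obtain ⟨r, hr⟩ : ∃ r, r = Real.sqrt ((u : ℝ) * v) := ⟨_, rfl⟩
  have hr2 : r ^ 2 = (u : ℝ) * v := by rw [hr]; exact Real.sq_sqrt huv0
  have hr0 : 0 ≤ r := by rw [hr]; exact Real.sqrt_nonneg _
  have hr2' : 2 ≤ r := by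
    by_contra hlt
    have hlt' := not_le.mp hlt
    nlinarith
  have hrne : r ≠ 0 := by intro h; rw [h] at hr2'; norm_num at hr2'
  have hrρ : r * r⁻¹ = 1 := mul_inv_cancel₀ hrne
  have hq : (u : ℝ) * v * r⁻¹ = r := by
    rw [← hr2]; linear_combination r * hrρ
  have hang : ∀ j k : ℕ, 2 * Real.pi * j * k / ((2 * m : ℕ) : ℝ) = k * (Real.pi * j / m) := by
    intro j k; push_cast; ring
  have hyy : ∀ j : ℕ, yy (2 * m) u v j = 2 * r * Real.cos (Real.pi * j / m) := by
    intro j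
    unfold yy
    rw [← hr]
    congr 2
    push_cast; ring
  -- the geometric sum
  set E : ℝ := ∑ k ∈ Finset.range m, ((u : ℝ) * v) ^ k with hEdef
  have hNE : (N₀ : ℝ) = (1 + (u : ℝ)) * (1 + v) * E := by
    rw [hN, fh_N0_even]; push_cast; rfl
  have hgeom : ((u : ℝ) * v - 1) * E = ((u : ℝ) * v) ^ m - 1 := by
    rw [hEdef, mul_comm]; exact geom_sum_mul _ _
  -- the trace equations
  have hE0 : (1 : ℝ) + c00 + c10 + c01 + 2 * ∑ j ∈ angles (2 * m), (mult j : ℝ) = N₀ := by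
    have h := hE 0 (Nat.zero_le _)
    simp only [pow_zero, mul_one, Nat.cast_zero, mul_zero, zero_div, Real.cos_zero,
      if_true] at h
    rw [← h, Finset.mul_sum]
    congr 1
    apply Finset.sum_congr rfl
    intro j _; ring
  set M : ℝ := ∑ j ∈ angles (2 * m), (mult j : ℝ) with hM
  have hu1 : (1 + (u : ℝ)) ≠ 0 := by positivity
  have hv1 : (1 + (v : ℝ)) ≠ 0 := by positivity
  have hPA : (c00 : ℝ) + c01 - c10 = 1 + ((u : ℝ) - 1) * (1 + v) * E := by
    apply mul_left_cancel₀ hu1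
    linear_combination (2 : ℝ) * hTa + ((u : ℝ) - 1) * hE0 + ((u : ℝ) - 1) * hNE
  have hPB : (c00 : ℝ) + c10 - c01 = 1 + ((v : ℝ) - 1) * (1 + u) * E := by
    apply mul_left_cancel₀ hv1
    linear_combination (2 : ℝ) * hTb + ((v : ℝ) - 1) * hE0 + ((v : ℝ) - 1) * hNE
  have hc00 : ((u : ℝ) * v - 1) * E = (c00 : ℝ) - 1 := by
    linear_combination (-1 / 2 : ℝ) * hPA - (1 / 2 : ℝ) * hPB
  have hc00' : (c00 : ℝ) = ((u : ℝ) * v) ^ m := by
    linear_combination hgeom - hc00
  have hc : (c10 : ℝ) - c01 = E * ((v : ℝ) - u) := by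
    linear_combination (-1 / 2 : ℝ) * hPA + (1 / 2 : ℝ) * hPB
  have hc00X : (c00 : ℝ) * (r⁻¹) ^ m = r ^ m := by
    rw [hc00', ← mul_pow, hq]
  -- the key DFT identity
  have hE' : ∀ k : ℕ, k ≤ m → ((u : ℝ) * v) ^ k + c00 + c10 * (-(u : ℝ)) ^ k
      + c01 * (-(v : ℝ)) ^ k +
        ∑ j ∈ angles (2 * m), (mult j : ℝ) * (2 * r ^ k * Real.cos (k * (Real.pi * j / m))) =
          if k = 0 then (N₀ : ℝ) else 0 := by
    intro k hk
    rw [← hE k hk, ← hr]
    simp only [hang]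
  have key := fh_even_key m hm ((u : ℝ) * v) r r⁻¹ hrρ hq c00 c10 c01 (-(u : ℝ)) (-(v : ℝ)) N₀
    (fun j => (mult j : ℝ)) hE'
  -- general evaluation
  have hgen : ∀ j0 : ℕ, j0 < m →
      (if 1 ≤ j0 then 2 * (m : ℝ) * mult j0 else 0) *
        ((1 + (u : ℝ) * v - 2 * r * Real.cos (Real.pi * j0 / m))
          * ((u : ℝ) + v + 2 * r * Real.cos (Real.pi * j0 / m))) =
      N₀ * (4 * (u : ℝ) * v - (2 * r * Real.cos (Real.pi * j0 / m)) ^ 2)
        + Real.cos (m * (Real.pi * j0 / m)) * (1 + (u : ℝ) * v - 2 * r * Real.cos (Real.pi * j0 / m))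
          * (((v : ℝ) - u) * (c10 * (-(u : ℝ) * r⁻¹) ^ m - c01 * (-(v : ℝ) * r⁻¹) ^ m)) := by
    intro j0 hj0
    have hs : Real.sin (m * (Real.pi * j0 / m)) = 0 := by
      have : (m : ℝ) * (Real.pi * j0 / m) = (j0 : ℝ) * Real.pi := by field_simp
      rw [this]; exact Real.sin_nat_mul_pi _
    obtain ⟨G1, G2, G3, G4⟩ := fh_even_gam_eval m u v r r⁻¹ (Real.pi * j0 / m) hr2 hrρ hs
    exact fh_even_alg u v (2 * r * Real.cos (Real.pi * j0 / m)) (Real.cos (m * (Real.pi * j0 / m)))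
      (r ^ m) ((r⁻¹) ^ m) ((-(u : ℝ) * r⁻¹) ^ m) ((-(v : ℝ) * r⁻¹) ^ m) _ _ _ _ c00 c10 c01 N₀ E _
      G1 G2 G3 G4 (key j0 hj0) hc00X hc00 hc hNE
  -- `j0 = 0` kills the `D`-term
  have hD : ((v : ℝ) - u) * (c10 * (-(u : ℝ) * r⁻¹) ^ m - c01 * (-(v : ℝ) * r⁻¹) ^ m) = 0 := by
    have h := hgen 0 (by omega)
    simp only [Nat.cast_zero, mul_zero, zero_div, Real.cos_zero, mul_one] at h
    norm_num at h
    have h1 : (4 * (u : ℝ) * v - (2 * r) ^ 2) = 0 := by linear_combination (-4 : ℝ) * hr2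
    rw [h1, mul_zero, zero_add] at h
    have h2 : (1 + (u : ℝ) * v - 2 * r) ≠ 0 := by
      rw [← hr2]
      have : 1 + r ^ 2 - 2 * r = (r - 1) ^ 2 := by ring
      rw [this]
      have : 0 < r - 1 := by linarith
      positivity
    rcases mul_eq_zero.mp h.symm with h3 | h3
    · exact absurd h3 h2
    · rw [neg_mul, neg_mul]; exact h3
  intro j hj
  have hj' := mem_angles.mp hj
  have h := hgen j (by omega)
  rw [hD, mul_zero, add_zero, if_pos hj'.1] at h
  rw [hyy j]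
  rw [← h]
  push_cast
  ring

end Cfsg.Agent.Lib.Helper48
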