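import Cfsg.Agent.S1470
import Cfsg.Agent.S1471
import Mathlib

set_option autoImplicit false

/-!
# BG Appendix C: field-theoretic glue for S1472

Setup-free field lemmas used to finish Lemma C.3 of Bender–Glauberman, Appendix C:
if `F` is a field with `p ^ q` elements and the set
`E = {a : a ^ n = 1 ∧ (2 - a) ^ n = 1}` (`n = (p ^ q - 1) / (p - 1)`) is closed under
inversion, then `p ≤ q` (via the landed statements S1470 and S1471).
-/

namespace Cfsg.Agent.Lib.Helper48

/-- In `GaloisField p q`, norm one to the prime field means `n`-th power one. -/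
theorem galoisField_norm_eq_one_iff (p q : ℕ) [Fact p.Prime] (hq0 : q ≠ 0) (x : GaloisField p q) :
    Algebra.norm (ZMod p) x = 1 ↔ x ^ ((p ^ q - 1) / (p - 1)) = 1 := by
  have h := FiniteField.algebraMap_norm_eq_pow (K := ZMod p) (K' := GaloisField p q) (x := x)
  rw [GaloisField.card p q hq0, Nat.card_zmod] at h
  rw [← h]
  constructor
  · intro h1
    rw [h1, map_one]
  · intro h1
    apply (algebraMap (ZMod p) (GaloisField p q)).injective
    rw [h1, map_one]

/-- **Field glue for S1472.**  If in a field `F` with `p ^ q` elements (`p`, `q` odd primes,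
`(p^q-1)/(p-1)` coprime to `p-1`) the set `{a : a^n = 1 ∧ (2-a)^n = 1}` is closed under
inversion, then `p ≤ q`. -/
theorem appC_field_glue (p q : ℕ) [Fact p.Prime] [Fact q.Prime] (hp : p ≠ 2) (hq : q ≠ 2)
    (hA : Nat.Coprime ((p ^ q - 1) / (p - 1)) (p - 1))
    (F : Type*) [Field F] [Fintype F] (hF : Fintype.card F = p ^ q)
    (hinv : ∀ a : F, a ^ ((p ^ q - 1) / (p - 1)) = 1 → (2 - a) ^ ((p ^ q - 1) / (p - 1)) = 1 →
      (2 - a⁻¹) ^ ((p ^ q - 1) / (p - 1)) = 1) : p ≤ q := by
  classical
  have hq0 : q ≠ 0 := (Fact.out : q.Prime).ne_zero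
  have : Fintype (GaloisField p q) := Fintype.ofFinite _
  have hcard : Fintype.card F = Fintype.card (GaloisField p q) := by
    rw [hF, Fintype.card_eq_nat_card, GaloisField.card p q hq0]
  let e : F ≃+* GaloisField p q := FiniteField.ringEquivOfCardEq hcard
  refine Cfsg.Agent.S1470.result p q hp hq hA ?_ (Cfsg.Agent.S1471.result p q hp hq hA)
  rintro a ⟨ha1, ha2⟩
  rw [galoisField_norm_eq_one_iff p q hq0] at ha1 ha2
  refine ⟨(galoisField_norm_eq_one_iff p q hq0 _).2 (by rw [inv_pow, ha1, inv_one]),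
    (galoisField_norm_eq_one_iff p q hq0 _).2 ?_⟩
  have hb1 : (e.symm a) ^ ((p ^ q - 1) / (p - 1)) = 1 := by
    rw [← map_pow, ha1, map_one]
  have hb2 : (2 - e.symm a) ^ ((p ^ q - 1) / (p - 1)) = 1 := by
    have : (2 : F) - e.symm a = e.symm (2 - a) := by
      rw [map_sub, map_ofNat]
    rw [this, ← map_pow, ha2, map_one]
  have h3 := hinv _ hb1 hb2
  have : (2 : GaloisField p q) - a⁻¹ = e (2 - (e.symm a)⁻¹) := by
    rw [map_sub, map_ofNat, map_inv₀, RingEquiv.apply_symm_apply]
  rw [this, ← map_pow, h3, map_one]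

end Cfsg.Agent.Lib.Helper48
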