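import Mathlib

set_option autoImplicit false

/-!
# BG Appendix C: the `θ`-iteration (end of Step 4 of Lemma C.3)

If `w` has odd order dividing `p`, normalizes `U`, and a predicate `R` on `U` is preserved by
`a ↦ w * a⁻¹ * w⁻¹`, then `R` is preserved by inversion (iterate `p` times).
-/

namespace Cfsg.Agent.Lib.Helper48

/-- **θ-iteration.**  `w ^ p = 1` with `p` odd, `w` maps `U` into `U` by conjugation, and `R` is
preserved on `U` by `a ↦ w * a⁻¹ * w⁻¹`.  Then `R` is preserved on `U` by inversion. -/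
theorem appC_theta_iter {G : Type*} [Group G] (U : Subgroup G) (w : G) (p : ℕ) (hp : Odd p)
    (hw : w ^ p = 1) (hwU : ∀ a ∈ U, w * a * w⁻¹ ∈ U) (R : G → Prop)
    (hR : ∀ a ∈ U, R a → R (w * a⁻¹ * w⁻¹)) : ∀ a ∈ U, R a → R a⁻¹ := by
  have hθU : ∀ a ∈ U, w * a⁻¹ * w⁻¹ ∈ U := fun a ha => hwU _ (U.inv_mem ha)
  have even : ∀ m : ℕ, ∀ a ∈ U, R a →
      (w ^ (2 * m) * a * (w ^ (2 * m))⁻¹ ∈ U ∧ R (w ^ (2 * m) * a * (w ^ (2 * m))⁻¹)) := by
    intro m
    induction m with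
    | zero => intro a ha hRa; simpa using ⟨ha, hRa⟩
    | succ m ih =>
      intro a ha hRa
      obtain ⟨h1, h2⟩ := ih a ha hRa
      have h3 := hθU _ h1
      have h4 := hR _ h1 h2
      have h5 := hθU _ h3
      have h6 := hR _ h3 h4
      have e : w * (w * (w ^ (2 * m) * a * (w ^ (2 * m))⁻¹)⁻¹ * w⁻¹)⁻¹ * w⁻¹
          = w ^ (2 * (m + 1)) * a * (w ^ (2 * (m + 1)))⁻¹ := by
        rw [show 2 * (m + 1) = 2 * m + 1 + 1 by ring, pow_succ', pow_succ']
        group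
      rw [e] at h5 h6
      exact ⟨h5, h6⟩
  intro a ha hRa
  obtain ⟨m, rfl⟩ := hp
  obtain ⟨h1, h2⟩ := even m a ha hRa
  have h4 := hR _ h1 h2
  have e : w * (w ^ (2 * m) * a * (w ^ (2 * m))⁻¹)⁻¹ * w⁻¹
      = w ^ (2 * m + 1) * a⁻¹ * (w ^ (2 * m + 1))⁻¹ := by
    rw [pow_succ']
    group
  rw [e, hw] at h4
  simpa using h4

end Cfsg.Agent.Lib.Helper48
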