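import Mathlib
import Cfsg.Prelude.Def_LocalStructure
import Cfsg.Agent.Lib.Helper47.PReduced
import Cfsg.Agent.S3264
import Cfsg.Agent.Lib.Helper5.SL2Sylow

/-!
# The quotient `N_L(Y)/O_p(L)` for `L ∈ 𝔏(Y)` (helper48)

Abstract setting in `K = L/O_p(L)`: `Yh ≤ R < K`, `R ≤ N_K(Yh)`, every proper subgroup containing `Yh`
lies in `R`, and `Yh` generates `K` as a normal subgroup.  Then `R = N_K(Yh)`; the conclusion
`Concl`: `Yh` is the only nontrivial elementary abelian `p`-subgroup normal in `R`.
-/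

set_option autoImplicit false

namespace Cfsg.Agent.Lib.Helper48

open Cfsg

universe u

/-- the abstract data in the quotient group `K`. -/
structure LQuot (p : ℕ) {K : Type u} [Group K] (Yh R : Subgroup K) : Prop where
  le : Yh ≤ R
  ne_top : R ≠ ⊤
  norm : R ≤ Subgroup.normalizer (Yh : Set K)
  max : ∀ X : Subgroup K, Yh ≤ X → X ≠ ⊤ → X ≤ R
  ncl : Subgroup.normalClosure (Yh : Set K) = ⊤
  ea : IsElementaryAbelian p Yh

/-- the conclusion in the quotient group `K`. -/
def LConcl (p : ℕ) {K : Type u} [Group K] (Yh R : Subgroup K) : Prop :=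
  ∀ V : Subgroup K, V ≤ R → R ≤ Subgroup.normalizer (V : Set K) → IsElementaryAbelian p V →
    V ≠ ⊥ → V = Yh

section generic

variable {p : ℕ} {K : Type u} [Group K] {Yh R : Subgroup K}

theorem LQuot.R_eq (h : LQuot p Yh R) : R = Subgroup.normalizer (Yh : Set K) := by
  apply le_antisymm h.norm
  apply h.max _ Subgroup.le_normalizer
  intro htop
  have hn : Yh.Normal := Subgroup.normalizer_eq_top_iff.mp htop
  have h1 : Subgroup.normalClosure (Yh : Set K) = Yh := Subgroup.normalClosure_eq_self Yh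
  have h2 := h.ncl
  rw [h1] at h2
  exact h.ne_top (top_le_iff.mp (h2 ▸ h.le))

theorem isElementaryAbelian_map {p : ℕ} {K K' : Type*} [Group K] [Group K'] (f : K →* K')
    {A : Subgroup K} (h : IsElementaryAbelian p A) : IsElementaryAbelian p (A.map f) := by
  refine ⟨?_, ?_⟩
  · have := h.1
    rw [← Subgroup.le_centralizer_iff_isMulCommutative] at this ⊢
    rintro _ ⟨a, ha, rfl⟩
    rw [Subgroup.mem_centralizer_iff]
    rintro _ ⟨b, hb, rfl⟩
    have hab := (Subgroup.mem_centralizer_iff.mp (this ha)) b hb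
    rw [← map_mul, ← map_mul, hab]
  · rintro _ ⟨a, ha, rfl⟩
    rw [← map_pow, h.2 a ha, map_one]

theorem map_normalizer_le {K K' : Type*} [Group K] [Group K'] (e : K ≃* K') (A : Subgroup K) :
    (Subgroup.normalizer (A : Set K)).map e.toMonoidHom =
      Subgroup.normalizer ((A.map e.toMonoidHom : Subgroup K') : Set K') := by
  ext x
  constructor
  · rintro ⟨n, hn, rfl⟩
    rw [Subgroup.mem_normalizer_iff]
    intro y
    constructor
    · rintro ⟨a, ha, rfl⟩
      refine ⟨n * a * n⁻¹, (Subgroup.mem_normalizer_iff.mp hn a).mp ha, by simp⟩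
    · rintro ⟨b, hb, hbe⟩
      have hy : y = e (n⁻¹ * b * n⁻¹⁻¹) := by
        have : e b = e n * y * (e n)⁻¹ := hbe
        simp only [map_mul, map_inv, inv_inv]
        rw [this]; group
      rw [hy]
      refine ⟨_, ?_, rfl⟩
      have hn' : n⁻¹ ∈ Subgroup.normalizer (A : Set K) := Subgroup.inv_mem _ hn
      exact (Subgroup.mem_normalizer_iff.mp hn' b).mp hb
  · intro hx
    refine ⟨e.symm x, ?_, by simp⟩
    rw [SetLike.mem_coe, Subgroup.mem_normalizer_iff]
    intro a
    have hxa := Subgroup.mem_normalizer_iff.mp hx (e a)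
    constructor
    · intro ha
      obtain ⟨b, hb, hbe⟩ := hxa.mp ⟨a, ha, rfl⟩
      have : e.symm x * a * (e.symm x)⁻¹ = b := by
        apply e.injective
        simp only [map_mul, map_inv, MulEquiv.apply_symm_apply]
        exact hbe.symm
      rw [this]; exact hb
    · intro ha
      obtain ⟨b, hb, hbe⟩ := hxa.mpr ⟨_, ha, by simp⟩
      have : a = b := by
        apply e.injective
        exact hbe.symm
      rw [this]; exact hb

/-- transport of the data along an isomorphism. -/
theorem LQuot.map {K' : Type*} [Group K'] (e : K ≃* K') (h : LQuot p Yh R) :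
    LQuot p (Yh.map e.toMonoidHom) (R.map e.toMonoidHom) := by
  refine ⟨Subgroup.map_mono h.le, ?_, ?_, ?_, ?_, isElementaryAbelian_map _ h.ea⟩
  · intro htop
    apply h.ne_top
    have : (R.map e.toMonoidHom).comap e.toMonoidHom = R :=
      Subgroup.comap_map_eq_self_of_injective e.injective R
    rw [← this, htop, Subgroup.comap_top]
  · rw [← map_normalizer_le]
    exact Subgroup.map_mono h.norm
  · intro X hX hXtop
    have h1 : Yh ≤ X.comap e.toMonoidHom := by
      rw [← Subgroup.map_le_iff_le_comap]; exact hX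
    have h2 : X.comap e.toMonoidHom ≠ ⊤ := by
      intro htop
      apply hXtop
      have : (X.comap e.toMonoidHom).map e.toMonoidHom = X :=
        Subgroup.map_comap_eq_self_of_surjective e.surjective X
      rw [← this, htop, ← MonoidHom.range_eq_map]
      exact MonoidHom.range_eq_top.mpr e.surjective
    have h3 := h.max _ h1 h2
    have : (X.comap e.toMonoidHom).map e.toMonoidHom = X :=
      Subgroup.map_comap_eq_self_of_surjective e.surjective X
    rw [← this]
    exact Subgroup.map_mono h3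
  · have := Subgroup.map_normalClosure (Yh : Set K) e.toMonoidHom e.surjective
    rw [h.ncl] at this
    rw [Subgroup.coe_map, ← this, ← MonoidHom.range_eq_map]
    exact MonoidHom.range_eq_top.mpr e.surjective

/-- the conclusion transports back along an isomorphism. -/
theorem LConcl.of_map {K' : Type*} [Group K'] (e : K ≃* K')
    (h : LConcl p (Yh.map e.toMonoidHom) (R.map e.toMonoidHom)) : LConcl p Yh R := by
  intro V hVR hRV hV hV1
  have h1 := h (V.map e.toMonoidHom) (Subgroup.map_mono hVR) ?_ (isElementaryAbelian_map _ hV) ?_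
  · exact Subgroup.map_injective e.injective h1
  · rw [← map_normalizer_le]
    exact Subgroup.map_mono hRV
  · intro hbot
    apply hV1
    exact (Subgroup.map_eq_bot_iff_of_injective V (f := e.toMonoidHom) e.injective).mp hbot

end generic

section cardTwo

variable {p : ℕ} {K : Type u} [Group K]

/-- the centralizer of `y` in a dihedral group `⟨y, z⟩` with `yz` of odd order is `{1, y}`. -/
theorem eq_one_or_eq_of_commute_dihedral {y z x : K} (hy : y * y = 1) (hz : z * z = 1)
    (hgen : Subgroup.closure ({y, z} : Set K) = ⊤) (hodd : Odd (orderOf (y * z)))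
    (hx : x * y = y * x) : x = 1 ∨ x = y := by
  set c : K := y * z with hc
  have hyi : y⁻¹ = y := inv_eq_of_mul_eq_one_right hy
  have hzi : z⁻¹ = z := inv_eq_of_mul_eq_one_right hz
  have hci : c⁻¹ = z * y := by rw [hc, mul_inv_rev, hyi, hzi]
  have h1 : y * c * y⁻¹ = c⁻¹ := by
    rw [hci, hc, hyi]
    calc y * (y * z) * y = (y * y) * z * y := by group
      _ = z * y := by rw [hy, one_mul]
  have h2 : z * c * z⁻¹ = c⁻¹ := by
    rw [hci, hc, hzi]
    calc z * (y * z) * z = z * y * (z * z) := by group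
      _ = z * y := by rw [hz, mul_one]
  set C : Subgroup K := Subgroup.zpowers c with hC
  have conjC : ∀ g : K, g * c * g⁻¹ = c⁻¹ → ∀ l ∈ C, g * l * g⁻¹ = l⁻¹ := by
    intro g hg l hl
    obtain ⟨k, rfl⟩ := Subgroup.mem_zpowers_iff.mp hl
    have e1 : g * c ^ k * g⁻¹ = (g * c * g⁻¹) ^ k := by
      have : ∀ w : K, g * w * g⁻¹ = MulAut.conj g w := fun w => by simp [MulAut.conj_apply]
      rw [this, this, map_zpow]
    rw [e1, hg, inv_zpow]
  have hCn : C.Normal := by
    rw [← Subgroup.normalizer_eq_top_iff, eq_top_iff, ← hgen, Subgroup.closure_le]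
    intro g hg
    rcases hg with rfl | rfl
    · apply Cfsg.Agent.S3264.mem_normalizer_of_invol hy C
      intro l hl
      rw [conjC _ h1 l hl]
      exact C.inv_mem hl
    · apply Cfsg.Agent.S3264.mem_normalizer_of_invol hz C
      intro l hl
      rw [conjC _ h2 l hl]
      exact C.inv_mem hl
  have htop : C ⊔ Subgroup.zpowers y = ⊤ := by
    rw [eq_top_iff, ← hgen, Subgroup.closure_le]
    intro g hg
    rcases hg with rfl | hg
    · exact (le_sup_right : Subgroup.zpowers g ≤ _) (Subgroup.mem_zpowers g)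
    · have hg' : g = z := hg
      have : g = y⁻¹ * c := by rw [hg', hc]; group
      rw [this]
      apply Subgroup.mul_mem
      · exact Subgroup.inv_mem _ ((le_sup_right : Subgroup.zpowers y ≤ _) (Subgroup.mem_zpowers y))
      · exact (le_sup_left : C ≤ _) (Subgroup.mem_zpowers c)
  have hxm : x ∈ C ⊔ Subgroup.zpowers y := by rw [htop]; trivial
  rw [← SetLike.mem_coe, Subgroup.normal_mul, Set.mem_mul] at hxm
  obtain ⟨d, hd, w, hw, rfl⟩ := hxm
  -- `d` commutes with `y`
  have key : ∀ d ∈ C, d * y = y * d → d = 1 := by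
    intro d hd hdy
    have h3 : y * d * y⁻¹ = d⁻¹ := conjC _ h1 d hd
    have h4 : y * d * y⁻¹ = d := by rw [← hdy]; group
    have h5 : d * d = 1 := by
      have : d⁻¹ = d := by rw [← h3, h4]
      calc d * d = d⁻¹ * d := by rw [this]
        _ = 1 := by group
    have h6 : orderOf d ∣ 2 := orderOf_dvd_of_pow_eq_one (by rw [pow_two]; exact h5)
    have h7 : orderOf d ∣ orderOf c := orderOf_dvd_of_mem_zpowers hd
    have h8 : Nat.Coprime 2 (orderOf c) := Nat.coprime_two_left.mpr hodd
    have h9 : orderOf d ∣ 1 := by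
      have := Nat.dvd_gcd h6 h7
      rwa [h8] at this
    exact orderOf_eq_one_iff.mp (Nat.dvd_one.mp h9)
  rcases Cfsg.Agent.S3264.mem_zpowers_invol hy hw with rfl | rfl
  · left
    rw [mul_one] at hx ⊢
    exact key d hd hx
  · right
    have : d * w = w * d := by
      have h10 : d * w * w = w * (d * w) := hx
      calc d * w = d * w * (w * w) := by rw [hy, mul_one]
        _ = (d * w * w) * w := by group
        _ = w * (d * w) * w := by rw [h10]
        _ = w * d * (w * w) := by group
        _ = w * d := by rw [hy, mul_one]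
    rw [key d hd this, one_mul]

variable [Finite K] {Yh R : Subgroup K}

/-- If `|Yh| = 2` then `R = Yh`. -/
theorem LQuot.R_eq_of_card_two (h : LQuot p Yh R) (h2 : Nat.card Yh = 2) : R = Yh := by
  obtain ⟨⟨y, hyY⟩, hy1, hyu⟩ := (Nat.card_eq_two_iff' (1 : Yh)).mp h2
  have hy1' : y ≠ 1 := fun h0 => hy1 (Subtype.ext h0)
  have hall : ∀ a ∈ Yh, a = 1 ∨ a = y := by
    intro a ha
    by_cases ha1 : a = 1
    · exact Or.inl ha1
    · right
      have := hyu ⟨a, ha⟩ (fun h0 => ha1 (congrArg Subtype.val h0))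
      exact congrArg Subtype.val this
  have hy : y * y = 1 := by
    rcases hall _ (Yh.mul_mem hyY hyY) with h0 | h0
    · exact h0
    · exfalso; apply hy1'
      calc y = y⁻¹ * (y * y) := by group
        _ = y⁻¹ * y := by rw [h0]
        _ = 1 := by group
  -- some conjugate of `y` generates `K` together with `y`
  have hex : ∃ g : K, Subgroup.closure ({y, g * y * g⁻¹} : Set K) = ⊤ := by
    by_contra hcon
    push Not at hcon
    have hconj : ∀ g : K, g * y * g⁻¹ ∈ R := by
      intro g
      have hle : Yh ≤ Subgroup.closure ({y, g * y * g⁻¹} : Set K) := by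
        intro a ha
        rcases hall a ha with rfl | rfl
        · exact Subgroup.one_mem _
        · exact Subgroup.subset_closure (Set.mem_insert _ _)
      exact h.max _ hle (hcon g) (Subgroup.subset_closure (Set.mem_insert_of_mem _ rfl))
    apply h.ne_top
    rw [eq_top_iff, ← h.ncl, Subgroup.normalClosure, Subgroup.closure_le]
    intro a ha
    obtain ⟨b, hb, hba⟩ := Group.mem_conjugatesOfSet_iff.mp ha
    obtain ⟨c, rfl⟩ := isConj_iff.mp hba
    rcases hall b hb with rfl | rfl
    · simp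
    · exact hconj c
  obtain ⟨g, hgen⟩ := hex
  set z : K := g * y * g⁻¹ with hz
  have hzz : z * z = 1 := by
    rw [hz]
    calc g * y * g⁻¹ * (g * y * g⁻¹) = g * (y * y) * g⁻¹ := by group
      _ = 1 := by rw [hy]; group
  have hz1 : z ≠ 1 := by
    intro h0
    apply hy1'
    have : y = g⁻¹ * z * g := by rw [hz]; group
    rw [this, h0]; group
  have hnc : Subgroup.normalClosure ({y} : Set K) = ⊤ := by
    rw [eq_top_iff, ← h.ncl]
    apply Subgroup.normalClosure_le_normal
    intro a ha
    rcases hall a ha with rfl | rfl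
    · exact Subgroup.one_mem _
    · exact Subgroup.subset_normalClosure rfl
  have hodd : Odd (orderOf (y * z)) := Cfsg.Agent.S3264.odd_orderOf_mul_of_gen hy hzz hz1 hgen hnc
  apply le_antisymm _ h.le
  intro x hx
  have hxn := h.norm hx
  have h3 := (Subgroup.mem_normalizer_iff.mp hxn y).mp hyY
  have hxy : x * y = y * x := by
    rcases hall _ h3 with h0 | h0
    · exfalso; apply hy1'
      have : y = x⁻¹ * (x * y * x⁻¹) * x := by group
      rw [this, h0]; group
    · calc x * y = (x * y * x⁻¹) * x := by group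
        _ = y * x := by rw [h0]
  rcases eq_one_or_eq_of_commute_dihedral hy hzz hgen hodd hxy with rfl | rfl
  · exact Yh.one_mem
  · exact hyY

theorem LQuot.concl_of_card_two (h : LQuot p Yh R) (h2 : Nat.card Yh = 2) : LConcl p Yh R := by
  intro V hVR _ _ hV1
  have hR := h.R_eq_of_card_two h2
  rw [hR] at hVR
  apply le_antisymm hVR
  obtain ⟨⟨y, hyY⟩, hy1, hyu⟩ := (Nat.card_eq_two_iff' (1 : Yh)).mp h2
  obtain ⟨v, hv1⟩ := (Subgroup.ne_bot_iff_exists_ne_one.mp hV1)
  have hvy : (v : K) = y := by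
    have := hyu ⟨v, hVR v.2⟩ (fun h0 => hv1 (Subtype.ext (by simpa using congrArg Subtype.val h0)))
    exact congrArg Subtype.val this
  intro a ha
  by_cases ha1 : a = 1
  · rw [ha1]; exact V.one_mem
  · have := hyu ⟨a, ha⟩ (fun h0 => ha1 (congrArg Subtype.val h0))
    have : a = y := congrArg Subtype.val this
    rw [this, ← hvy]
    exact v.2

end cardTwo

section SL2

open Matrix Matrix.SpecialLinearGroup Cfsg.Agent.Lib.Helper5
open scoped MatrixGroups

variable {F : Type*} [Field F]

/-- upper unitriangular element. -/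
def uSL (x : F) : SL(2, F) := ⟨!![1, x; 0, 1], by simp [Matrix.det_fin_two]⟩

/-- diagonal element. -/
def dSL (t : Fˣ) : SL(2, F) := ⟨!![(t : F), 0; 0, ((t⁻¹ : Fˣ) : F)], by simp [Matrix.det_fin_two]⟩

@[simp] theorem uSL_00 (x : F) : (uSL x).1 0 0 = 1 := rfl
@[simp] theorem uSL_01 (x : F) : (uSL x).1 0 1 = x := rfl
@[simp] theorem uSL_10 (x : F) : (uSL x).1 1 0 = 0 := rfl
@[simp] theorem uSL_11 (x : F) : (uSL x).1 1 1 = 1 := rfl
@[simp] theorem dSL_00 (t : Fˣ) : (dSL t).1 0 0 = (t : F) := rfl
@[simp] theorem dSL_01 (t : Fˣ) : (dSL t).1 0 1 = 0 := rfl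
@[simp] theorem dSL_10 (t : Fˣ) : (dSL t).1 1 0 = 0 := rfl
@[simp] theorem dSL_11 (t : Fˣ) : (dSL t).1 1 1 = ((t⁻¹ : Fˣ) : F) := rfl

theorem uSL_mem (x : F) : uSL x ∈ unipSL F := by
  rw [mem_unipSL]; exact ⟨rfl, rfl, rfl⟩

theorem eq_uSL_of_mem {g : SL(2, F)} (hg : g ∈ unipSL F) : g = uSL (g.1 0 1) := by
  obtain ⟨h1, h2, h3⟩ := mem_unipSL.mp hg
  apply sl2_ext <;> simp [h1, h2, h3]

theorem uSL_add (x y : F) : uSL (x + y) = uSL x * uSL y := by
  apply sl2_ext <;> simp [sl2_mul_apply]
  ring

theorem uSL_zero : uSL (0 : F) = 1 := by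
  apply sl2_ext <;> simp

theorem uSL_neg (x : F) : uSL (-x) = (uSL x)⁻¹ := by
  rw [eq_inv_iff_mul_eq_one, ← uSL_add, neg_add_cancel, uSL_zero]

theorem dSL_conj_uSL (t : Fˣ) (x : F) : dSL t * uSL x * (dSL t)⁻¹ = uSL ((t : F) ^ 2 * x) := by
  apply sl2_ext <;>
    simp [sl2_mul_apply, sl2_inv_00, sl2_inv_01, sl2_inv_10, sl2_inv_11]
  ring

theorem exists_sq_sub_sq [Fintype F] (a : F) : ∃ s₁ s₂ : F, a = s₁ ^ 2 - s₂ ^ 2 := by
  by_cases h2 : (2 : F) = 0
  · have : CharP F 2 := CharTwo.of_one_ne_zero_of_two_eq_zero one_ne_zero h2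
    have hF : ringChar F = 2 := ringChar.eq F 2
    obtain ⟨s, hs⟩ := FiniteField.isSquare_of_char_two hF a
    exact ⟨s, 0, by rw [hs]; ring⟩
  · refine ⟨(a + 1) / 2, (a - 1) / 2, ?_⟩
    field_simp
    ring

theorem dSL_mem_normalizer [Fintype F] (p : ℕ) [Fact p.Prime] [CharP F p] (t : Fˣ) : dSL t ∈ Subgroup.normalizer ((unipSL F : Subgroup SL(2, F)) : Set SL(2, F)) := by
  have := smul_unipSLSylow_eq_self (F := F) p (k := dSL t) rfl
  rw [Sylow.smul_eq_iff_mem_normalizer] at this
  exact this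

variable [Fintype F] (p : ℕ) [Fact p.Prime] [CharP F p]

theorem concl_unipSL {R : Subgroup SL(2, F)} (h : LQuot p (unipSL F) R) : LConcl p (unipSL F) R := by
  intro V hVR hRV hV hV1
  have hR := h.R_eq
  have hVp : IsPGroup p V := Cfsg.Agent.Lib.Helper47.IsElementaryAbelian.isPGroup hV
  have hVU : V ≤ unipSL F := by
    have h1 : IsPGroup p (V ⊔ unipSL F : Subgroup SL(2, F)) :=
      IsPGroup.to_sup_of_normal_right' hVp (isPGroup_unipSL p) (hR ▸ hVR)
    have h2 := (unipSLSylow (F := F) p).is_maximal' h1 (by rw [coe_unipSLSylow]; exact le_sup_right)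
    rw [coe_unipSLSylow] at h2
    rw [← h2]
    exact le_sup_left
  apply le_antisymm hVU
  obtain ⟨⟨v, hvV⟩, hv1⟩ := Subgroup.ne_bot_iff_exists_ne_one.mp hV1
  have hv1' : v ≠ 1 := fun h0 => hv1 (Subtype.ext h0)
  have hvu := eq_uSL_of_mem (hVU hvV)
  set b : F := v.1 0 1 with hb
  have hb0 : b ≠ 0 := by
    intro h0
    apply hv1'
    rw [hvu, h0, uSL_zero]
  -- the additive subgroup of parameters
  have hsq : ∀ s : F, uSL (s ^ 2 * b) ∈ V := by
    intro s
    by_cases hs : s = 0
    · rw [hs]; simp only [ne_eq, OfNat.ofNat_ne_zero, not_false_eq_true, zero_pow, zero_mul]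
      rw [uSL_zero]; exact V.one_mem
    · have hmem : dSL (Units.mk0 s hs) ∈ R := by
        rw [hR]; exact dSL_mem_normalizer p _
      have := (Subgroup.mem_normalizer_iff.mp (hRV hmem) v).mp hvV
      rw [hvu, dSL_conj_uSL] at this
      exact this
  intro g hg
  rw [eq_uSL_of_mem hg]
  obtain ⟨s₁, s₂, hs⟩ := exists_sq_sub_sq (g.1 0 1 / b)
  have hx : g.1 0 1 = s₁ ^ 2 * b + -(s₂ ^ 2 * b) := by
    have : g.1 0 1 = (g.1 0 1 / b) * b := by field_simp
    rw [this, hs]; ring
  rw [hx, uSL_add, uSL_neg]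
  exact V.mul_mem (hsq s₁) (V.inv_mem (hsq s₂))

omit [CharP F p] in
/-- the `SL₂(q)` case. -/
theorem concl_SL2 {K : Type*} [Group K] (e : K ≃* SL(2, F)) {Yh R : Subgroup K}
    (h : LQuot p Yh R) (hcard : Nat.card Yh = Fintype.card F) : LConcl p Yh R := by
  have hKfin : Finite K := Finite.of_equiv _ e.symm.toEquiv
  -- the characteristic of `F` is `p`
  have hYp : IsPGroup p Yh := Cfsg.Agent.Lib.Helper47.IsElementaryAbelian.isPGroup h.ea
  obtain ⟨k, hk⟩ := hYp.exists_card_eq
  have hchar : CharP F p := by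
    set r := ringChar F with hr
    have hcr : CharP F r := ringChar.charP F
    obtain ⟨n, hrp, hn⟩ := FiniteField.card F r
    have h1 : r ∣ p ^ k := by
      rw [← hk, hcard, hn]
      exact dvd_pow_self r n.pos.ne'
    have h2 : r = p := (Nat.prime_dvd_prime_iff_eq hrp Fact.out).mp (hrp.dvd_of_dvd_pow h1)
    rw [← h2]; exact hcr
  -- move to `SL₂(F)`
  have h' := h.map e
  have hcard' : Nat.card (Yh.map e.toMonoidHom) = Fintype.card F := by
    rw [Subgroup.card_map_of_injective e.injective, hcard]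
  obtain ⟨P, hP⟩ := (Cfsg.Agent.Lib.Helper47.IsElementaryAbelian.isPGroup h'.ea).exists_le_sylow
  have hYP : Yh.map e.toMonoidHom = P := by
    apply Subgroup.eq_of_le_of_card_ge hP
    rw [card_sylow_sl2 p P, hcard']
  obtain ⟨g, hg⟩ := exists_smul_unipSLSylow_eq p P
  have hPg : (P : Subgroup SL(2, F)) = (unipSL F).map (MulAut.conj g).toMonoidHom := by
    rw [← hg, smul_unipSLSylow_coe, Subgroup.pointwise_smul_def]
    rfl
  let e₂ : SL(2, F) ≃* SL(2, F) := MulAut.conj g⁻¹
  have hY2 : (Yh.map e.toMonoidHom).map e₂.toMonoidHom = unipSL F := by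
    rw [hYP, hPg, Subgroup.map_map]
    have : e₂.toMonoidHom.comp (MulAut.conj g).toMonoidHom = MonoidHom.id _ := by
      ext x : 1
      simp [e₂, MulAut.conj_apply]
      group
    rw [this, Subgroup.map_id]
  have h'' := h'.map e₂
  rw [hY2] at h''
  have c1 := concl_unipSL p h''
  apply LConcl.of_map e
  apply LConcl.of_map e₂
  rw [hY2]
  exact c1

end SL2

section transfer

theorem LQuot.ne_bot {p : ℕ} {K : Type u} [Group K] {Yh R : Subgroup K} (h : LQuot p Yh R) :
    Yh ≠ ⊥ := by
  intro h0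
  have h1 := h.ncl
  rw [h0, Subgroup.normalClosure_eq_self ⊥] at h1
  apply h.ne_top
  rw [eq_top_iff, ← h1]
  exact bot_le

/-- transfer of the conclusion from the image of `N` in `K` to the quotient `N ⧸ A`. -/
theorem quot_transfer {N : Type*} [Group N] {K : Type*} [Group K] (A : Subgroup N) [A.Normal]
    (φ : N →* K) (hker : φ.ker = A) (Y : Subgroup N) [Y.Normal] (p : ℕ)
    (hY : IsElementaryAbelian p Y) (h1 : Y.map φ ≠ ⊥)
    (h4 : LConcl p (Y.map φ) φ.range) :
    Y.map (QuotientGroup.mk' A) ≠ ⊥ ∧ (Y.map (QuotientGroup.mk' A)).Normal ∧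
      IsElementaryAbelian p (Y.map (QuotientGroup.mk' A)) ∧
      ∀ V : Subgroup (N ⧸ A), V.Normal → IsElementaryAbelian p V → V ≠ ⊥ →
        V = Y.map (QuotientGroup.mk' A) := by
  let ψ : N ⧸ A →* K := QuotientGroup.lift A φ (by rw [hker])
  have hψmk : ∀ x : N, ψ (QuotientGroup.mk x) = φ x := fun x => rfl
  have hψinj : Function.Injective ψ := by
    rw [injective_iff_map_eq_one]
    intro q hq
    induction q using QuotientGroup.induction_on with
    | H x =>
      rw [hψmk] at hq
      have : x ∈ A := by rw [← hker]; exact hq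
      exact (QuotientGroup.eq_one_iff x).mpr this
  have hcomp : ψ.comp (QuotientGroup.mk' A) = φ := by
    ext x; rfl
  have hYmap : (Y.map (QuotientGroup.mk' A)).map ψ = Y.map φ := by
    rw [Subgroup.map_map, hcomp]
  have hrange : ψ.range = φ.range := by
    rw [← hcomp, MonoidHom.range_comp,
      MonoidHom.range_eq_top.mpr (QuotientGroup.mk'_surjective A), ← MonoidHom.range_eq_map]
  refine ⟨?_, ?_, isElementaryAbelian_map _ hY, ?_⟩
  · intro h0
    apply h1
    rw [← hYmap, h0, Subgroup.map_bot]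
  · exact Subgroup.Normal.map inferInstance _ (QuotientGroup.mk'_surjective A)
  · intro V hVn hV hV1
    apply Subgroup.map_injective hψinj
    rw [hYmap]
    apply h4
    · rw [← hrange]; exact Subgroup.map_le_range ψ V
    · rw [← hrange]
      rintro _ ⟨q, rfl⟩
      rw [Subgroup.mem_normalizer_iff]
      intro x
      constructor
      · rintro ⟨v, hv, rfl⟩
        exact ⟨q * v * q⁻¹, hVn.conj_mem v hv q, by simp⟩
      · rintro ⟨v, hv, hvx⟩
        refine ⟨q⁻¹ * v * q⁻¹⁻¹, hVn.conj_mem v hv q⁻¹, ?_⟩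
        simp only [map_mul, map_inv, inv_inv]
        rw [hvx]; group
    · exact isElementaryAbelian_map _ hV
    · intro h0
      exact hV1 ((Subgroup.map_eq_bot_iff_of_injective V hψinj).mp h0)

end transfer

end Cfsg.Agent.Lib.Helper48
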