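/-
helper48 shared library: `p`-minimal groups (`Cfsg.IsPMinimal`).

* `isPMinimal_of_sylow` : criterion in terms of ONE Sylow `p`-subgroup `T`: `T` is not normal and
  every proper subgroup containing `T` lies in a fixed proper subgroup `M`;
* `isPMinimal_subgroup` : the same criterion for a subgroup `H` of an ambient group, stated with
  subgroups of the ambient group;
* `exists_mul_of_mem_sup_of_le_normalizer'` : elements of `H ⊔ C` are products when `H ≤ N(C)`;
* `isNilpotent_of_normal_le_coatom` : in a `p`-minimal group `P` with `O_p(P) = 1`, a normal subgroup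
  of `P` inside the maximal subgroup containing a Sylow `p`-subgroup is nilpotent.
-/
import Mathlib
import Cfsg.Prelude.Def_LocalEven
import Cfsg.Agent.Lib.Helper48.Generation
import Cfsg.Agent.Lib.Helper47.SylowLemmas

set_option autoImplicit false

namespace Cfsg.Agent.Lib.Helper48

open Cfsg
open scoped Pointwise commutatorElement

section Criterion

variable {H : Type*} [Group H]

/-- Criterion for `p`-minimality via one Sylow `p`-subgroup. -/
theorem isPMinimal_of_sylow [Finite H] {p : ℕ} [Fact p.Prime] (T : Sylow p H)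
    (hT : ¬ (T : Subgroup H).Normal) (M : Subgroup H) (hM : M ≠ ⊤) (hTM : (T : Subgroup H) ≤ M)
    (h : ∀ X : Subgroup H, (T : Subgroup H) ≤ X → X ≠ ⊤ → X ≤ M) : IsPMinimal p H := by
  intro T'
  obtain ⟨g, rfl⟩ := MulAction.exists_smul_eq H T T'
  constructor
  · intro hn
    have : ((g • T : Sylow p H) : Subgroup H).Normal := hn
    have h1 : g⁻¹ • (g • T) = g • T := Sylow.smul_eq_of_normal
    rw [inv_smul_smul] at h1
    rw [← h1] at hn
    exact hT hn
  · have hcoe : ((g • T : Sylow p H) : Subgroup H) = MulAut.conj g • (T : Subgroup H) :=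
      Sylow.coe_subgroup_smul
    have hTM' : ((g • T : Sylow p H) : Subgroup H) ≤ MulAut.conj g • M := by
      rw [hcoe]; exact Subgroup.pointwise_smul_le_pointwise_smul_iff.mpr hTM
    have hM' : MulAut.conj g • M ≠ ⊤ := by
      intro htop
      apply hM
      rw [eq_top_iff]
      intro x _
      have : MulAut.conj g • x ∈ MulAut.conj g • M := by rw [htop]; trivial
      exact Subgroup.smul_mem_pointwise_smul_iff.mp this
    have key : ∀ X : Subgroup H, ((g • T : Sylow p H) : Subgroup H) ≤ X → X ≠ ⊤ →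
        X ≤ MulAut.conj g • M := by
      intro X hTX hX
      have h1 : (T : Subgroup H) ≤ (MulAut.conj g)⁻¹ • X := by
        rw [hcoe] at hTX
        rw [Subgroup.subset_pointwise_smul_iff, inv_inv]
        exact hTX
      have h2 : (MulAut.conj g)⁻¹ • X ≠ ⊤ := by
        intro htop
        apply hX
        rw [eq_top_iff]
        intro x _
        have : (MulAut.conj g)⁻¹ • x ∈ (MulAut.conj g)⁻¹ • X := by rw [htop]; trivial
        exact Subgroup.smul_mem_pointwise_smul_iff.mp this
      have h3 := h _ h1 h2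
      rw [Subgroup.pointwise_smul_subset_iff, inv_inv] at h3
      exact h3
    refine ⟨MulAut.conj g • M, ⟨⟨hM', ?_⟩, hTM'⟩, ?_⟩
    · intro X hlt
      by_contra hX
      exact absurd (key X (hTM'.trans hlt.le) hX) (not_le_of_gt hlt)
    · rintro M'' ⟨hco, hle⟩
      have h1 := key M'' hle hco.1
      rcases hco.le_iff.mp h1 with h2 | h2
      · exact absurd h2 hM'
      · exact h2.symm

end Criterion

section Ambient

variable {G : Type*} [Group G]

/-- Criterion for `p`-minimality of a subgroup `H`, stated inside the ambient group. -/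
theorem isPMinimal_subgroup [Finite G] {p : ℕ} [Fact p.Prime] (H T M₀ : Subgroup G)
    (hTH : T ≤ H) (hTp : IsPGroup p T) (hidx : ¬ p ∣ T.relIndex H)
    (hTn : ¬ H ≤ Subgroup.normalizer (T : Set G)) (hM₀ : ¬ H ≤ M₀) (hTM₀ : T ≤ M₀)
    (h : ∀ X : Subgroup G, T ≤ X → X ≤ H → X ≠ H → X ≤ M₀) : IsPMinimal p ↥H := by
  have hTp' : IsPGroup p (T.subgroupOf H) := hTp.comap_subtype
  have hidx' : ¬ p ∣ (T.subgroupOf H).index := hidx
  apply isPMinimal_of_sylow (hTp'.toSylow hidx') _ (M₀.subgroupOf H)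
  · intro htop
    exact hM₀ (Subgroup.subgroupOf_eq_top.mp htop)
  · show T.subgroupOf H ≤ M₀.subgroupOf H
    exact Subgroup.comap_mono hTM₀
  · intro X hTX hX
    have hTX' : T.subgroupOf H ≤ X := hTX
    have h1 : T ≤ X.map H.subtype := by
      rw [← Subgroup.map_subgroupOf_eq_of_le hTH]
      exact Subgroup.map_mono hTX'
    have h2 : X.map H.subtype ≤ H := Subgroup.map_subtype_le X
    have h3 : X.map H.subtype ≠ H := by
      intro heq
      apply hX
      rw [eq_top_iff]
      intro x _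
      have : (x : G) ∈ X.map H.subtype := by rw [heq]; exact x.2
      obtain ⟨y, hy, hyx⟩ := this
      have : y = x := Subtype.ext hyx
      rwa [← this]
    have h4 := h _ h1 h2 h3
    intro x hx
    exact h4 ⟨x, hx, rfl⟩
  · intro hn
    have hn' : (T.subgroupOf H).Normal := hn
    exact hTn ((Subgroup.normal_subgroupOf_iff_le_normalizer hTH).mp hn')

/-- Elements of `H ⊔ C` are products when `H` normalizes `C`. -/
theorem exists_mul_of_mem_sup_of_le_normalizer' {H C : Subgroup G}
    (h : H ≤ Subgroup.normalizer (C : Set G)) {x : G}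
    (hx : x ∈ H ⊔ C) : ∃ s ∈ H, ∃ c ∈ C, x = s * c := by
  rw [Subgroup.sup_eq_closure] at hx
  induction hx using Subgroup.closure_induction with
  | mem y hy =>
    rcases hy with hy | hy
    · exact ⟨y, hy, 1, C.one_mem, by simp⟩
    · exact ⟨1, H.one_mem, y, hy, by simp⟩
  | one => exact ⟨1, H.one_mem, 1, C.one_mem, by simp⟩
  | mul a b _ _ ha hb =>
    obtain ⟨s, hs, c, hc, rfl⟩ := ha
    obtain ⟨s', hs', c', hc', rfl⟩ := hb
    refine ⟨s * s', H.mul_mem hs hs', s'⁻¹ * c * s' * c', C.mul_mem ?_ hc', by group⟩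
    have := (Subgroup.mem_normalizer_iff''.mp (h hs') c).mp hc
    exact this
  | inv a _ ha =>
    obtain ⟨s, hs, c, hc, rfl⟩ := ha
    refine ⟨s⁻¹, H.inv_mem hs, s * c⁻¹ * s⁻¹, ?_, by group⟩
    exact (Subgroup.mem_normalizer_iff.mp (h hs) c⁻¹).mp (C.inv_mem hc)

/-- Elements of the join of two elementwise commuting subgroups are products. -/
theorem exists_mul_of_mem_sup_of_forall_commute (A B : Subgroup G)
    (hcomm : ∀ a ∈ A, ∀ b ∈ B, a * b = b * a) {x : G} (hx : x ∈ A ⊔ B) :
    ∃ a ∈ A, ∃ b ∈ B, x = a * b := by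
  have comm : ∀ (m : ↥A) (n : ↥B), Commute (A.subtype m) (B.subtype n) :=
    fun m n => hcomm m.1 m.2 n.1 n.2
  have hrange : (A.subtype.noncommCoprod B.subtype comm).range = A ⊔ B := by
    rw [MonoidHom.noncommCoprod_range, Subgroup.range_subtype, Subgroup.range_subtype]
  rw [← hrange] at hx
  obtain ⟨⟨a, b⟩, rfl⟩ := hx
  exact ⟨a.1, a.2, b.1, b.2, rfl⟩

theorem commutatorElement_mul_left_of_commute {a c y : G} (h : c * y = y * c) :
    ⁅a * c, y⁆ = ⁅a, y⁆ := by
  rw [commutatorElement_def, commutatorElement_def]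
  calc a * c * y * (a * c)⁻¹ * y⁻¹ = a * (c * y) * c⁻¹ * a⁻¹ * y⁻¹ := by group
    _ = a * (y * c) * c⁻¹ * a⁻¹ * y⁻¹ := by rw [h]
    _ = a * y * a⁻¹ * y⁻¹ := by group

theorem commutatorElement_mul_right_of_commute {x a c : G} (h : c * x = x * c) :
    ⁅x, a * c⁆ = ⁅x, a⁆ := by
  have h' : c * x⁻¹ = x⁻¹ * c := (Commute.inv_right (show Commute c x from h)).eq
  rw [commutatorElement_def, commutatorElement_def]
  calc x * (a * c) * x⁻¹ * (a * c)⁻¹ = x * a * (c * x⁻¹) * c⁻¹ * a⁻¹ := by group
    _ = x * a * (x⁻¹ * c) * c⁻¹ * a⁻¹ := by rw [h']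
    _ = x * a * x⁻¹ * a⁻¹ := by group

/-- If `K ≤ A · C_G(K)` with `A ≤ K` then `[K, K] ≤ A`. -/
theorem commutator_le_of_le_sup_centralizer {K A : Subgroup G} (hAK : A ≤ K)
    (h : K ≤ A ⊔ Subgroup.centralizer (K : Set G)) : ⁅K, K⁆ ≤ A := by
  rw [Subgroup.commutator_le]
  intro x hx y hy
  have hcomm : ∀ a ∈ A, ∀ b ∈ Subgroup.centralizer (K : Set G), a * b = b * a :=
    fun a ha b hb => (Subgroup.mem_centralizer_iff.mp hb) a (hAK ha)
  obtain ⟨a, ha, c, hc, rfl⟩ := exists_mul_of_mem_sup_of_forall_commute A _ hcomm (h hx)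
  obtain ⟨a', ha', c', hc', rfl⟩ := exists_mul_of_mem_sup_of_forall_commute A _ hcomm (h hy)
  have h1 : ⁅a * c, a' * c'⁆ = ⁅a, a' * c'⁆ :=
    commutatorElement_mul_left_of_commute ((Subgroup.mem_centralizer_iff.mp hc) _ hy).symm
  have h2 : ⁅a, a' * c'⁆ = ⁅a, a'⁆ :=
    commutatorElement_mul_right_of_commute ((Subgroup.mem_centralizer_iff.mp hc') _ (hAK ha)).symm
  rw [h1, h2]
  exact Subgroup.commutator_mem_commutator ha ha' |> fun h => (Subgroup.commutator_le_self A) h

end Ambient

end Cfsg.Agent.Lib.Helper48
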