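/-
helper48 shared library: the four-group generated by two commuting involutions, and the order of a
join `A ⊔ B` with `A ≤ N(B)`, `A ⊓ B = ⊥`.
-/
import Mathlib
import Cfsg.Agent.Lib.Helper72.SylowCount
import Cfsg.Agent.Lib.Helper48.PMinimal

set_option autoImplicit false

namespace Cfsg.Agent.Lib.Helper48

variable {G : Type*} [Group G]

/-- `|A B| = |A| |B|` when `A` normalizes `B` and `A ∩ B = 1`. -/
theorem card_sup_of_le_normalizer_of_disjoint [Finite G] (A B : Subgroup G)
    (h : A ≤ Subgroup.normalizer (B : Set G)) (hd : A ⊓ B = ⊥) :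
    Nat.card (A ⊔ B : Subgroup G) = Nat.card A * Nat.card B := by
  have h1 := Cfsg.Agent.Lib.Helper72.relIndex_sup_of_le_normalizer A B h
  have h2 := Subgroup.relIndex_mul_relIndex ⊥ A (A ⊔ B) bot_le le_sup_left
  rw [Subgroup.relIndex_bot_left, Subgroup.relIndex_bot_left, h1] at h2
  rw [← h2, ← Subgroup.inf_relIndex_right, hd, Subgroup.relIndex_bot_left]

theorem eq_one_or_eq_of_mem_zpowers {a x : G} (ha : a * a = 1) (hx : x ∈ Subgroup.zpowers a) :
    x = 1 ∨ x = a := by
  obtain ⟨k, rfl⟩ := Subgroup.mem_zpowers_iff.mp hx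
  have h2 : a ^ (2 : ℤ) = 1 := by
    rw [zpow_two]; exact ha
  rcases Int.even_or_odd' k with ⟨j, rfl | rfl⟩
  · left
    rw [zpow_mul, h2, one_zpow]
  · right
    rw [zpow_add, zpow_mul, h2, one_zpow, one_mul, zpow_one]

/-- The subgroup generated by two elements, as a join of cyclic groups. -/
def fourSub (a b : G) : Subgroup G := Subgroup.zpowers a ⊔ Subgroup.zpowers b

theorem left_mem_fourSub (a b : G) : a ∈ fourSub a b :=
  Subgroup.mem_sup_left (Subgroup.mem_zpowers a)

theorem right_mem_fourSub (a b : G) : b ∈ fourSub a b :=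
  Subgroup.mem_sup_right (Subgroup.mem_zpowers b)

theorem mem_fourSub {a b : G} (ha : a * a = 1) (hb : b * b = 1) (hab : a * b = b * a) {x : G} :
    x ∈ fourSub a b ↔ x = 1 ∨ x = a ∨ x = b ∨ x = a * b := by
  constructor
  · intro hx
    have hcomm : ∀ u ∈ Subgroup.zpowers a, ∀ w ∈ Subgroup.zpowers b, u * w = w * u := by
      intro u hu w hw
      rcases eq_one_or_eq_of_mem_zpowers ha hu with rfl | rfl <;>
        rcases eq_one_or_eq_of_mem_zpowers hb hw with rfl | rfl <;> simp [hab]
    obtain ⟨u, hu, w, hw, rfl⟩ := exists_mul_of_mem_sup_of_forall_commute _ _ hcomm hx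
    rcases eq_one_or_eq_of_mem_zpowers ha hu with rfl | rfl <;>
      rcases eq_one_or_eq_of_mem_zpowers hb hw with rfl | rfl <;> simp
  · rintro (rfl | rfl | rfl | rfl)
    · exact Subgroup.one_mem _
    · exact left_mem_fourSub _ _
    · exact right_mem_fourSub _ _
    · exact Subgroup.mul_mem _ (left_mem_fourSub _ _) (right_mem_fourSub _ _)

theorem card_fourSub [Finite G] {a b : G} (ha : a * a = 1) (hb : b * b = 1) (hab : a * b = b * a)
    (ha1 : a ≠ 1) (hb1 : b ≠ 1) (hne : a ≠ b) : Nat.card (fourSub a b) = 4 := by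
  have hoa : orderOf a = 2 := orderOf_eq_prime (by rw [pow_two]; exact ha) ha1
  have hob : orderOf b = 2 := orderOf_eq_prime (by rw [pow_two]; exact hb) hb1
  unfold fourSub
  rw [card_sup_of_le_normalizer_of_disjoint, Nat.card_zpowers, Nat.card_zpowers, hoa, hob]
  · intro u hu
    apply Subgroup.centralizer_le_normalizer
    rw [Subgroup.mem_centralizer_iff]
    intro w hw
    rcases eq_one_or_eq_of_mem_zpowers ha hu with rfl | rfl <;>
      rcases eq_one_or_eq_of_mem_zpowers hb hw with rfl | rfl <;> simp [hab]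
  · rw [eq_bot_iff]
    rintro x ⟨hxa, hxb⟩
    rcases eq_one_or_eq_of_mem_zpowers ha hxa with rfl | rfl
    · exact Subgroup.mem_bot.mpr rfl
    · rcases eq_one_or_eq_of_mem_zpowers hb hxb with h | h
      · exact absurd h ha1
      · exact absurd h hne

end Cfsg.Agent.Lib.Helper48
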