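import Mathlib
import Cfsg.Prelude.Def_SylowChains
import Cfsg.Prelude.Def_Local
import Cfsg.Prelude.Def_Transfer
import Cfsg.Agent.Lib.Helper33.ConjFamily
import Cfsg.Agent.Lib.Helper54.PCores

/-!
# Goldschmidt steps and their transport under conjugation (helper48 library)

`GoodH p P H`: clauses (1)–(5) of the strong Alperin–Goldschmidt theorem (S3072) for `H ≤ P`;
`IsMinX p H X`: `X/H` is the smallest normal subgroup of `N_G(H)/H` of order divisible by `p`;
`GoodStep p P H X x`: additionally `x ∈ O^p(X)`.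
All are invariant under conjugation (`goodStep_cj`).
-/

set_option autoImplicit false

namespace Cfsg.Agent.Lib.Helper48

open Cfsg Cfsg.Agent.Lib.Helper33

section Defs

variable {G : Type*} [Group G]

/-- clauses (1)–(5) of S3072 -/
structure GoodH (p : ℕ) (P H : Subgroup G) : Prop where
  le : H ≤ P
  fn : ¬ p ∣ (P ⊓ Subgroup.normalizer (H : Set G)).relIndex (Subgroup.normalizer (H : Set G))
  cent : P ⊓ Subgroup.centralizer (H : Set G) ≤ H
  core : (Cfsg.pPrimePCore p ↥(Subgroup.normalizer (H : Set G))).map (Subgroup.normalizer (H : Set G)).subtype =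
      H ⊔ Subgroup.centralizer (H : Set G)
  ncc : ¬ Cfsg.IsSylowChainConnected p
      (↥(Subgroup.normalizer (H : Set G)) ⧸ H.subgroupOf (Subgroup.normalizer (H : Set G)))

/-- clause (6) of S3072 -/
def IsMinX (p : ℕ) (H X : Subgroup G) : Prop :=
  H ≤ X ∧ X ≤ Subgroup.normalizer (H : Set G) ∧
    (X.subgroupOf (Subgroup.normalizer (H : Set G))).Normal ∧ p ∣ H.relIndex X ∧
    ∀ Y : Subgroup G, H ≤ Y → Y ≤ Subgroup.normalizer (H : Set G) →
      (Y.subgroupOf (Subgroup.normalizer (H : Set G))).Normal → p ∣ H.relIndex Y → X ≤ Y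

/-- a step of the strong Alperin–Goldschmidt decomposition -/
def GoodStep (p : ℕ) (P H X : Subgroup G) (x : G) : Prop :=
  GoodH p P H ∧ IsMinX p H X ∧ x ∈ (Cfsg.pResidual p ↥X).map X.subtype

end Defs

section Equiv

variable {Q Q' : Type*} [Group Q] [Group Q'] {p : ℕ}

theorem isSylowChainConnected_of_mulEquiv [Fact p.Prime] [Finite Q] (e : Q ≃* Q')
    (h : IsSylowChainConnected p Q) : IsSylowChainConnected p Q' := by
  have hinj : Function.Injective e.toMonoidHom := e.injective
  have hsurj : Function.Surjective e.toMonoidHom := e.surjective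
  have hrange : ∀ P : Sylow p Q', (P : Subgroup Q') ≤ e.toMonoidHom.range := by
    intro P
    rw [MonoidHom.range_eq_top.mpr hsurj]
    exact le_top
  intro S' T'
  set S : Sylow p Q := S'.comapOfInjective e.toMonoidHom hinj (hrange S') with hS
  set T : Sylow p Q := T'.comapOfInjective e.toMonoidHom hinj (hrange T') with hT
  have hScoe : (S : Subgroup Q).map e.toMonoidHom = S' := by
    rw [hS, Sylow.coe_comapOfInjective]
    exact Subgroup.map_comap_eq_self_of_surjective hsurj _
  have hTcoe : (T : Subgroup Q).map e.toMonoidHom = T' := by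
    rw [hT, Sylow.coe_comapOfInjective]
    exact Subgroup.map_comap_eq_self_of_surjective hsurj _
  obtain ⟨n, c, h0, hl, hle, hc⟩ := h S T
  refine ⟨n, fun i => (c i).mapSurjective hsurj, ?_, ?_, ?_, ?_⟩
  · apply Sylow.ext
    rw [Sylow.coe_mapSurjective, h0, hScoe]
  · apply Sylow.ext
    rw [Sylow.coe_mapSurjective, hl, hTcoe]
  · intro i
    rw [Sylow.coe_mapSurjective, ← hScoe, ← hTcoe, ← Subgroup.map_inf_eq _ _ _ hinj]
    exact Subgroup.map_mono (hle i)
  · intro i
    obtain ⟨h1, h2⟩ := hc i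
    constructor
    · intro heq
      apply h1
      apply Sylow.ext
      have := congrArg (fun R : Sylow p Q' => (R : Subgroup Q')) heq
      simp only [Sylow.coe_mapSurjective] at this
      exact Subgroup.map_injective hinj this
    · rw [Sylow.coe_mapSurjective, Sylow.coe_mapSurjective, ← Subgroup.map_inf_eq _ _ _ hinj]
      intro h0'
      exact h2 ((Subgroup.map_eq_bot_iff_of_injective _ hinj).mp h0')

theorem pResidual_map_le' {A B : Type*} [Group A] [Group B] (p : ℕ) (f : A →* B) :
    (pResidual p A).map f ≤ pResidual p B := by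
  unfold pResidual
  rw [MonoidHom.map_closure, Subgroup.closure_le]
  rintro _ ⟨x, hx, rfl⟩
  apply Subgroup.subset_closure
  exact Nat.Coprime.coprime_dvd_left (orderOf_map_dvd f x) hx

end Equiv

section Transport

variable {G : Type*} [Group G] [Finite G] {p : ℕ} [Fact p.Prime]

/-- the isomorphism `N_G(H) ≃* N_G(yHy⁻¹)` -/
noncomputable def normalizerCjEquiv (y : G) (H : Subgroup G) :
    ↥(Subgroup.normalizer (H : Set G)) ≃* ↥(Subgroup.normalizer ((cj y H : Subgroup G) : Set G)) :=
  (cjEquiv y (Subgroup.normalizer (H : Set G))).trans (MulEquiv.subgroupCongr (cj_normalizer y H))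

omit [Finite G] [Fact p.Prime] in
theorem coe_normalizerCjEquiv (y : G) (H : Subgroup G) (n : ↥(Subgroup.normalizer (H : Set G))) :
    ((normalizerCjEquiv y H n : ↥(Subgroup.normalizer ((cj y H : Subgroup G) : Set G))) : G) = y * n * y⁻¹ := by
  rfl

omit [Finite G] [Fact p.Prime] in
theorem coe_normalizerCjEquiv_symm (y : G) (H : Subgroup G)
    (n : ↥(Subgroup.normalizer ((cj y H : Subgroup G) : Set G))) :
    (((normalizerCjEquiv y H).symm n : ↥(Subgroup.normalizer (H : Set G))) : G) = y⁻¹ * n * y := by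
  have h := coe_normalizerCjEquiv y H ((normalizerCjEquiv y H).symm n)
  rw [MulEquiv.apply_symm_apply] at h
  rw [h]
  group

theorem pPrimePCore_normalizer_cj (y : G) (H : Subgroup G) :
    (pPrimePCore p ↥(Subgroup.normalizer ((cj y H : Subgroup G) : Set G))).map
        (Subgroup.normalizer ((cj y H : Subgroup G) : Set G)).subtype =
      cj y ((pPrimePCore p ↥(Subgroup.normalizer (H : Set G))).map (Subgroup.normalizer (H : Set G)).subtype) := by
  ext x
  rw [mem_cj, Subgroup.mem_map, Subgroup.mem_map]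
  constructor
  · rintro ⟨n', hn', rfl⟩
    refine ⟨(normalizerCjEquiv y H).symm n', ?_, ?_⟩
    · rw [← Cfsg.Agent.Lib.Helper54.mem_pPrimePCore_equiv_iff p (normalizerCjEquiv y H),
        MulEquiv.apply_symm_apply]
      exact hn'
    · simp only [Subgroup.coe_subtype]
      exact coe_normalizerCjEquiv_symm y H n'
  · rintro ⟨n, hn, hnx⟩
    refine ⟨normalizerCjEquiv y H n, ?_, ?_⟩
    · rw [Cfsg.Agent.Lib.Helper54.mem_pPrimePCore_equiv_iff p (normalizerCjEquiv y H)]
      exact hn
    · simp only [Subgroup.coe_subtype] at hnx ⊢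
      rw [coe_normalizerCjEquiv, hnx]
      group

theorem map_subgroupOf_normalizerCjEquiv (y : G) (H : Subgroup G) :
    (H.subgroupOf (Subgroup.normalizer (H : Set G))).map (normalizerCjEquiv y H : _ →* _) =
      (cj y H).subgroupOf (Subgroup.normalizer ((cj y H : Subgroup G) : Set G)) := by
  ext n'
  rw [Subgroup.mem_map, Subgroup.mem_subgroupOf]
  constructor
  · rintro ⟨n, hn, rfl⟩
    rw [Subgroup.mem_subgroupOf] at hn
    show ((normalizerCjEquiv y H n : ↥(Subgroup.normalizer ((cj y H : Subgroup G) : Set G))) : G) ∈ cj y H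
    rw [coe_normalizerCjEquiv]
    exact conj_mem_cj hn
  · intro hn'
    refine ⟨(normalizerCjEquiv y H).symm n', ?_, ?_⟩
    · rw [Subgroup.mem_subgroupOf, coe_normalizerCjEquiv_symm]
      exact mem_cj.mp hn'
    · exact MulEquiv.apply_symm_apply _ _

theorem goodH_cj {P H : Subgroup G} (h : GoodH p P H) (y : G) : GoodH p (cj y P) (cj y H) := by
  refine ⟨cj_mono h.le, ?_, ?_, ?_, ?_⟩
  · rw [← cj_normalizer, ← cj_inf, relIndex_cj]
    exact h.fn
  · rw [← cj_centralizer, ← cj_inf]
    exact cj_mono h.cent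
  · rw [pPrimePCore_normalizer_cj, h.core, cj_sup, cj_centralizer]
  · intro hcc
    apply h.ncc
    have e := QuotientGroup.congr (H.subgroupOf (Subgroup.normalizer (H : Set G)))
      ((cj y H).subgroupOf (Subgroup.normalizer ((cj y H : Subgroup G) : Set G)))
      (normalizerCjEquiv y H) (map_subgroupOf_normalizerCjEquiv y H)
    exact isSylowChainConnected_of_mulEquiv e.symm hcc

omit [Finite G] [Fact p.Prime] in
theorem normal_subgroupOf_cj {N X : Subgroup G} (hXN : X ≤ N) (h : (X.subgroupOf N).Normal) (y : G) :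
    ((cj y X).subgroupOf (cj y N)).Normal := by
  rw [Subgroup.normal_subgroupOf_iff (cj_mono hXN)]
  rw [Subgroup.normal_subgroupOf_iff hXN] at h
  intro a k ha hk
  rw [mem_cj] at ha hk ⊢
  have := h _ _ ha hk
  have e : y⁻¹ * (k * a * k⁻¹) * y = (y⁻¹ * k * y) * (y⁻¹ * a * y) * (y⁻¹ * k * y)⁻¹ := by group
  rw [e]
  exact this

omit [Finite G] [Fact p.Prime] in
theorem isMinX_cj {H X : Subgroup G} (h : IsMinX p H X) (y : G) : IsMinX p (cj y H) (cj y X) := by
  obtain ⟨h1, h2, h3, h4, h5⟩ := h
  refine ⟨cj_mono h1, ?_, ?_, ?_, ?_⟩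
  · rw [← cj_normalizer]; exact cj_mono h2
  · rw [← cj_normalizer]; exact normal_subgroupOf_cj h2 h3 y
  · rw [relIndex_cj]; exact h4
  · intro Y' hY1 hY2 hY3 hY4
    rw [cj_le_iff]
    apply h5
    · rw [← cj_le_iff]; exact hY1
    · have := cj_mono (g := y⁻¹) hY2
      rwa [← cj_normalizer, cj_inv_cj] at this
    · have := normal_subgroupOf_cj hY2 hY3 y⁻¹
      rwa [← cj_normalizer, cj_inv_cj] at this
    · have := relIndex_cj y⁻¹ (cj y H) Y'
      rw [cj_inv_cj] at this
      rw [this]; exact hY4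

omit [Finite G] [Fact p.Prime] in
theorem mem_pResidual_cj {X : Subgroup G} {x : G} (hx : x ∈ (pResidual p ↥X).map X.subtype) (y : G) :
    y * x * y⁻¹ ∈ (pResidual p ↥(cj y X)).map (cj y X).subtype := by
  obtain ⟨o, ho, rfl⟩ := hx
  refine ⟨cjEquiv y X o, ?_, rfl⟩
  exact pResidual_map_le' p (cjEquiv y X).toMonoidHom ⟨o, ho, rfl⟩

theorem goodStep_cj {P H X : Subgroup G} {x : G} (h : GoodStep p P H X x) (y : G) :
    GoodStep p (cj y P) (cj y H) (cj y X) (y * x * y⁻¹) :=
  ⟨goodH_cj h.1 y, isMinX_cj h.2.1 y, mem_pResidual_cj h.2.2 y⟩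

theorem goodStep_cj_of_mem_normalizer {P H X : Subgroup G} {x : G} (h : GoodStep p P H X x) {y : G}
    (hy : y ∈ Subgroup.normalizer (P : Set G)) :
    GoodStep p P (cj y H) (cj y X) (y * x * y⁻¹) := by
  have := goodStep_cj h y
  rwa [cj_eq_self_of_mem_normalizer hy] at this

end Transport

end Cfsg.Agent.Lib.Helper48
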