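import Mathlib
import Cfsg.Agent.Lib.Helper48.AGTransport

/-!
# Chains of Goldschmidt steps (helper48 library)

`MChain p P A g`: `g` is a product of elements of three kinds — elements centralizing the current
conjugate of `A`, elements of `N_G(P)`, and Goldschmidt steps `x ∈ O^p(X)` through a subgroup `H`
containing the current conjugate of `A`.  `NChain`: only Goldschmidt steps.  Every `MChain` can be
brought to the normal form `c * (NChain) * y`.
-/

set_option autoImplicit false

namespace Cfsg.Agent.Lib.Helper48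

open Cfsg Cfsg.Agent.Lib.Helper33

variable {G : Type*} [Group G] {p : ℕ}

theorem rc_eq_self_of_mem_centralizer {c : G} {A : Set G} (hc : c ∈ Subgroup.centralizer A) :
    rc c A = A := by
  ext x
  rw [mem_rc]
  have hc' := Subgroup.mem_centralizer_iff.mp hc
  constructor
  · intro h
    have h1 := hc' _ h
    have h2 : x = c⁻¹ * (c * x * c⁻¹ * c) := by group
    rw [h2, h1]
    simpa [mul_assoc] using h
  · intro h
    have h1 := hc' _ h
    have : c * x * c⁻¹ = x := by rw [← h1, mul_assoc, mul_inv_cancel, mul_one]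
    rw [this]; exact h

theorem conj_mem_centralizer_of_rc {y c : G} {A : Set G} (hc : c ∈ Subgroup.centralizer (rc y A)) :
    y * c * y⁻¹ ∈ Subgroup.centralizer A := by
  rw [Subgroup.mem_centralizer_iff] at hc ⊢
  intro a ha
  have h1 : y⁻¹ * a * y ∈ rc y A := ⟨a, ha, rfl⟩
  have h2 := hc _ h1
  calc a * (y * c * y⁻¹) = y * ((y⁻¹ * a * y) * c) * y⁻¹ := by group
    _ = y * (c * (y⁻¹ * a * y)) * y⁻¹ := by rw [h2]
    _ = y * c * y⁻¹ * a := by group

theorem mem_of_mem_pResidual_map {X : Subgroup G} {x : G}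
    (hx : x ∈ (Cfsg.pResidual p ↥X).map X.subtype) : x ∈ X := by
  obtain ⟨o, _, rfl⟩ := hx
  exact o.2

/-- mixed chains -/
inductive MChain (p : ℕ) (P : Subgroup G) : Set G → G → Prop
  | nil (A : Set G) : MChain p P A 1
  | cent (A : Set G) (c g : G) : c ∈ Subgroup.centralizer A → MChain p P A g → MChain p P A (c * g)
  | norm (A : Set G) (y g : G) : y ∈ Subgroup.normalizer (P : Set G) → MChain p P (rc y A) g →
      MChain p P A (y * g)
  | step (A : Set G) (H X : Subgroup G) (x g : G) : GoodStep p P H X x → A ⊆ H →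
      MChain p P (rc x A) g → MChain p P A (x * g)

namespace MChain

variable {P : Subgroup G}

theorem mono {A : Set G} {g : G} (h : MChain p P A g) : ∀ {A' : Set G}, A' ⊆ A → MChain p P A' g := by
  induction h with
  | nil A => intro A' _; exact MChain.nil A'
  | cent A c g hc _ ih =>
    intro A' hA'
    exact MChain.cent A' c g (Subgroup.centralizer_le hA' hc) (ih hA')
  | norm A y g hy _ ih =>
    intro A' hA'
    exact MChain.norm A' y g hy (ih (rc_mono hA'))
  | step A H X x g hs hA _ ih =>
    intro A' hA'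
    exact MChain.step A' H X x g hs (hA'.trans hA) (ih (rc_mono hA'))

theorem single_cent {A : Set G} {c : G} (hc : c ∈ Subgroup.centralizer A) : MChain p P A c := by
  have : MChain p P A (c * 1) := MChain.cent A c 1 hc (MChain.nil A)
  simpa using this

theorem single_norm {A : Set G} {y : G} (hy : y ∈ Subgroup.normalizer (P : Set G)) : MChain p P A y := by
  have : MChain p P A (y * 1) := MChain.norm A y 1 hy (MChain.nil _)
  simpa using this

theorem single_step {A : Set G} {H X : Subgroup G} {x : G} (hs : GoodStep p P H X x) (hA : A ⊆ H) :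
    MChain p P A x := by
  have : MChain p P A (x * 1) := MChain.step A H X x 1 hs hA (MChain.nil _)
  simpa using this

theorem comp {A : Set G} {g : G} (h : MChain p P A g) :
    ∀ {k : G}, MChain p P (rc g A) k → MChain p P A (g * k) := by
  induction h with
  | nil A => intro k hk; rw [rc_one] at hk; simpa using hk
  | cent A c g hc _ ih =>
    intro k hk
    rw [rc_mul, rc_eq_self_of_mem_centralizer hc] at hk
    rw [mul_assoc]
    exact MChain.cent A c (g * k) hc (ih hk)
  | norm A y g hy _ ih =>
    intro k hk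
    rw [rc_mul] at hk
    rw [mul_assoc]
    exact MChain.norm A y (g * k) hy (ih hk)
  | step A H X x g hs hA _ ih =>
    intro k hk
    rw [rc_mul] at hk
    rw [mul_assoc]
    exact MChain.step A H X x (g * k) hs hA (ih hk)

theorem inv {A : Set G} {g : G} (h : MChain p P A g) : MChain p P (rc g A) g⁻¹ := by
  induction h with
  | nil A => rw [rc_one]; simpa using MChain.nil A
  | cent A c g hc _ ih =>
    rw [rc_mul, rc_eq_self_of_mem_centralizer hc, mul_inv_rev]
    apply ih.comp
    rw [rc_inv_rc]
    exact single_cent (inv_mem hc)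
  | norm A y g hy _ ih =>
    rw [rc_mul, mul_inv_rev]
    apply ih.comp
    rw [rc_inv_rc]
    exact single_norm (inv_mem hy)
  | step A H X x g hs hA _ ih =>
    rw [rc_mul, mul_inv_rev]
    apply ih.comp
    rw [rc_inv_rc]
    have hxX : x ∈ X := mem_of_mem_pResidual_map hs.2.2
    have hxN : x ∈ Subgroup.normalizer (H : Set G) := hs.2.1.2.1 hxX
    exact single_step ⟨hs.1, hs.2.1, inv_mem hs.2.2⟩ (rc_subset_of_mem_normalizer hxN hA)

end MChain

/-- chains of Goldschmidt steps only -/
inductive NChain (p : ℕ) (P : Subgroup G) : Set G → G → Prop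
  | nil (A : Set G) : NChain p P A 1
  | cons (A : Set G) (H X : Subgroup G) (x g : G) : GoodStep p P H X x → A ⊆ H →
      NChain p P (rc x A) g → NChain p P A (x * g)

theorem NChain.cjy [Finite G] [Fact p.Prime] {P : Subgroup G} {B : Set G} {g : G} (h : NChain p P B g) {y : G}
    (hy : y ∈ Subgroup.normalizer (P : Set G)) : NChain p P (rc y⁻¹ B) (y * g * y⁻¹) := by
  induction h with
  | nil B => simpa using NChain.nil (p := p) (P := P) (rc y⁻¹ B)
  | cons B H X x g hs hB _ ih =>
    have e : y * (x * g) * y⁻¹ = (y * x * y⁻¹) * (y * g * y⁻¹) := by group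
    rw [e]
    refine NChain.cons _ (cj y H) (cj y X) _ _ (goodStep_cj_of_mem_normalizer hs hy) ?_ ?_
    · have := rc_mono (g := y⁻¹) hB
      rwa [rc_coe_subgroup, inv_inv] at this
    · have e2 : rc (y * x * y⁻¹) (rc y⁻¹ B) = rc y⁻¹ (rc x B) := by
        rw [← rc_mul, ← rc_mul]
        congr 1
        group
      rw [e2]
      exact ih

theorem MChain.normalForm [Finite G] [Fact p.Prime] {P : Subgroup G} {A : Set G} {g : G}
    (h : MChain p P A g) :
    ∃ c ∈ Subgroup.centralizer A, ∃ y ∈ Subgroup.normalizer (P : Set G), ∃ g₀ : G,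
      g = c * g₀ * y ∧ NChain p P A g₀ := by
  induction h with
  | nil A => exact ⟨1, one_mem _, 1, one_mem _, 1, by simp, NChain.nil A⟩
  | cent A c₀ g hc₀ _ ih =>
    obtain ⟨c, hc, y, hy, g₀, rfl, hg₀⟩ := ih
    exact ⟨c₀ * c, mul_mem hc₀ hc, y, hy, g₀, by group, hg₀⟩
  | norm A y₀ g hy₀ _ ih =>
    obtain ⟨c, hc, y, hy, g₀, rfl, hg₀⟩ := ih
    refine ⟨y₀ * c * y₀⁻¹, conj_mem_centralizer_of_rc hc, y₀ * y, mul_mem hy₀ hy,
      y₀ * g₀ * y₀⁻¹, by group, ?_⟩
    have := hg₀.cjy hy₀
    rwa [rc_inv_rc] at this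
  | step A H X x₀ g hs hA _ ih =>
    obtain ⟨c, hc, y, hy, g₀, rfl, hg₀⟩ := ih
    exact ⟨x₀ * c * x₀⁻¹, conj_mem_centralizer_of_rc hc, y, hy, x₀ * g₀, by group,
      NChain.cons A H X x₀ g₀ hs hA hg₀⟩

/-- An `NChain` yields the data required by S3072. -/
theorem NChain.exists_data {P : Subgroup G} {A : Set G} {g : G} (h : NChain p P A g) :
    ∃ (n : ℕ) (H X : Fin n → Subgroup G) (x : Fin n → G), (List.ofFn x).prod = g ∧
      (∀ i, GoodStep p P (H i) (X i) (x i)) ∧
      ∀ i : Fin n,
        (fun a => (((List.ofFn x).take i.val).prod)⁻¹ * a * ((List.ofFn x).take i.val).prod) '' A ⊆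
          (H i : Set G) := by
  induction h with
  | nil A =>
    exact ⟨0, Fin.elim0, Fin.elim0, Fin.elim0, by simp, fun i => i.elim0, fun i => i.elim0⟩
  | cons A H X x g hs hA _ ih =>
    obtain ⟨n, H', X', x', hprod, hs', hi⟩ := ih
    refine ⟨n + 1, Fin.cons H H', Fin.cons X X', Fin.cons x x', ?_, ?_, ?_⟩
    · simp [List.ofFn_succ, hprod]
    · intro i
      refine Fin.cases ?_ (fun j => ?_) i
      · simpa using hs
      · simpa using hs' j
    · intro i
      have hlist : List.ofFn (Fin.cons x x' : Fin (n + 1) → G) = x :: List.ofFn x' := by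
        simp [List.ofFn_succ]
      refine Fin.cases ?_ (fun j => ?_) i
      · simp only [Fin.val_zero, List.take_zero, List.prod_nil, Fin.cons_zero]
        change rc 1 A ⊆ (H : Set G)
        rw [rc_one]
        exact hA
      · rw [hlist, Fin.val_succ, List.take_succ_cons, List.prod_cons, Fin.cons_succ]
        change rc (x * ((List.ofFn x').take j.val).prod) A ⊆ (H' j : Set G)
        rw [rc_mul]
        exact hi j

end Cfsg.Agent.Lib.Helper48
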