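import Mathlib
import Cfsg.Prelude.Def_SylowChains
import Cfsg.Agent.S0058
import Cfsg.Agent.S3076
import Cfsg.Agent.Lib.Helper33.SylIn
import Cfsg.Agent.Lib.Helper54.PCores

/-!
# Chain-connectedness of the Sylow `p`-subgroups (helper48 library)

`sylConn S T`: reflexive-transitive closure of "meet nontrivially" on `Sylow p Q`.
Main result `isSylowChainConnected_of_normal_inf_coprime`: if two normal subgroups of order divisible by
`p` meet in a `p'`-group then the Sylow `p`-subgroups are chain-connected.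
-/

set_option autoImplicit false

namespace Cfsg.Agent.Lib.Helper48

open Cfsg Cfsg.Agent.Lib.Helper33
open scoped Pointwise

section CC

variable {Q : Type*} [Group Q] {p : ℕ}

/-- two Sylow subgroups meet nontrivially -/
def sylAdj (T T' : Sylow p Q) : Prop := (T : Subgroup Q) ⊓ (T' : Subgroup Q) ≠ ⊥

/-- connectedness through Sylow subgroups meeting nontrivially -/
def sylConn (T T' : Sylow p Q) : Prop := Relation.ReflTransGen (sylAdj (p := p) (Q := Q)) T T'

theorem coe_smul_eq_cj (q : Q) (T : Sylow p Q) : ((q • T : Sylow p Q) : Subgroup Q) = cj q (T : Subgroup Q) := rfl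

theorem sylAdj_symm {T T' : Sylow p Q} (h : sylAdj T T') : sylAdj T' T := by
  unfold sylAdj at h ⊢; rwa [inf_comm]

theorem sylConn_refl (T : Sylow p Q) : sylConn T T := Relation.ReflTransGen.refl

theorem sylConn_trans {T T' T'' : Sylow p Q} (h : sylConn T T') (h' : sylConn T' T'') : sylConn T T'' :=
  Relation.ReflTransGen.trans h h'

theorem sylConn_symm {T T' : Sylow p Q} (h : sylConn T T') : sylConn T' T := by
  induction h with
  | refl => exact sylConn_refl _
  | tail _ hbc ih => exact Relation.ReflTransGen.head (sylAdj_symm hbc) ih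

theorem sylAdj_smul (q : Q) {T T' : Sylow p Q} (h : sylAdj T T') : sylAdj (q • T) (q • T') := by
  unfold sylAdj at h ⊢
  rw [coe_smul_eq_cj, coe_smul_eq_cj, ← cj_inf]
  intro h0
  exact h (cj_eq_bot_iff.mp h0)

theorem sylConn_smul (q : Q) {T T' : Sylow p Q} (h : sylConn T T') : sylConn (q • T) (q • T') := by
  induction h with
  | refl => exact sylConn_refl _
  | tail _ hbc ih => exact Relation.ReflTransGen.tail ih (sylAdj_smul q hbc)

theorem chain_of_sylConn_aux {S T : Sylow p Q} (h : sylConn S T) :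
    ∃ (n : ℕ) (c : Fin (n + 1) → Sylow p Q), c 0 = S ∧ c (Fin.last n) = T ∧
      ∀ i : Fin n, c i.castSucc ≠ c i.succ ∧ (c i.castSucc : Subgroup Q) ⊓ (c i.succ : Subgroup Q) ≠ ⊥ := by
  induction h using Relation.ReflTransGen.head_induction_on with
  | refl => exact ⟨0, fun _ => T, rfl, rfl, fun i => i.elim0⟩
  | @head a c' h' _ ih =>
    obtain ⟨n, c, h0, hl, hc⟩ := ih
    by_cases hac : a = c'
    · subst hac; exact ⟨n, c, h0, hl, hc⟩
    · refine ⟨n + 1, Fin.cons a c, ?_, ?_, ?_⟩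
      · simp
      · rw [← Fin.succ_last, Fin.cons_succ, hl]
      · intro i
        refine Fin.cases ?_ (fun j => ?_) i
        · rw [Fin.castSucc_zero, Fin.cons_zero, Fin.cons_succ, h0]
          exact ⟨hac, h'⟩
        · rw [← Fin.succ_castSucc, Fin.cons_succ, Fin.cons_succ]
          exact hc j

theorem isSylowChainConnected_of_sylConn (h : ∀ S T : Sylow p Q, sylConn S T) :
    IsSylowChainConnected p Q := by
  intro S T
  by_cases hST : (S : Subgroup Q) ⊓ (T : Subgroup Q) = ⊥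
  · obtain ⟨n, c, h0, hl, hc⟩ := chain_of_sylConn_aux (h S T)
    exact ⟨n, c, h0, hl, fun i => by rw [hST]; exact bot_le, hc⟩
  · by_cases heq : S = T
    · subst heq
      exact ⟨0, fun _ => S, rfl, rfl, fun _ => inf_le_left, fun i => i.elim0⟩
    · refine ⟨1, ![S, T], rfl, rfl, ?_, ?_⟩
      · intro i
        fin_cases i
        · exact inf_le_left
        · exact inf_le_right
      · intro i
        fin_cases i
        exact ⟨heq, hST⟩

/-- the elements `q` such that `q • S` is connected to `S` -/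
def connSubgroup (S : Sylow p Q) : Subgroup Q where
  carrier := {q | sylConn S (q • S)}
  one_mem' := by
    show sylConn S ((1 : Q) • S)
    rw [one_smul]; exact sylConn_refl S
  mul_mem' := by
    intro a b ha hb
    show sylConn S ((a * b) • S)
    rw [mul_smul]
    exact sylConn_trans ha (sylConn_smul a hb)
  inv_mem' := by
    intro a ha
    show sylConn S (a⁻¹ • S)
    have := sylConn_smul a⁻¹ ha
    rw [inv_smul_smul] at this
    exact sylConn_symm this

theorem mem_connSubgroup {S : Sylow p Q} {q : Q} : q ∈ connSubgroup S ↔ sylConn S (q • S) := Iff.rfl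

theorem normalizer_le_connSubgroup (S : Sylow p Q) {R : Subgroup Q} (hR : R ≤ (S : Subgroup Q))
    (hR1 : R ≠ ⊥) : Subgroup.normalizer (R : Set Q) ≤ connSubgroup S := by
  intro q hq
  rw [mem_connSubgroup]
  apply Relation.ReflTransGen.single
  unfold sylAdj
  rw [coe_smul_eq_cj]
  intro h0
  apply hR1
  have h1 : R ≤ (S : Subgroup Q) ⊓ cj q (S : Subgroup Q) := by
    refine le_inf hR ?_
    have h2 : cj q R = R := cj_eq_self_of_mem_normalizer hq
    rw [← h2]
    exact cj_mono hR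
  rw [h0] at h1
  exact le_bot_iff.mp h1

end CC

section Main

variable {Q : Type*} [Group Q] [Finite Q] {p : ℕ} [Fact p.Prime]

theorem sylIn_inf_normal {S K : Subgroup Q} [K.Normal] (hS : IsPGroup p S) (hSi : ¬ p ∣ S.index) :
    SylIn p (S ⊓ K) K :=
  ⟨inf_le_right, hS.to_le inf_le_left, by
    rw [Subgroup.inf_relIndex_right]; exact Cfsg.Agent.S3076.not_dvd_relIndex_of_normal S K hSi⟩

/-- Frattini argument, internal form. -/
theorem frattini_sylIn {K T : Subgroup Q} [K.Normal] (hT : SylIn p T K) (x : Q) :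
    ∃ k ∈ K, ∃ m ∈ Subgroup.normalizer (T : Set Q), x = k * m := by
  have hK : cj x K = K :=
    cj_eq_self_of_mem_normalizer (by rw [Subgroup.normalizer_eq_top]; trivial)
  have h1 : SylIn p (cj x T) K := by
    have := hT.cj x
    rwa [hK] at this
  obtain ⟨k, hk, hkT⟩ := hT.exists_cj_eq h1
  refine ⟨k⁻¹, K.inv_mem hk, k * x, ?_, by group⟩
  rw [mem_normalizer_iff_cj_eq, cj_mul]
  exact hkT

theorem inf_ne_bot_of_dvd_card {S K : Subgroup Q} [K.Normal] (hS : IsPGroup p S) (hSi : ¬ p ∣ S.index)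
    (hK : p ∣ Nat.card K) : S ⊓ K ≠ ⊥ := by
  intro h0
  have := (sylIn_inf_normal (K := K) hS hSi).not_dvd
  rw [h0, Subgroup.relIndex_bot_left] at this
  exact this hK

theorem exists_orderOf_eq_of_ne_bot_scc {Z : Subgroup Q} (hZ : IsPGroup p Z) (h : Z ≠ ⊥) :
    ∃ z ∈ Z, orderOf z = p := by
  have hcard : p ∣ Nat.card Z := by
    rcases hZ.card_eq_or_dvd with h1 | h1
    · exact absurd (Subgroup.card_eq_one.mp h1) h
    · exact h1
  obtain ⟨z, hz⟩ := exists_prime_orderOf_dvd_card' p hcard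
  exact ⟨z, z.2, by rw [← hz]; exact (Subgroup.orderOf_coe z)⟩

theorem sylIn_of_card_eq {T T' M : Subgroup Q} (hT : SylIn p T M) (hT' : T' ≤ M)
    (hp' : IsPGroup p T') (hcard : Nat.card T' = Nat.card T) : SylIn p T' M := by
  refine ⟨hT', hp', ?_⟩
  have h1 := Subgroup.relIndex_mul_relIndex ⊥ T M bot_le hT.le
  have h2 := Subgroup.relIndex_mul_relIndex ⊥ T' M bot_le hT'
  rw [Subgroup.relIndex_bot_left, Subgroup.relIndex_bot_left] at h1 h2
  rw [hcard] at h2
  have hpos : 0 < Nat.card T := Nat.card_pos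
  have : T'.relIndex M = T.relIndex M := by
    have h3 : Nat.card T * T'.relIndex M = Nat.card T * T.relIndex M := by rw [h1, h2]
    exact Nat.eq_of_mul_eq_mul_left hpos h3
  rw [this]
  exact hT.not_dvd

/-- Two normal subgroups of order divisible by `p` meeting in a `p'`-group force all Sylow `p`-subgroups to
be connected. -/
theorem sylConn_of_normal_inf_coprime (Y₁ Y₂ : Subgroup Q) [hY₁ : Y₁.Normal] [hY₂ : Y₂.Normal]
    (h1 : p ∣ Nat.card Y₁) (h2 : p ∣ Nat.card Y₂)
    (h12 : ¬ p ∣ Nat.card (Y₁ ⊓ Y₂ : Subgroup Q)) (S T : Sylow p Q) : sylConn S T := by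
  have hpp : p.Prime := Fact.out
  set D : Subgroup Q := Y₁ ⊓ Y₂ with hD
  have hDn : D.Normal := inferInstance
  have hDc : (Nat.card D).Coprime p := (Nat.Coprime.symm ((Nat.Prime.coprime_iff_not_dvd hpp).mpr h12))
  have hSp : IsPGroup p (S : Subgroup Q) := S.isPGroup'
  have hSi : ¬ p ∣ (S : Subgroup Q).index := S.not_dvd_index
  set Z₁ : Subgroup Q := (S : Subgroup Q) ⊓ Y₁ with hZ₁
  set Z₂ : Subgroup Q := (S : Subgroup Q) ⊓ Y₂ with hZ₂
  have hZ₁ne : Z₁ ≠ ⊥ := inf_ne_bot_of_dvd_card hSp hSi h1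
  have hZ₂ne : Z₂ ≠ ⊥ := inf_ne_bot_of_dvd_card hSp hSi h2
  have hZ₁p : IsPGroup p Z₁ := hSp.to_le inf_le_left
  have hZ₂p : IsPGroup p Z₂ := hSp.to_le inf_le_left
  obtain ⟨z₁, hz₁Z, hz₁o⟩ := exists_orderOf_eq_of_ne_bot_scc hZ₁p hZ₁ne
  obtain ⟨z₂, hz₂Z, hz₂o⟩ := exists_orderOf_eq_of_ne_bot_scc hZ₂p hZ₂ne
  have hz₁S : z₁ ∈ (S : Subgroup Q) := hz₁Z.1
  have hz₂S : z₂ ∈ (S : Subgroup Q) := hz₂Z.1
  have hz₁Y : z₁ ∈ Y₁ := hz₁Z.2
  have hz₂Y : z₂ ∈ Y₂ := hz₂Z.2
  -- elements of `S ⊓ D` are trivial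
  have htriv : ∀ x, x ∈ (S : Subgroup Q) → x ∈ D → x = 1 := fun x hxS hxD =>
    Cfsg.Agent.Lib.Helper54.eq_one_of_mem_pGroup_of_mem_coprime hSp hDc hxS hxD
  -- `z₁` and `z₂` commute
  have hcomm : z₁ * z₂ = z₂ * z₁ := by
    have hc : z₁ * z₂ * z₁⁻¹ * z₂⁻¹ = 1 := by
      apply htriv
      · exact Subgroup.mul_mem _ (Subgroup.mul_mem _ (Subgroup.mul_mem _ hz₁S hz₂S)
          (Subgroup.inv_mem _ hz₁S)) (Subgroup.inv_mem _ hz₂S)
      · refine Subgroup.mem_inf.mpr ⟨?_, ?_⟩
        · have : z₁ * z₂ * z₁⁻¹ * z₂⁻¹ = z₁ * (z₂ * z₁⁻¹ * z₂⁻¹) := by group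
          rw [this]
          exact Subgroup.mul_mem _ hz₁Y (hY₁.conj_mem _ (Subgroup.inv_mem _ hz₁Y) _)
        · exact Subgroup.mul_mem _ (hY₂.conj_mem _ hz₂Y _) (Subgroup.inv_mem _ hz₂Y)
    calc z₁ * z₂ = (z₁ * z₂ * z₁⁻¹ * z₂⁻¹) * (z₂ * z₁) := by group
      _ = z₂ * z₁ := by rw [hc, one_mul]
  -- the subgroup `E`
  set E : Subgroup Q := Subgroup.closure {z₁, z₂} with hE
  have hEcomm : IsMulCommutative E := Subgroup.isMulCommutative_closure (by
    intro x hx y hy
    simp only [Set.mem_insert_iff, Set.mem_singleton_iff] at hx hy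
    rcases hx with rfl | rfl <;> rcases hy with rfl | rfl
    · rfl
    · exact hcomm
    · exact hcomm.symm
    · rfl)
  have hES : E ≤ (S : Subgroup Q) := by
    rw [hE, Subgroup.closure_le]
    intro x hx
    simp only [Set.mem_insert_iff, Set.mem_singleton_iff] at hx
    rcases hx with rfl | rfl
    · exact hz₁S
    · exact hz₂S
  have hz₁E : z₁ ∈ E := Subgroup.subset_closure (by simp)
  have hz₂E : z₂ ∈ E := Subgroup.subset_closure (by simp)
  have hEmul : ∀ a ∈ E, ∀ b ∈ E, a * b = b * a := by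
    intro a ha b hb
    have := hEcomm.is_comm.comm (⟨a, ha⟩ : E) ⟨b, hb⟩
    exact congrArg Subtype.val this
  have hEexp : ∀ x ∈ E, x ^ p = 1 := by
    intro x hx
    rw [hE] at hx
    induction hx using Subgroup.closure_induction with
    | mem y hy =>
      simp only [Set.mem_insert_iff, Set.mem_singleton_iff] at hy
      rcases hy with rfl | rfl
      · rw [← hz₁o]; exact pow_orderOf_eq_one _
      · rw [← hz₂o]; exact pow_orderOf_eq_one _
    | one => exact one_pow _
    | mul a b ha hb iha ihb =>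
      have hab : Commute a b := hEmul a (by rw [hE]; exact ha) b (by rw [hE]; exact hb)
      rw [hab.mul_pow, iha, ihb, one_mul]
    | inv a _ iha => rw [inv_pow, iha, inv_one]
  have hz₂notin : z₂ ∉ Subgroup.zpowers z₁ := by
    intro hmem
    have hz₂Y₁ : z₂ ∈ Y₁ := (Subgroup.zpowers_le.mpr hz₁Y) hmem
    have : z₂ = 1 := htriv z₂ hz₂S ⟨hz₂Y₁, hz₂Y⟩
    rw [this, orderOf_one] at hz₂o
    exact hpp.one_lt.ne hz₂o
  have hEnc : ¬ IsCyclic E := by
    intro hcyc
    obtain ⟨g, hg⟩ := hcyc.exists_generator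
    have h1 : orderOf g = Nat.card E := orderOf_eq_card_of_forall_mem_zpowers hg
    have h2 : g ^ p = 1 := by
      apply Subtype.ext
      simpa using hEexp g.1 g.2
    have h3 : orderOf g ∣ p := orderOf_dvd_of_pow_eq_one h2
    have h4 := Nat.le_of_dvd hpp.pos h3
    have h5 : Nat.card (Subgroup.zpowers z₁) < Nat.card E := by
      apply card_lt_card_of_lt
      refine lt_of_le_of_ne (Subgroup.zpowers_le.mpr hz₁E) ?_
      intro heq
      apply hz₂notin
      rw [heq]; exact hz₂E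
    rw [Nat.card_zpowers, hz₁o] at h5
    omega
  -- the connected subgroup
  set 𝒦 := connSubgroup S with h𝒦
  -- centralizers of nonidentity elements of `E`
  have hcent : ∀ a ∈ E, a ≠ 1 → Subgroup.centralizer ({a} : Set Q) ≤ 𝒦 := by
    intro a ha ha1
    refine le_trans ?_ (normalizer_le_connSubgroup S (R := Subgroup.zpowers a)
      (Subgroup.zpowers_le.mpr (hES ha)) (by
        intro h0
        exact ha1 (Subgroup.zpowers_eq_bot.mp h0)))
    intro c hc
    rw [Subgroup.mem_normalizer_iff]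
    intro x
    have hca : c * a = a * c := (Subgroup.mem_centralizer_singleton_iff.mp hc)
    have hcx : ∀ x ∈ Subgroup.zpowers a, c * x * c⁻¹ = x := by
      intro x hx
      obtain ⟨k, rfl⟩ := Subgroup.mem_zpowers_iff.mp hx
      have : Commute c (a ^ k) := (show Commute c a from hca).zpow_right k
      rw [this.eq, mul_assoc, mul_inv_cancel, mul_one]
    constructor
    · intro hx
      rw [hcx x hx]; exact hx
    · intro hx
      have h3 : c⁻¹ * (c * x * c⁻¹) * c⁻¹⁻¹ ∈ Subgroup.zpowers a := by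
        have hc' : c⁻¹ ∈ Subgroup.centralizer ({a} : Set Q) := inv_mem hc
        have hca' : c⁻¹ * a = a * c⁻¹ := (Subgroup.mem_centralizer_singleton_iff.mp hc')
        obtain ⟨k, hk⟩ := Subgroup.mem_zpowers_iff.mp hx
        have : Commute c⁻¹ (a ^ k) := (show Commute c⁻¹ a from hca').zpow_right k
        rw [← hk, this.eq, mul_assoc, mul_inv_cancel, mul_one]
        exact Subgroup.zpow_mem_zpowers a k
      have h4 : c⁻¹ * (c * x * c⁻¹) * c⁻¹⁻¹ = x := by group
      rwa [h4] at h3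
  -- `D ≤ 𝒦` by coprime generation
  have hD𝒦 : D ≤ 𝒦 := by
    have hEn : E ≤ Subgroup.normalizer (D : Set Q) := by
      rw [Subgroup.normalizer_eq_top]; exact le_top
    have hEp : IsPGroup p E := hSp.to_le hES
    obtain ⟨k, hk⟩ := IsPGroup.iff_card.mp hEp
    have hcop : (Nat.card E).Coprime (Nat.card D) := by
      rw [hk]
      exact Nat.Coprime.pow_left k hDc.symm
    have hgen := Cfsg.Agent.S0058.result E D hEnc hEn hcop
    rw [← hgen]
    apply iSup₂_le
    intro a ha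
    exact le_trans inf_le_right (hcent a ha.1 ha.2)
  -- normalizers of `Z₁`, `Z₂`
  have hNZ₁ : Subgroup.normalizer (Z₁ : Set Q) ≤ 𝒦 := normalizer_le_connSubgroup S inf_le_left hZ₁ne
  have hNZ₂ : Subgroup.normalizer (Z₂ : Set Q) ≤ 𝒦 := normalizer_le_connSubgroup S inf_le_left hZ₂ne
  -- `Y₁ ≤ 𝒦`
  have hY₁𝒦 : Y₁ ≤ 𝒦 := by
    intro y hy
    set M : Subgroup Q := Z₂ ⊔ D with hM
    have hZ₂M : SylIn p Z₂ M := by
      refine ⟨le_sup_left, hZ₂p, ?_⟩
      have hZD : D ⊓ Z₂ = ⊥ := by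
        rw [eq_bot_iff]
        intro x hx
        rw [Subgroup.mem_bot]
        exact htriv x (Subgroup.mem_inf.mp hx).2.1 (Subgroup.mem_inf.mp hx).1
      have hr : D.relIndex Z₂ = Nat.card Z₂ := by
        rw [← Subgroup.inf_relIndex_right, hZD, Subgroup.relIndex_bot_left]
      have e1 := Subgroup.relIndex_mul_relIndex ⊥ Z₂ M bot_le le_sup_left
      have e2 := Subgroup.relIndex_mul_relIndex ⊥ D M bot_le le_sup_right
      rw [Subgroup.relIndex_bot_left, Subgroup.relIndex_bot_left] at e1 e2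
      have e3 : D.relIndex M = Nat.card Z₂ := by
        rw [hM, Subgroup.relIndex_sup_right, hr]
      rw [e3] at e2
      have hpos : 0 < Nat.card Z₂ := Nat.card_pos
      have e4 : Z₂.relIndex M = Nat.card D := by
        have : Nat.card Z₂ * Z₂.relIndex M = Nat.card Z₂ * Nat.card D := by
          rw [e1, ← e2, mul_comm]
        exact Nat.eq_of_mul_eq_mul_left hpos this
      rw [e4]
      exact (Nat.Prime.coprime_iff_not_dvd hpp).mp hDc.symm
    have hcjM : cj y Z₂ ≤ M := by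
      intro x hx
      rw [mem_cj] at hx
      -- x = y z y⁻¹ with z = y⁻¹ x y ∈ Z₂
      set z := y⁻¹ * x * y with hz
      have hzY₂ : z ∈ Y₂ := hx.2
      have hxeq : x = z * (z⁻¹ * y * z * y⁻¹) := by rw [hz]; group
      rw [hxeq]
      apply Subgroup.mul_mem_sup hx
      refine Subgroup.mem_inf.mpr ⟨?_, ?_⟩
      · have : z⁻¹ * y * z * y⁻¹ = (z⁻¹ * y * z⁻¹⁻¹) * y⁻¹ := by group
        rw [this]
        exact Subgroup.mul_mem _ (hY₁.conj_mem _ hy _) (Subgroup.inv_mem _ hy)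
      · have : z⁻¹ * y * z * y⁻¹ = z⁻¹ * (y * z * y⁻¹) := by group
        rw [this]
        exact Subgroup.mul_mem _ (Subgroup.inv_mem _ hzY₂) (hY₂.conj_mem _ hzY₂ _)
    have hcjSyl : SylIn p (cj y Z₂) M :=
      sylIn_of_card_eq hZ₂M hcjM (isPGroup_cj hZ₂p) (card_cj y Z₂)
    obtain ⟨m, hm, hmeq⟩ := hZ₂M.exists_cj_eq hcjSyl
    -- m = z * d
    have hm' : m ∈ ((Z₂ ⊔ D : Subgroup Q) : Set Q) := hm
    rw [Subgroup.mul_normal] at hm'
    obtain ⟨z, hz, d, hd, rfl⟩ := hm'
    -- cj (z d y) Z₂ = Z₂ hence d y ∈ N(Z₂)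
    have h5 : d * y ∈ Subgroup.normalizer (Z₂ : Set Q) := by
      rw [mem_normalizer_iff_cj_eq]
      have h6 : cj z (cj (d * y) Z₂) = Z₂ := by
        rw [← cj_mul, ← mul_assoc, cj_mul]
        exact hmeq
      have h7 : cj z⁻¹ (cj z (cj (d * y) Z₂)) = cj z⁻¹ Z₂ := by rw [h6]
      rw [cj_inv_cj, cj_eq_self_of_mem (inv_mem hz)] at h7
      exact h7
    have h8 : y = d⁻¹ * (d * y) := by group
    rw [h8]
    exact mul_mem (inv_mem (hD𝒦 hd)) (hNZ₂ h5)
  -- Frattini
  have htop : ∀ q : Q, q ∈ 𝒦 := by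
    intro q
    obtain ⟨k, hk, m, hm, rfl⟩ := frattini_sylIn (sylIn_inf_normal (K := Y₁) hSp hSi) q
    exact mul_mem (hY₁𝒦 hk) (hNZ₁ hm)
  obtain ⟨q, hq⟩ := MulAction.exists_smul_eq Q S T
  rw [← hq]
  exact htop q

theorem isSylowChainConnected_of_normal_inf_coprime (Y₁ Y₂ : Subgroup Q) [Y₁.Normal] [Y₂.Normal]
    (h1 : p ∣ Nat.card Y₁) (h2 : p ∣ Nat.card Y₂)
    (h12 : ¬ p ∣ Nat.card (Y₁ ⊓ Y₂ : Subgroup Q)) : IsSylowChainConnected p Q :=
  isSylowChainConnected_of_sylConn (fun S T => sylConn_of_normal_inf_coprime Y₁ Y₂ h1 h2 h12 S T)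

end Main

end Cfsg.Agent.Lib.Helper48
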