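import Mathlib
import Cfsg.Prelude.Def_SylowChains
import Cfsg.Prelude.Def_Local
import Cfsg.Prelude.Def_Transfer
import Cfsg.Agent.Lib.Helper48.SylowChainConn
import Cfsg.Agent.Lib.Helper34.PResidual

/-!
# Local step of the strong Alperin–Goldschmidt theorem (helper48 library)

`X` plays the role of `N_G(H)`; `H ⊴ X` a `p`-subgroup, `S` a Sylow `p`-subgroup of `X` above `H`.
`𝒮` is a subgroup of `X` containing `C_X(H)`, the normalizers `N_X(R)` for `H < R ≤ S` and the elements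
`w` with `H < S ∩ wSw⁻¹`.  Then `𝒮 = X` unless `H` is a "Goldschmidt" subgroup, in which case `X` is
covered by `O^p(Y) · 𝒮` for the smallest normal subgroup `Y ≥ H` with `p ∣ |Y : H|`.
-/

set_option autoImplicit false

namespace Cfsg.Agent.Lib.Helper48

open Cfsg Cfsg.Agent.Lib.Helper33
open scoped Pointwise

section General

variable {G G' : Type*} [Group G] [Group G']

theorem cj_map (f : G →* G') (g : G) (P : Subgroup G) : cj (f g) (P.map f) = (cj g P).map f := by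
  ext x
  rw [mem_cj, Subgroup.mem_map, Subgroup.mem_map]
  constructor
  · rintro ⟨s, hs, hsx⟩
    refine ⟨g * s * g⁻¹, conj_mem_cj hs, ?_⟩
    rw [map_mul, map_mul, map_inv, hsx]
    group
  · rintro ⟨t, ht, rfl⟩
    refine ⟨g⁻¹ * t * g, mem_cj.mp ht, ?_⟩
    rw [map_mul, map_mul, map_inv]

theorem map_inf_map_of_ker_le (f : G →* G') {A B : Subgroup G} (hA : f.ker ≤ A) :
    A.map f ⊓ B.map f = (A ⊓ B).map f := by
  apply le_antisymm _ (Subgroup.map_inf_le A B f)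
  rintro y ⟨⟨a, ha, rfl⟩, ⟨b, hb, hab⟩⟩
  refine ⟨b, ⟨?_, hb⟩, hab⟩
  have h1 : a⁻¹ * b ∈ f.ker := by
    rw [MonoidHom.mem_ker, map_mul, map_inv, hab, inv_mul_cancel]
  have h2 : b = a * (a⁻¹ * b) := by group
  rw [SetLike.mem_coe, h2]
  exact A.mul_mem ha (hA h1)

theorem cj_eq_self_of_normal (g : G) (K : Subgroup G) [K.Normal] : cj g K = K :=
  cj_eq_self_of_mem_normalizer (by rw [Subgroup.normalizer_eq_top]; trivial)

end General

section Local

variable {X : Type*} [Group X]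

/-- hypotheses on the subgroup `𝒮` -/
structure LocalHyp (H S 𝒮 : Subgroup X) : Prop where
  cent : Subgroup.centralizer (H : Set X) ≤ 𝒮
  norm : ∀ R : Subgroup X, H < R → R ≤ S → Subgroup.normalizer (R : Set X) ≤ 𝒮
  meet : ∀ w : X, H < S ⊓ cj w S → w ∈ 𝒮

variable [Finite X] {p : ℕ} [Fact p.Prime]

theorem local_partA (H S 𝒮 : Subgroup X) [H.Normal] (hS : IsPGroup p S) (hSi : ¬ p ∣ S.index)
    (hHS : H ≤ S) (hyp : LocalHyp H S 𝒮)
    (hne : ¬ (S ⊓ Subgroup.centralizer (H : Set X) ≤ H ∧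
      pPrimePCore p X = H ⊔ Subgroup.centralizer (H : Set X))) : 𝒮 = ⊤ := by
  set C := Subgroup.centralizer (H : Set X) with hC
  have hCn : C.Normal := Subgroup.normal_centralizer
  have hH : IsPGroup p H := hS.to_le hHS
  have hCdef : ∀ x, x ∈ C ↔ ∀ h ∈ H, x * h = h * x := by
    intro x
    rw [hC, Subgroup.mem_centralizer_iff]
    constructor
    · intro hx h hh; exact (hx h hh).symm
    · intro hx h hh; exact (hx h hh).symm
  have hkey := Cfsg.Agent.S3076.key (p := p) H C S hH hS hSi hHS hCdef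
  set R := (pCore p (X ⧸ C)).comap (QuotientGroup.mk' C) with hR
  have hHR : H ≤ R := Cfsg.Agent.S3076.le_R H C hH
  have hdvd : p ∣ H.relIndex R := by
    by_contra hnd
    exact hne (hkey.mp ⟨hHR, hnd⟩)
  have hRn : R.Normal := Subgroup.Normal.comap inferInstance _
  have hT : SylIn p (S ⊓ R) R := sylIn_inf_normal hS hSi
  have hHT : H < S ⊓ R := by
    refine lt_of_le_of_ne (le_inf hHS hHR) ?_
    intro heq
    have := hT.not_dvd
    rw [← heq] at this
    exact this hdvd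
  have hCR : C ≤ R := Cfsg.Agent.S3076.C_le_R C
  have hRCT : R ≤ C ⊔ (S ⊓ R) := by
    rw [← Subgroup.relIndex_eq_one]
    obtain ⟨a, ha⟩ := Cfsg.Agent.S3076.relIndex_C_R (p := p) C
    have h1 : (C ⊔ (S ⊓ R)).relIndex R ∣ C.relIndex R :=
      Subgroup.relIndex_dvd_of_le_left R le_sup_left
    have h2 : (C ⊔ (S ⊓ R)).relIndex R ∣ (S ⊓ R).relIndex R :=
      Subgroup.relIndex_dvd_of_le_left R le_sup_right
    rw [ha] at h1
    have hcop : Nat.Coprime (p ^ a) ((S ⊓ R).relIndex R) :=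
      Nat.Coprime.pow_left a ((Nat.Prime.coprime_iff_not_dvd Fact.out).mpr hT.not_dvd)
    exact Nat.eq_one_of_dvd_coprimes hcop h1 h2
  rw [eq_top_iff]
  intro x _
  obtain ⟨k, hk, m, hm, rfl⟩ := frattini_sylIn hT x
  have hk' : k ∈ ((C ⊔ (S ⊓ R) : Subgroup X) : Set X) := hRCT hk
  rw [Subgroup.normal_mul] at hk'
  obtain ⟨c, hc, t, ht, rfl⟩ := hk'
  have hN := hyp.norm (S ⊓ R) hHT inf_le_left
  exact mul_mem (mul_mem (hyp.cent hc) (hN (Subgroup.le_normalizer ht))) (hN hm)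

theorem local_partB (H S 𝒮 : Subgroup X) [hHn : H.Normal] (hS : IsPGroup p S) (hSi : ¬ p ∣ S.index)
    (hHS : H < S) (hyp : LocalHyp H S 𝒮) (hcc : IsSylowChainConnected p (X ⧸ H)) : 𝒮 = ⊤ := by
  have hπ : Function.Surjective (QuotientGroup.mk' H) := QuotientGroup.mk'_surjective H
  set π := QuotientGroup.mk' H with hπdef
  have hker : π.ker = H := QuotientGroup.ker_mk' H
  set S₀ : Sylow p X := hS.toSylow hSi with hS₀
  set Sb : Sylow p (X ⧸ H) := S₀.mapSurjective hπ with hSb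
  have hSbcoe : (Sb : Subgroup (X ⧸ H)) = S.map π := rfl
  have hsmul : ∀ v : X, ((π v • Sb : Sylow p (X ⧸ H)) : Subgroup (X ⧸ H)) = (cj v S).map π := by
    intro v
    rw [coe_smul_eq_cj, hSbcoe, cj_map]
  have hHcj : ∀ w : X, H ≤ cj w S := by
    intro w
    have := cj_mono (g := w) hHS.le
    rwa [cj_eq_self_of_normal] at this
  rw [eq_top_iff]
  intro x _
  obtain ⟨n, c, h0, hl, -, hc⟩ := hcc Sb (π x • Sb)
  have key : ∀ i : Fin (n + 1), ∀ v : X, c i = π v • Sb → v ∈ 𝒮 := by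
    intro i
    induction i using Fin.induction with
    | zero =>
      intro v hv
      rw [h0] at hv
      have h1 : (cj v S).map π = S.map π := by
        rw [← hsmul v, ← hv, hSbcoe]
      have h2 : cj v S = S := by
        have := Subgroup.map_eq_map_iff.mp h1
        rwa [hker, sup_of_le_left (hHcj v), sup_of_le_left hHS.le] at this
      exact hyp.norm S hHS le_rfl (mem_normalizer_iff_cj_eq.mpr h2)
    | succ i ih =>
      intro v' hv'
      obtain ⟨q, hq⟩ := MulAction.exists_smul_eq (X ⧸ H) Sb (c i.castSucc)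
      obtain ⟨v, rfl⟩ := hπ q
      have hv : v ∈ 𝒮 := ih v hq.symm
      have hadj := (hc i).2
      rw [← hq, hv', hsmul, hsmul, map_inf_map_of_ker_le π (by rw [hker]; exact hHcj v)] at hadj
      set w := v⁻¹ * v' with hwdef
      have hv'eq : v' = v * w := by rw [hwdef]; group
      have hw : H < S ⊓ cj w S := by
        refine lt_of_le_of_ne (le_inf hHS.le (hHcj w)) ?_
        intro heq
        apply hadj
        have h3 : cj v S ⊓ cj v' S = H := by
          rw [hv'eq, cj_mul, ← cj_inf, ← heq, cj_eq_self_of_normal]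
        rw [h3]
        exact (Subgroup.map_eq_bot_iff _).mpr hker.ge
      rw [hv'eq]
      exact mul_mem hv (hyp.meet w hw)
  exact key (Fin.last n) x hl

theorem dvd_relIndex_of_lt {H S : Subgroup X} (hS : IsPGroup p S) (hHS : H < S) : p ∣ H.relIndex S := by
  have hS' : IsPGroup p ↥S := hS
  obtain ⟨n, hn⟩ := hS'.index (H.subgroupOf S)
  have hn0 : n ≠ 0 := by
    intro h0
    rw [h0, pow_zero, Subgroup.index_eq_one, Subgroup.subgroupOf_eq_top] at hn
    exact (not_le_of_gt hHS) hn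
  unfold Subgroup.relIndex
  rw [hn]
  exact dvd_pow_self p hn0

theorem local_partC (H S 𝒮 : Subgroup X) [hHn : H.Normal] (hS : IsPGroup p S) (hSi : ¬ p ∣ S.index)
    (hHS : H < S) (hyp : LocalHyp H S 𝒮) (hncc : ¬ IsSylowChainConnected p (X ⧸ H)) :
    ∃ Y : Subgroup X, H ≤ Y ∧ Y.Normal ∧ p ∣ H.relIndex Y ∧
      (∀ Y' : Subgroup X, H ≤ Y' → Y'.Normal → p ∣ H.relIndex Y' → Y ≤ Y') ∧
      ((pResidual p ↥Y).map Y.subtype ≤ 𝒮 → 𝒮 = ⊤) := by
  have hπ : Function.Surjective (QuotientGroup.mk' H) := QuotientGroup.mk'_surjective H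
  set π := QuotientGroup.mk' H with hπdef
  have hker : π.ker = H := QuotientGroup.ker_mk' H
  have hcard : ∀ Y : Subgroup X, Nat.card (Y.map π) = H.relIndex Y := by
    intro Y
    rw [← Subgroup.relIndex_ker, hker]
  have hpair : ∀ Y₁ Y₂ : Subgroup X, H ≤ Y₁ → Y₁.Normal → p ∣ H.relIndex Y₁ → H ≤ Y₂ → Y₂.Normal →
      p ∣ H.relIndex Y₂ → p ∣ H.relIndex (Y₁ ⊓ Y₂) := by
    intro Y₁ Y₂ h1 n1 d1 h2 n2 d2
    by_contra hnd
    apply hncc
    have n1' : (Y₁.map π).Normal := Subgroup.Normal.map n1 π hπ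
    have n2' : (Y₂.map π).Normal := Subgroup.Normal.map n2 π hπ
    apply isSylowChainConnected_of_normal_inf_coprime (p := p) (Y₁.map π) (Y₂.map π)
    · rw [hcard]; exact d1
    · rw [hcard]; exact d2
    · rw [map_inf_map_of_ker_le π (by rw [hker]; exact h1), hcard]
      exact hnd
  let 𝒴 : Set (Subgroup X) := {Y | H ≤ Y ∧ Y.Normal ∧ p ∣ H.relIndex Y}
  have htop : (⊤ : Subgroup X) ∈ 𝒴 := by
    refine ⟨le_top, inferInstance, ?_⟩
    rw [Subgroup.relIndex_top_right, ← Subgroup.relIndex_mul_index hHS.le]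
    exact Dvd.dvd.mul_right (dvd_relIndex_of_lt hS hHS) _
  have hwf : WellFounded (InvImage (· < ·) (fun Y : Subgroup X => Nat.card Y)) :=
    InvImage.wf _ Nat.lt_wfRel.wf
  obtain ⟨Y, hY, hmin⟩ := hwf.has_min 𝒴 ⟨⊤, htop⟩
  obtain ⟨hHY, hYn, hYd⟩ := hY
  have hYmin : ∀ Y' : Subgroup X, H ≤ Y' → Y'.Normal → p ∣ H.relIndex Y' → Y ≤ Y' := by
    intro Y' h1 n1 d1
    have hmem : Y ⊓ Y' ∈ 𝒴 :=
      ⟨le_inf hHY h1, inferInstance, hpair Y Y' hHY hYn hYd h1 n1 d1⟩
    have h2 : ¬ Nat.card (Y ⊓ Y' : Subgroup X) < Nat.card Y := hmin _ hmem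
    have h3 : Y ⊓ Y' = Y := Subgroup.eq_of_le_of_card_ge inf_le_left (not_lt.mp h2)
    rw [← h3]
    exact inf_le_right
  refine ⟨Y, hHY, hYn, hYd, hYmin, ?_⟩
  intro hO
  have hT : SylIn p (S ⊓ Y) Y := sylIn_inf_normal hS hSi
  have hHT : H < S ⊓ Y := by
    refine lt_of_le_of_ne (le_inf hHS.le hHY) ?_
    intro heq
    have := hT.not_dvd
    rw [← heq] at this
    exact this hYd
  have hN := hyp.norm (S ⊓ Y) hHT inf_le_left
  have hOn : (pResidual p ↥Y).Normal := Cfsg.Agent.Lib.Helper34.pResidual_normal p ↥Y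
  have hsup : pResidual p ↥Y ⊔ (S ⊓ Y).subgroupOf Y = ⊤ :=
    Cfsg.Agent.Lib.Helper34.pResidual_sup_eq_top p ((S ⊓ Y).subgroupOf Y) hT.not_dvd
  rw [eq_top_iff]
  intro x _
  obtain ⟨k, hk, m, hm, rfl⟩ := frattini_sylIn hT x
  have hk' : (⟨k, hk⟩ : ↥Y) ∈ ((pResidual p ↥Y ⊔ (S ⊓ Y).subgroupOf Y : Subgroup ↥Y) : Set ↥Y) := by
    rw [hsup]; exact Subgroup.mem_top _
  rw [Subgroup.normal_mul] at hk'
  obtain ⟨o, ho, t, ht, hot⟩ := hk'
  have hk2 : k = (o : X) * (t : X) := by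
    have := congrArg Subtype.val hot
    simpa using this.symm
  rw [hk2]
  have ho' : (o : X) ∈ 𝒮 := hO ⟨o, ho, rfl⟩
  have ht' : (t : X) ∈ S ⊓ Y := Subgroup.mem_subgroupOf.mp ht
  exact mul_mem (mul_mem ho' (hN (Subgroup.le_normalizer ht'))) (hN hm)

end Local

end Cfsg.Agent.Lib.Helper48
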