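import Mathlib

/-!
# Groups generated by 3-cycles (helper48)

* `isPreprimitive_closure_threeCycles`: a transitive permutation group generated by 3-cycles is
  primitive.
* `alternatingGroup_le_closure_threeCycles`: hence (Jordan) it contains the alternating group.
* `ofSubtype_mem_closure_of_mem_alternatingGroup`: if `Δ` is an orbit of the group `N` generated by
  a set `T` of 3-cycles, then `N` contains the alternating group on `Δ` (extended by the identity).
-/

set_option autoImplicit false

namespace Cfsg.Agent.Lib.Helper48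

open Equiv Equiv.Perm MulAction
open scoped Pointwise

section Prim

variable {β : Type*} [Fintype β] [DecidableEq β]

/-- A 3-cycle cannot move a set with two points off itself. -/
theorem threeCycle_smul_set_eq {c : Perm β} (hc : c.IsThreeCycle) {B : Set β}
    (hB : c • B = B ∨ Disjoint (c • B) B) {u w : β} (hu : u ∈ B) (hw : w ∈ B) (huw : u ≠ w) :
    c • B = B := by
  rcases hB with h | h
  · exact h
  exfalso
  have hnot : ∀ y ∈ B, c y ∉ B := by
    intro y hy hcy
    have : c y ∈ c • B := ⟨y, hy, rfl⟩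
    exact Set.disjoint_left.mp h this hcy
  have hcu : c u ≠ u := fun e => hnot u hu (by rw [e]; exact hu)
  have hcw : c w ≠ w := fun e => hnot w hw (by rw [e]; exact hw)
  have hcu' : c u ∉ B := hnot u hu
  have hcw' : c w ∉ B := hnot w hw
  have hsu : u ∈ c.support := Perm.mem_support.mpr hcu
  have hsw : w ∈ c.support := Perm.mem_support.mpr hcw
  have hscu : c u ∈ c.support := Perm.apply_mem_support.mpr hsu
  have hscw : c w ∈ c.support := Perm.apply_mem_support.mpr hsw
  have hcard : c.support.card = 3 := hc.card_support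
  have hne1 : c u ≠ u := hcu
  have hne2 : c u ≠ w := fun e => hcu' (e ▸ hw)
  have hne3 : c w ≠ u := fun e => hcw' (e ▸ hu)
  have hne4 : c w ≠ w := hcw
  by_cases hcc : c u = c w
  · exact huw (c.injective hcc)
  · have hsub : ({u, w, c u, c w} : Finset β) ⊆ c.support := by
      intro z hz
      simp only [Finset.mem_insert, Finset.mem_singleton] at hz
      rcases hz with rfl | rfl | rfl | rfl <;> assumption
    have h4 : ({u, w, c u, c w} : Finset β).card = 4 := by
      rw [Finset.card_insert_of_notMem, Finset.card_insert_of_notMem,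
        Finset.card_insert_of_notMem, Finset.card_singleton]
      · simpa using hcc
      · simp only [Finset.mem_insert, Finset.mem_singleton, not_or]
        exact ⟨hne2.symm, hne4.symm⟩
      · simp only [Finset.mem_insert, Finset.mem_singleton, not_or]
        exact ⟨huw, hne1.symm, hne3.symm⟩
    have := Finset.card_le_card hsub
    omega

/-- A transitive permutation group generated by 3-cycles is primitive. -/
theorem isPreprimitive_closure_threeCycles (T : Set (Perm β)) (hT : ∀ c ∈ T, c.IsThreeCycle)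
    [htr : IsPretransitive (Subgroup.closure T) β] : IsPreprimitive (Subgroup.closure T) β := by
  refine { htr with isTrivialBlock_of_isBlock := ?_ }
  intro B hB
  by_contra hnt
  rw [IsTrivialBlock, not_or] at hnt
  obtain ⟨hns, hnu⟩ := hnt
  rw [Set.not_subsingleton_iff] at hns
  obtain ⟨u, hu, w, hw, huw⟩ := hns
  -- every generator stabilizes `B`
  have hgen : ∀ c ∈ T, c • B = B := by
    intro c hc
    have h1 := hB.smul_eq_or_disjoint ⟨c, Subgroup.subset_closure hc⟩
    exact threeCycle_smul_set_eq (hT c hc) h1 hu hw huw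
  have hle : Subgroup.closure T ≤ MulAction.stabilizer (Perm β) B := by
    rw [Subgroup.closure_le]
    intro c hc
    exact MulAction.mem_stabilizer_iff.mpr (hgen c hc)
  apply hnu
  rw [Set.eq_univ_iff_forall]
  intro y
  obtain ⟨g, hg⟩ := htr.exists_smul_eq u y
  have h2 : (g : Perm β) • B = B := MulAction.mem_stabilizer_iff.mp (hle g.2)
  rw [← h2, ← hg]
  exact ⟨u, hu, rfl⟩

/-- A transitive permutation group generated by a nonempty set of 3-cycles contains the
alternating group. -/
theorem alternatingGroup_le_closure_threeCycles (T : Set (Perm β)) (hT : ∀ c ∈ T, c.IsThreeCycle)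
    (hne : T.Nonempty) [htr : IsPretransitive (Subgroup.closure T) β] :
    alternatingGroup β ≤ Subgroup.closure T := by
  obtain ⟨c, hc⟩ := hne
  exact alternatingGroup_le_of_isPreprimitive_of_isThreeCycle_mem
    (isPreprimitive_closure_threeCycles T hT) (hT c hc) (Subgroup.subset_closure hc)

end Prim

section Orbit

variable {α : Type*} [Fintype α] [DecidableEq α]

/-- The support of a 3-cycle meeting an invariant set lies inside it. -/
theorem threeCycle_support_subset {c : Perm α} (hc : c.IsThreeCycle) {Δ : Finset α}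
    (hinv : ∀ y ∈ Δ, c y ∈ Δ) {y : α} (hy : y ∈ Δ) (hys : y ∈ c.support) : c.support ⊆ Δ := by
  rw [hc.support_eq_iff_mem_support.mpr hys]
  intro z hz
  simp only [Finset.mem_insert, Finset.mem_singleton] at hz
  rcases hz with rfl | rfl | rfl
  · exact hy
  · exact hinv _ hy
  · exact hinv _ (hinv _ hy)

theorem threeCycle_apply_apply_apply {c : Perm α} (hc : c.IsThreeCycle) (y : α) :
    c (c (c y)) = y := by
  have h3 : c ^ 3 = 1 := by
    rw [← hc.orderOf]; exact pow_orderOf_eq_one c
  have : (c ^ 3) y = y := by rw [h3]; rfl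
  simpa [pow_succ, Perm.mul_apply] using this

/-- If `Δ` is an orbit of the group generated by a set `T` of 3-cycles, this group contains the
alternating group on `Δ`. -/
theorem ofSubtype_mem_closure_of_mem_alternatingGroup (T : Set (Perm α))
    (hT : ∀ c ∈ T, c.IsThreeCycle) (Δ : Finset α) (hinv : ∀ c ∈ T, ∀ y ∈ Δ, c y ∈ Δ)
    (htr : ∀ y ∈ Δ, ∀ z ∈ Δ, ∃ g ∈ Subgroup.closure T, g y = z)
    (σ : Perm {y // y ∈ Δ}) (hσ : σ ∈ alternatingGroup {y // y ∈ Δ}) :
    Perm.ofSubtype σ ∈ Subgroup.closure T := by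
  set T' : Set (Perm {y // y ∈ Δ}) := {τ | Perm.ofSubtype τ ∈ T} with hT'def
  have hT' : ∀ τ ∈ T', τ.IsThreeCycle := by
    intro τ hτ
    have := hT _ hτ
    rwa [IsThreeCycle, cycleType_ofSubtype] at this
  have hmap : (Subgroup.closure T').map (Perm.ofSubtype : Perm {y // y ∈ Δ} →* Perm α) ≤
      Subgroup.closure T := by
    rw [Subgroup.map_le_iff_le_comap, Subgroup.closure_le]
    intro τ hτ
    exact Subgroup.subset_closure hτ
  -- the key transfer statement
  have key : ∀ g ∈ Subgroup.closure T, (∀ y, y ∈ Δ ↔ g y ∈ Δ) ∧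
      ∀ (y : α) (hy : y ∈ Δ), ∃ τ ∈ Subgroup.closure T', ((τ ⟨y, hy⟩ : {y // y ∈ Δ}) : α) = g y := by
    intro g hg
    induction hg using Subgroup.closure_induction with
    | mem c hc =>
      have hiff : ∀ y, y ∈ Δ ↔ c y ∈ Δ := by
        intro y
        refine ⟨hinv c hc y, fun h => ?_⟩
        have := hinv c hc _ (hinv c hc _ h)
        rwa [threeCycle_apply_apply_apply (hT c hc)] at this
      refine ⟨hiff, ?_⟩
      intro y hy
      by_cases hcy : c y = y
      · exact ⟨1, one_mem _, by simp [hcy]⟩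
      · have hsub : c.support ⊆ Δ :=
          threeCycle_support_subset (hT c hc) (hinv c hc) hy (Perm.mem_support.mpr hcy)
        have h₁ : ∀ x, c x ∈ Δ ↔ x ∈ Δ := fun x => (hiff x).symm
        have h₂ : ∀ x, c x ≠ x → x ∈ Δ := fun x hx => hsub (Perm.mem_support.mpr hx)
        refine ⟨c.subtypePerm h₁, Subgroup.subset_closure ?_, ?_⟩
        · show Perm.ofSubtype (c.subtypePerm h₁) ∈ T
          rw [Perm.ofSubtype_subtypePerm h₁ h₂]
          exact hc
        · rfl
    | one => exact ⟨fun y => Iff.rfl, fun y hy => ⟨1, one_mem _, rfl⟩⟩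
    | mul g₁ g₂ _ _ ih₁ ih₂ =>
      refine ⟨fun y => ?_, fun y hy => ?_⟩
      · rw [Perm.mul_apply]
        exact (ih₂.1 y).trans (ih₁.1 (g₂ y))
      · obtain ⟨τ₂, hτ₂, e₂⟩ := ih₂.2 y hy
        have hy₂ : g₂ y ∈ Δ := (ih₂.1 y).mp hy
        obtain ⟨τ₁, hτ₁, e₁⟩ := ih₁.2 (g₂ y) hy₂
        refine ⟨τ₁ * τ₂, mul_mem hτ₁ hτ₂, ?_⟩
        have e₃ : τ₂ ⟨y, hy⟩ = ⟨g₂ y, hy₂⟩ := Subtype.ext e₂
        rw [Perm.mul_apply, e₃, e₁, Perm.mul_apply]
    | inv g _ ih =>
      have hiff : ∀ y, y ∈ Δ ↔ g⁻¹ y ∈ Δ := by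
        intro y
        have := ih.1 (g⁻¹ y)
        have e0 : g (g⁻¹ y) = y := by simp
        rw [e0] at this
        exact this.symm
      refine ⟨hiff, fun y hy => ?_⟩
      have hw : g⁻¹ y ∈ Δ := (hiff y).mp hy
      obtain ⟨τ, hτ, e⟩ := ih.2 (g⁻¹ y) hw
      refine ⟨τ⁻¹, inv_mem hτ, ?_⟩
      have e₃ : τ ⟨g⁻¹ y, hw⟩ = ⟨y, hy⟩ := by
        apply Subtype.ext
        rw [e]
        simp
      have e₄ : τ⁻¹ ⟨y, hy⟩ = ⟨g⁻¹ y, hw⟩ := by
        rw [Perm.inv_eq_iff_eq, e₃]
      rw [e₄]
  have htr' : IsPretransitive (Subgroup.closure T') {y // y ∈ Δ} := by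
    refine ⟨fun a b => ?_⟩
    obtain ⟨g, hg, hgab⟩ := htr a.1 a.2 b.1 b.2
    obtain ⟨τ, hτ, e⟩ := (key g hg).2 a.1 a.2
    refine ⟨⟨τ, hτ⟩, ?_⟩
    apply Subtype.ext
    show ((τ a : {y // y ∈ Δ}) : α) = b
    rw [← hgab, ← e]
  by_cases hne : T'.Nonempty
  · have := alternatingGroup_le_closure_threeCycles T' hT' hne hσ
    exact hmap ⟨σ, this, rfl⟩
  · rw [Set.not_nonempty_iff_eq_empty] at hne
    have hbot : Subgroup.closure T' = ⊥ := by rw [hne, Subgroup.closure_empty]
    have hsub : Subsingleton {y // y ∈ Δ} := by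
      refine ⟨fun a b => ?_⟩
      obtain ⟨g, hg⟩ := htr'.exists_smul_eq a b
      have hg1 : (g : Perm {y // y ∈ Δ}) = 1 := by
        have h0 : (g : Perm {y // y ∈ Δ}) ∈ (⊥ : Subgroup (Perm {y // y ∈ Δ})) := hbot ▸ g.2
        exact Subgroup.mem_bot.mp h0
      rw [← hg, Subgroup.smul_def, hg1, one_smul]
    have : σ = 1 := Subsingleton.elim _ _
    rw [this, map_one]
    exact one_mem _

end Orbit

end Cfsg.Agent.Lib.Helper48
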