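import Mathlib
import Cfsg.Prelude.Def_Local
import Cfsg.Agent.Lib.Helper21.Quasisimple
import Cfsg.Agent.Lib.Helper48.ThreeCycleGen

/-!
# Subgroups of `Sym(α)` with quasisimple `F*` containing many 3-cycles (helper48)

`altOn Δ`: the even permutations supported on the finset `Δ`.
Main result `exists_altOn_eq`: if `E` is a quasisimple subgroup of `Perm α` normalized by `H ≥ E`,
with `C_H(E) ≤ E`, and `H` contains a family `C` of pairwise disjoint 3-cycles covering all but at
most two points, then `E = altOn Δ` for a finset `Δ` containing the supports of the members of `C`.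
-/

set_option autoImplicit false
set_option linter.unusedSectionVars false

namespace Cfsg.Agent.Lib.Helper48

open Equiv Equiv.Perm
open scoped Pointwise commutatorElement

/-! ### perfect groups map trivially to solvable groups -/

theorem map_eq_one_of_isPerfect_of_isSolvable {E S : Type*} [Group E] [Group S]
    [hE : Group.IsPerfect E] [hS : Group.IsSolvable S] (f : E →* S) (x : E) : f x = 1 := by
  obtain ⟨n, hn⟩ := hS.solvable
  have hd : ∀ k, derivedSeries E k = ⊤ := by
    intro k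
    induction k with
    | zero => rfl
    | succ k ih => rw [derivedSeries_succ, ih]; exact hE.commutator_eq_top
  have h1 := map_derivedSeries_le_derivedSeries f n
  rw [hd n, hn] at h1
  have : f x ∈ (⊤ : Subgroup E).map f := ⟨x, Subgroup.mem_top x, rfl⟩
  exact Subgroup.mem_bot.mp (h1 this)

/-- `S₄` is solvable (copied from helper70's `S4203`). -/
theorem isSolvable_alt_fin_four' : Group.IsSolvable (alternatingGroup (Fin 4)) := by
  have hα4 : Nat.card (Fin 4) = 4 := by simp
  have h1 : Group.IsSolvable (alternatingGroup.kleinFour (Fin 4)) := by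
    have hc := alternatingGroup.kleinFour_card_of_card_eq_four hα4
    have : Fact (Nat.Prime 2) := ⟨Nat.prime_two⟩
    have hp : IsPGroup 2 (alternatingGroup.kleinFour (Fin 4)) :=
      IsPGroup.of_card (n := 2) (by rw [hc]; norm_num)
    have := hp.isNilpotent
    infer_instance
  refine Group.isSolvable_of_ker_le_range (alternatingGroup.kleinFour (Fin 4)).subtype
    (Abelianization.of (G := alternatingGroup (Fin 4))) ?_
  rw [Abelianization.ker_of, Subgroup.range_subtype, alternatingGroup.kleinFour_eq_commutator hα4]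

theorem isSolvable_perm_fin_four' : Group.IsSolvable (Equiv.Perm (Fin 4)) := by
  have := isSolvable_alt_fin_four'
  refine Group.isSolvable_of_ker_le_range (alternatingGroup (Fin 4)).subtype
    (Equiv.Perm.sign (α := Fin 4)) ?_
  rw [Subgroup.range_subtype]
  exact le_of_eq rfl

theorem isSolvable_perm_of_card_le_four' {β : Type*} [Fintype β] (h : Fintype.card β ≤ 4) :
    Group.IsSolvable (Equiv.Perm β) := by
  have := isSolvable_perm_fin_four'
  obtain ⟨ι⟩ : Nonempty (β ↪ Fin 4) :=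
    Function.Embedding.nonempty_of_card_le (by rw [Fintype.card_fin]; exact h)
  exact Group.isSolvable_of_isSolvable_injective (Equiv.Perm.viaEmbeddingHom_injective ι)

section Main

variable {α : Type*} [Fintype α] [DecidableEq α]

/-- Restriction of a group of permutations to an invariant finset. -/
def restrictHom (E : Subgroup (Perm α)) (Δ : Finset α)
    (hE : ∀ e ∈ E, ∀ y, e y ∈ Δ ↔ y ∈ Δ) : ↥E →* Perm {y // y ∈ Δ} where
  toFun e := (e : Perm α).subtypePerm (hE e e.2)
  map_one' := by ext y; rfl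
  map_mul' a b := by ext y; rfl

theorem iff_of_forall_mem {E : Subgroup (Perm α)} {Δ : Finset α}
    (hE : ∀ e ∈ E, ∀ y ∈ Δ, e y ∈ Δ) : ∀ e ∈ E, ∀ y, e y ∈ Δ ↔ y ∈ Δ := by
  intro e he y
  refine ⟨fun h => ?_, hE e he y⟩
  have := hE e⁻¹ (E.inv_mem he) (e y) h
  simpa using this

/-- A perfect permutation group fixes every invariant set with at most 4 points pointwise. -/
theorem apply_eq_of_perfect_of_card_le_four {E : Subgroup (Perm α)} (hperf : Group.IsPerfect ↥E)
    {Δ : Finset α} (hΔ : Δ.card ≤ 4) (hE : ∀ e ∈ E, ∀ y ∈ Δ, e y ∈ Δ) :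
    ∀ e ∈ E, ∀ y ∈ Δ, e y = y := by
  intro e he y hy
  have hS : Group.IsSolvable (Perm {y // y ∈ Δ}) :=
    isSolvable_perm_of_card_le_four' (by rw [Fintype.card_coe]; exact hΔ)
  have h1 := map_eq_one_of_isPerfect_of_isSolvable (restrictHom E Δ (iff_of_forall_mem hE)) ⟨e, he⟩
  have h2 := congrArg (fun τ : Perm {y // y ∈ Δ} => ((τ ⟨y, hy⟩ : {y // y ∈ Δ}) : α)) h1
  simpa [restrictHom] using h2

/-! ### `altOn` -/

/-- The even permutations supported on the finset `Δ`. -/
def altOn (Δ : Finset α) : Subgroup (Perm α) :=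
  (alternatingGroup {y // y ∈ Δ}).map (Perm.ofSubtype : Perm {y // y ∈ Δ} →* Perm α)

theorem mem_altOn_iff {Δ : Finset α} {σ : Perm α} :
    σ ∈ altOn Δ ↔ (∀ y, y ∉ Δ → σ y = y) ∧ Perm.sign σ = 1 := by
  constructor
  · rintro ⟨τ, hτ, rfl⟩
    refine ⟨fun y hy => Perm.ofSubtype_apply_of_not_mem τ hy, ?_⟩
    rw [Perm.sign_ofSubtype]
    exact Perm.mem_alternatingGroup.mp hτ
  · rintro ⟨hfix, hsign⟩
    have h₂ : ∀ x, σ x ≠ x → x ∈ Δ := fun x hx => by
      by_contra h; exact hx (hfix x h)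
    have h₁ : ∀ x, σ x ∈ Δ ↔ x ∈ Δ := by
      intro x
      constructor
      · intro h
        by_contra hx
        rw [hfix x hx] at h
        exact hx h
      · intro h
        by_contra hx
        have h3 := hfix _ hx
        have h4 : σ x = x := σ.injective h3
        rw [h4] at hx
        exact hx h
    refine ⟨σ.subtypePerm h₁, ?_, Perm.ofSubtype_subtypePerm h₁ h₂⟩
    rw [SetLike.mem_coe, Perm.mem_alternatingGroup, ← Perm.sign_ofSubtype,
      Perm.ofSubtype_subtypePerm h₁ h₂]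
    exact hsign

theorem conj_mem_altOn {Δ : Finset α} {g σ : Perm α} (hg : ∀ y, g y ∈ Δ ↔ y ∈ Δ)
    (hσ : σ ∈ altOn Δ) : g * σ * g⁻¹ ∈ altOn Δ := by
  rw [mem_altOn_iff] at hσ ⊢
  refine ⟨fun y hy => ?_, ?_⟩
  · have h1 : g⁻¹ y ∉ Δ := by
      intro h
      apply hy
      have := (hg (g⁻¹ y)).mpr h
      simpa using this
    show g (σ (g⁻¹ y)) = y
    rw [hσ.1 _ h1]
    simp
  · simp [Perm.sign_mul, hσ.2]

noncomputable def altOn_equiv (Δ : Finset α) : ↥(alternatingGroup {y // y ∈ Δ}) ≃* ↥(altOn Δ) :=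
  Subgroup.equivMapOfInjective _ _ Perm.ofSubtype_injective

theorem isSimpleGroup_altOn {Δ : Finset α} (h5 : 5 ≤ Δ.card) : IsSimpleGroup ↥(altOn Δ) := by
  have : IsSimpleGroup ↥(alternatingGroup {y // y ∈ Δ}) :=
    alternatingGroup.isSimpleGroup (by rw [Nat.card_eq_fintype_card, Fintype.card_coe]; exact h5)
  exact (altOn_equiv Δ).symm.isSimpleGroup

theorem not_commutative_altOn {Δ : Finset α} (h5 : 5 ≤ Δ.card)
    (h : ∀ a ∈ altOn Δ, ∀ b ∈ altOn Δ, a * b = b * a) : False := by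
  have hs := isSimpleGroup_altOn h5
  have hc : Subgroup.center ↥(alternatingGroup {y // y ∈ Δ}) = ⊥ :=
    alternatingGroup.center_eq_bot
      (by rw [Nat.card_eq_fintype_card, Fintype.card_coe]; omega)
  have hnt : Nontrivial ↥(alternatingGroup {y // y ∈ Δ}) :=
    (altOn_equiv Δ).toEquiv.nontrivial
  obtain ⟨a, ha⟩ := exists_ne (1 : ↥(alternatingGroup {y // y ∈ Δ}))
  apply ha
  have : a ∈ Subgroup.center ↥(alternatingGroup {y // y ∈ Δ}) := by
    rw [Subgroup.mem_center_iff]
    intro b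
    have h1 := h _ ((altOn_equiv Δ) a).2 _ ((altOn_equiv Δ) b).2
    have h2 : (altOn_equiv Δ) a * (altOn_equiv Δ) b = (altOn_equiv Δ) b * (altOn_equiv Δ) a :=
      Subtype.ext h1
    rw [← map_mul, ← map_mul] at h2
    exact ((altOn_equiv Δ).injective h2).symm
  rw [hc, Subgroup.mem_bot] at this
  exact this

/-- A subgroup of a simple subgroup `L` normalized by `L` is trivial or `L`. -/
theorem eq_bot_or_eq_of_isSimpleGroup {G : Type*} [Group G] {L K : Subgroup G}
    (hL : IsSimpleGroup ↥L) (hKL : K ≤ L) (hn : L ≤ Subgroup.normalizer (K : Set G)) :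
    K = ⊥ ∨ K = L := by
  have hnorm : (K.subgroupOf L).Normal := (Subgroup.normal_subgroupOf_iff_le_normalizer hKL).mpr hn
  rcases hnorm.eq_bot_or_eq_top with h | h
  · left
    rw [Subgroup.subgroupOf_eq_bot] at h
    rw [← inf_eq_left.mpr hKL]
    exact disjoint_iff.mp h
  · right
    rw [Subgroup.subgroupOf_eq_top] at h
    exact le_antisymm hKL h

theorem commutator_le_inf_of_le_normalizer {G : Type*} [Group G] {A B : Subgroup G}
    (hAB : A ≤ Subgroup.normalizer (B : Set G)) (hBA : B ≤ Subgroup.normalizer (A : Set G)) :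
    ⁅A, B⁆ ≤ A ⊓ B := by
  rw [Subgroup.commutator_le]
  intro a ha b hb
  refine ⟨?_, ?_⟩
  · have h1 : b * a⁻¹ * b⁻¹ ∈ A := (Subgroup.mem_normalizer_iff.mp (hBA hb) a⁻¹).mp (A.inv_mem ha)
    have h2 : ⁅a, b⁆ = a * (b * a⁻¹ * b⁻¹) := by rw [commutatorElement_def]; group
    rw [h2]; exact A.mul_mem ha h1
  · have h1 : a * b * a⁻¹ ∈ B := (Subgroup.mem_normalizer_iff.mp (hAB ha) b).mp hb
    rw [commutatorElement_def]
    exact B.mul_mem h1 (B.inv_mem hb)

theorem commute_of_commutator_eq_bot {G : Type*} [Group G] {A B : Subgroup G}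
    (h : ⁅A, B⁆ = ⊥) {a b : G} (ha : a ∈ A) (hb : b ∈ B) : a * b = b * a := by
  have h1 : ⁅a, b⁆ ∈ ⁅A, B⁆ := Subgroup.commutator_mem_commutator ha hb
  rw [h, Subgroup.mem_bot, commutatorElement_eq_one_iff_mul_comm] at h1
  exact h1

theorem le_normalizer_of_conj_mem {G : Type*} [Group G] {H N : Subgroup G}
    (h : ∀ g ∈ H, ∀ n ∈ N, g * n * g⁻¹ ∈ N) : H ≤ Subgroup.normalizer (N : Set G) := by
  intro g hg
  rw [Subgroup.mem_normalizer_iff]
  intro n
  refine ⟨h g hg n, fun hn => ?_⟩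
  have := h g⁻¹ (H.inv_mem hg) _ hn
  simpa [mul_assoc] using this

theorem le_normalizer_inf {G : Type*} [Group G] {L A B : Subgroup G}
    (hA : L ≤ Subgroup.normalizer (A : Set G)) (hB : L ≤ Subgroup.normalizer (B : Set G)) :
    L ≤ Subgroup.normalizer ((A ⊓ B : Subgroup G) : Set G) := by
  intro l hl
  rw [Subgroup.mem_normalizer_iff]
  intro x
  have h1 := Subgroup.mem_normalizer_iff.mp (hA hl) x
  have h2 := Subgroup.mem_normalizer_iff.mp (hB hl) x
  exact ⟨fun h => ⟨h1.mp h.1, h2.mp h.2⟩, fun h => ⟨h1.mpr h.1, h2.mpr h.2⟩⟩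

theorem isThreeCycle_conj {g c : Perm α} (hc : c.IsThreeCycle) : (g * c * g⁻¹).IsThreeCycle := by
  rw [IsThreeCycle, cycleType_conj]; exact hc

/-- Main structure result. -/
theorem exists_altOn_eq (H E : Subgroup (Perm α)) (hEH : E ≤ H)
    (hHE : H ≤ Subgroup.normalizer (E : Set (Perm α)))
    (hB : ∀ g ∈ H, (∀ e ∈ E, g * e = e * g) → g ∈ E) (hqs : Cfsg.IsQuasisimple ↥E)
    (U : Finset α) (hU : ∀ y ∈ U, ∃ c ∈ H, c.IsThreeCycle ∧ y ∈ c.support)
    (hcover : Fintype.card α ≤ U.card + 2) :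
    ∃ Δ : Finset α, E = altOn Δ ∧ Fintype.card α ≤ Δ.card + 2 := by
  classical
  have hperf : Group.IsPerfect ↥E := hqs.1
  have hEE : ⁅E, E⁆ = E := Cfsg.Agent.Lib.Helper21.qs_commutator_eq_self hqs
  have hE1 : E ≠ ⊥ := by
    have := Cfsg.Agent.Lib.Helper21.qs_nontrivial hqs
    exact (Subgroup.nontrivial_iff_ne_bot E).mp this
  set T : Set (Perm α) := {c | c ∈ H ∧ c.IsThreeCycle} with hT
  set N : Subgroup (Perm α) := Subgroup.closure T with hN
  have hT3 : ∀ c ∈ T, c.IsThreeCycle := fun c hc => hc.2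
  have hNH : N ≤ H := (Subgroup.closure_le H).mpr (fun c hc => hc.1)
  have hHN : H ≤ Subgroup.normalizer (N : Set (Perm α)) := by
    apply le_normalizer_of_conj_mem
    intro g hg n hn
    induction hn using Subgroup.closure_induction with
    | mem c hc =>
      exact Subgroup.subset_closure ⟨H.mul_mem (H.mul_mem hg hc.1) (H.inv_mem hg),
        isThreeCycle_conj hc.2⟩
    | one => simp
    | mul x y _ _ hx hy =>
      have : g * (x * y) * g⁻¹ = (g * x * g⁻¹) * (g * y * g⁻¹) := by group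
      rw [this]; exact N.mul_mem hx hy
    | inv x _ hx =>
      have : g * x⁻¹ * g⁻¹ = (g * x * g⁻¹)⁻¹ := by group
      rw [this]; exact N.inv_mem hx
  have hEN : E ≤ Subgroup.normalizer (N : Set (Perm α)) := hEH.trans hHN
  have hNE : N ≤ Subgroup.normalizer (E : Set (Perm α)) := hNH.trans hHE
  -- `E ≤ N` or contradiction
  have hEleN : E ≤ N := by
    have hK : E ≤ Subgroup.normalizer ((E ⊓ N : Subgroup (Perm α)) : Set (Perm α)) :=
      le_normalizer_inf Subgroup.le_normalizer hEN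
    rcases Cfsg.Agent.Lib.Helper21.qs_eq_or_commutator_eq_bot hqs inf_le_left hK with h | h
    · exact inf_eq_left.mp h
    exfalso
    have hcomm : ⁅E, N⁆ ≤ E ⊓ N := commutator_le_inf_of_le_normalizer hEN hNE
    have h1 : ⁅⁅E, N⁆, E⁆ = ⊥ := by
      rw [eq_bot_iff, ← h, Subgroup.commutator_comm E (E ⊓ N)]
      exact Subgroup.commutator_mono hcomm le_rfl
    have h2 : ⁅⁅N, E⁆, E⁆ = ⊥ := by rw [Subgroup.commutator_comm N E]; exact h1
    have h3 : ⁅⁅E, E⁆, N⁆ = ⊥ := Subgroup.commutator_commutator_eq_bot_of_rotate h1 h2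
    rw [hEE] at h3
    -- `E` fixes the points of `U`
    have hfix : ∀ y ∈ U, ∀ e ∈ E, e y = y := by
      intro y hy e he
      obtain ⟨c, hcH, hc3, hyc⟩ := hU y hy
      have hcN : c ∈ N := Subgroup.subset_closure ⟨hcH, hc3⟩
      refine apply_eq_of_perfect_of_card_le_four hperf (Δ := c.support)
        (by rw [hc3.card_support]; norm_num) ?_ e he y hyc
      intro e he y hy
      have hce : e * c = c * e := commute_of_commutator_eq_bot h3 he hcN
      rw [Perm.mem_support] at hy ⊢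
      intro h4
      apply hy
      have h5 : e (c y) = c (e y) := by
        have := congrArg (fun f : Perm α => f y) hce
        simpa [Perm.mul_apply] using this
      rw [h4] at h5
      exact e.injective h5
    set R : Finset α := Finset.univ \ U with hR
    have hRcard : R.card ≤ 4 := by
      rw [hR, Finset.card_sdiff_of_subset (Finset.subset_univ _), Finset.card_univ]
      omega
    have hfixR : ∀ e ∈ E, ∀ y ∈ R, e y = y := by
      apply apply_eq_of_perfect_of_card_le_four hperf hRcard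
      intro e he y hy
      rw [hR, Finset.mem_sdiff] at hy ⊢
      refine ⟨Finset.mem_univ _, ?_⟩
      intro hyU
      apply hy.2
      have h6 := hfix (e y) hyU e he
      have h7 : e y = y := e.injective h6
      exact h7 ▸ hyU
    apply hE1
    rw [eq_bot_iff]
    intro e he
    rw [Subgroup.mem_bot]
    ext y
    by_cases hy : y ∈ U
    · exact hfix y hy e he
    · exact hfixR e he y (by rw [hR, Finset.mem_sdiff]; exact ⟨Finset.mem_univ _, hy⟩)
  -- a point moved by `E`
  obtain ⟨e₀, he₀, x, hx⟩ : ∃ e ∈ E, ∃ x, e x ≠ x := by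
    obtain ⟨⟨e, he⟩, he1⟩ := (Subgroup.ne_bot_iff_exists_ne_one).mp hE1
    refine ⟨e, he, ?_⟩
    by_contra hall
    push Not at hall
    exact he1 (Subtype.ext (Perm.ext hall))
  set Δ₀ : Finset α := Finset.univ.filter (fun y => ∃ g ∈ N, g x = y) with hΔ₀
  have hxΔ : x ∈ Δ₀ := by
    rw [hΔ₀, Finset.mem_filter]; exact ⟨Finset.mem_univ _, 1, N.one_mem, rfl⟩
  have hNΔ : ∀ g ∈ N, ∀ y ∈ Δ₀, g y ∈ Δ₀ := by
    intro g hg y hy
    rw [hΔ₀, Finset.mem_filter] at hy ⊢
    obtain ⟨-, g', hg', rfl⟩ := hy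
    exact ⟨Finset.mem_univ _, g * g', N.mul_mem hg hg', rfl⟩
  have hNΔ' : ∀ g ∈ N, ∀ y, g y ∈ Δ₀ ↔ y ∈ Δ₀ := iff_of_forall_mem hNΔ
  have htr : ∀ y ∈ Δ₀, ∀ z ∈ Δ₀, ∃ g ∈ Subgroup.closure T, g y = z := by
    intro y hy z hz
    rw [hΔ₀, Finset.mem_filter] at hy hz
    obtain ⟨-, g₁, hg₁, rfl⟩ := hy
    obtain ⟨-, g₂, hg₂, rfl⟩ := hz
    exact ⟨g₂ * g₁⁻¹, N.mul_mem hg₂ (N.inv_mem hg₁), by simp⟩
  have h5 : 5 ≤ Δ₀.card := by
    by_contra hlt
    push Not at hlt
    exact hx (apply_eq_of_perfect_of_card_le_four hperf (by omega)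
      (fun e he y hy => hNΔ e (hEleN he) y hy) e₀ he₀ x hxΔ)
  have hAN : altOn Δ₀ ≤ N := by
    rintro _ ⟨τ, hτ, rfl⟩
    exact ofSubtype_mem_closure_of_mem_alternatingGroup T hT3 Δ₀
      (fun c hc => hNΔ c (Subgroup.subset_closure hc)) htr τ hτ
  have hNA : N ≤ Subgroup.normalizer (altOn Δ₀ : Set (Perm α)) :=
    le_normalizer_of_conj_mem (fun g hg σ hσ => conj_mem_altOn (hNΔ' g hg) hσ)
  have hAE' : altOn Δ₀ ≤ Subgroup.normalizer (E : Set (Perm α)) := hAN.trans hNE
  have hEA' : E ≤ Subgroup.normalizer (altOn Δ₀ : Set (Perm α)) := hEleN.trans hNA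
  have hsimple := isSimpleGroup_altOn h5
  have hAne : altOn Δ₀ ≠ ⊥ := by
    have := hsimple.toNontrivial
    exact (Subgroup.nontrivial_iff_ne_bot _).mp this
  have hKn : altOn Δ₀ ≤ Subgroup.normalizer ((altOn Δ₀ ⊓ E : Subgroup (Perm α)) : Set (Perm α)) :=
    le_normalizer_inf Subgroup.le_normalizer hAE'
  have hAE : altOn Δ₀ ≤ E := by
    rcases eq_bot_or_eq_of_isSimpleGroup hsimple inf_le_left hKn with h | h
    · exfalso
      have hc : ⁅altOn Δ₀, E⁆ = ⊥ := by
        rw [eq_bot_iff, ← h]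
        exact commutator_le_inf_of_le_normalizer hAE' hEA'
      have hle : altOn Δ₀ ≤ E := by
        intro σ hσ
        exact hB σ (hNH (hAN hσ)) (fun e he => commute_of_commutator_eq_bot hc hσ he)
      apply hAne
      rw [eq_bot_iff, ← h]
      exact le_inf le_rfl hle
    · exact inf_eq_left.mp h
  have hEeq : altOn Δ₀ = E := by
    rcases Cfsg.Agent.Lib.Helper21.qs_eq_or_commutator_eq_bot hqs hAE hEA' with h | h
    · exact h
    · exfalso
      exact not_commutative_altOn h5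
        (fun a ha b hb => commute_of_commutator_eq_bot h (hAE ha) hb)
  -- the points of `U` lie in `Δ₀`
  have hsupp : U ⊆ Δ₀ := by
    intro y₀ hy₀
    obtain ⟨c, hcH, hc3, hyc⟩ := hU y₀ hy₀
    have hcN : c ∈ N := Subgroup.subset_closure ⟨hcH, hc3⟩
    by_contra hns
    have hdisj : ∀ y ∈ c.support, y ∉ Δ₀ := by
      intro y hy hyΔ
      exact hns (threeCycle_support_subset hc3 (hNΔ c hcN) hyΔ hy hyc)
    have hcfix : ∀ y ∈ Δ₀, c y = y := by
      intro y hy
      by_contra h
      exact hdisj y (Perm.mem_support.mpr h) hy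
    have hcE : c ∈ E := by
      apply hB c hcH
      intro e he
      have heA : e ∈ altOn Δ₀ := hEeq ▸ he
      have hefix := (mem_altOn_iff.mp heA).1
      ext y
      rw [Perm.mul_apply, Perm.mul_apply]
      by_cases hy : y ∈ Δ₀
      · rw [hcfix y hy, hcfix (e y) (hNΔ e (hEleN he) y hy)]
      · have h1 : c y ∉ Δ₀ := fun h => hy ((hNΔ' c hcN y).mp h)
        rw [hefix y hy, hefix (c y) h1]
    have hcA : c ∈ altOn Δ₀ := hEeq ▸ hcE
    have hcfix' := (mem_altOn_iff.mp hcA).1
    exact (Perm.mem_support.mp hyc) (hcfix' y₀ (hdisj y₀ hyc))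
  refine ⟨Δ₀, hEeq.symm, ?_⟩
  have := Finset.card_le_card hsupp
  omega

end Main

end Cfsg.Agent.Lib.Helper48
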