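import Cfsg.Prelude.Def_LocalStructure
import Cfsg.Agent.Lib.Helper46.Amalgam5
import Cfsg.Agent.Lib.Helper47.PClosed

/-!
helper48: the iterated closures `V_λ^{(n)}` on the coset graph of an amalgam with strongly `p`-embedded
residues.  Main result `vIter_key`: if `V = V_λ^{(n)} ≤ Q_λ` (`n ≥ 1`) then for a neighbour `μ` of `λ` and a
common Sylow `p`-subgroup `T` of `G_λ ∩ G_μ`, `[V, O^p(L_λ)]` is not contained in
`V_μ^{(n-1)} ⊔ [V, T]`.
-/

set_option autoImplicit false

namespace Cfsg.Agent.Lib.Helper48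

open Cfsg
open Cfsg.Agent.Lib.Helper46
open scoped commutatorElement

variable {X : Type*} [Group X]

/-! ### nilpotent absorption -/

/-- The chain `V, [V,T], [[V,T],T], …`. -/
def commChain (V T : Subgroup X) : ℕ → Subgroup X
  | 0 => V
  | (i + 1) => ⁅commChain V T i, T⁆

theorem commChain_normalized {V T : Subgroup X} (hTV : T ≤ Subgroup.normalizer (V : Set X)) (i : ℕ) :
    T ≤ Subgroup.normalizer (commChain V T i : Set X) := by
  induction i with
  | zero => exact hTV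
  | succ i ih =>
    show T ≤ Subgroup.normalizer ((⁅commChain V T i, T⁆ : Subgroup X) : Set X)
    refine le_trans ?_ (Cfsg.Agent.Lib.Helper47.normalizer_inf_normalizer_le_normalizer_commutator _ _)
    exact le_inf ih Subgroup.le_normalizer

theorem commChain_le_lcs {V T : Subgroup X} (hVT : V ≤ T) (i : ℕ) :
    commChain V T i ≤ T.lowerCentralSeries i := by
  induction i with
  | zero => exact hVT
  | succ i ih =>
    show ⁅commChain V T i, T⁆ ≤ ⁅T.lowerCentralSeries i, T⁆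
    exact Subgroup.commutator_mono ih le_rfl

/-- If `T` is nilpotent and normalizes `W, V ≤ T`, then `V ≤ W ⊔ [V, T]` forces `V ≤ W`. -/
theorem absorb_nilpotent {T V W : Subgroup X} [hT : Group.IsNilpotent ↥T]
    (hWT : W ≤ T) (hVT : V ≤ T)
    (hTW : T ≤ Subgroup.normalizer (W : Set X)) (hTV : T ≤ Subgroup.normalizer (V : Set X))
    (h : V ≤ W ⊔ ⁅V, T⁆) : V ≤ W := by
  have key : ∀ i : ℕ, V ≤ W ⊔ commChain V T i := by
    intro i
    induction i with
    | zero => exact le_sup_right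
    | succ i ih =>
      refine h.trans (sup_le le_sup_left ?_)
      rw [Subgroup.commutator_le]
      intro v hv t ht
      have hv' : v ∈ ((W ⊔ commChain V T i : Subgroup X) : Set X) := ih hv
      rw [Subgroup.coe_mul_of_left_le_normalizer_right W (commChain V T i)
        (hWT.trans (commChain_normalized hTV i))] at hv'
      obtain ⟨w, hw, z, hz, rfl⟩ := hv'
      rw [commutatorElement_mul_left_eq_conj_mul]
      apply Subgroup.mul_mem
      · apply (le_sup_right : commChain V T (i + 1) ≤ W ⊔ commChain V T (i + 1))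
        have h1 : ⁅z, t⁆ ∈ commChain V T (i + 1) := Subgroup.commutator_mem_commutator hz ht
        exact (Subgroup.mem_normalizer_iff.mp (commChain_normalized hTV (i + 1) (hWT hw)) _).mp h1
      · apply (le_sup_left : W ≤ W ⊔ commChain V T (i + 1))
        have h1 : t * w⁻¹ * t⁻¹ ∈ W :=
          (Subgroup.mem_normalizer_iff.mp (hTW ht) _).mp (W.inv_mem hw)
        have : ⁅w, t⁆ = w * (t * w⁻¹ * t⁻¹) := by rw [commutatorElement_def]; group
        rw [this]
        exact W.mul_mem hw h1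
  obtain ⟨n, hn⟩ := (Subgroup.isNilpotent_iff_lowerCentralSeries T).mp hT
  have h1 := commChain_le_lcs hVT n
  rw [hn] at h1
  have h2 := key n
  rw [le_bot_iff.mp h1, sup_bot_eq] at h2
  exact h2


/-! ### conjugation lemmas -/

theorem le_map_conj_of_map_conj_inv_le {A B : Subgroup X} {g : X}
    (h : A.map (MulAut.conj g⁻¹).toMonoidHom ≤ B) : A ≤ B.map (MulAut.conj g).toMonoidHom := by
  intro a ha
  refine ⟨g⁻¹ * a * g, ?_, ?_⟩
  · have : (MulAut.conj g⁻¹).toMonoidHom a ∈ B := h ⟨a, ha, rfl⟩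
    simpa using this
  · simp [mul_assoc]

/-- Conjugating `A ≤ W ⊓ V` by `g ∈ L` lands in `W ⊔ [V, L]`. -/
theorem map_conj_le_sup_commutator {A W V L : Subgroup X} (hAW : A ≤ W) (hAV : A ≤ V) {g : X}
    (hg : g ∈ L) : A.map (MulAut.conj g).toMonoidHom ≤ W ⊔ ⁅V, L⁆ := by
  rintro _ ⟨a, ha, rfl⟩
  have h1 : (MulAut.conj g).toMonoidHom a = ⁅g, a⁆ * a := by
    rw [commutatorElement_def]; simp
  rw [h1]
  apply Subgroup.mul_mem
  · apply (le_sup_right : ⁅V, L⁆ ≤ W ⊔ ⁅V, L⁆)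
    rw [Subgroup.commutator_comm]
    exact Subgroup.commutator_mem_commutator hg (hAV ha)
  · exact (le_sup_left : W ≤ W ⊔ ⁅V, L⁆) (hAW ha)

/-- If `L = K T` elementwise and `T` normalizes `V`, then `[V, L] ≤ [V, K] ⊔ [V, T]`. -/
theorem commutator_le_of_decomp {V T K L : Subgroup X}
    (hdec : ∀ l ∈ L, ∃ k ∈ K, ∃ t ∈ T, l = k * t)
    (hTV : T ≤ Subgroup.normalizer (V : Set X)) : ⁅V, L⁆ ≤ ⁅V, K⁆ ⊔ ⁅V, T⁆ := by
  rw [Subgroup.commutator_le]
  intro v hv l hl
  obtain ⟨k, hk, t, ht, rfl⟩ := hdec l hl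
  have hcV : ⁅v, t⁆ ∈ V := by
    have h1 : t * v⁻¹ * t⁻¹ ∈ V := (Subgroup.mem_normalizer_iff.mp (hTV ht) _).mp (V.inv_mem hv)
    have : ⁅v, t⁆ = v * (t * v⁻¹ * t⁻¹) := by rw [commutatorElement_def]; group
    rw [this]
    exact V.mul_mem hv h1
  have hcT : ⁅v, t⁆ ∈ ⁅V, T⁆ := Subgroup.commutator_mem_commutator hv ht
  have e : ⁅v, k * t⁆ = ⁅v, k⁆ * (⁅k, ⁅v, t⁆⁆ * ⁅v, t⁆) := by
    rw [commutatorElement_mul_right_eq_mul_conj]
    simp only [commutatorElement_def]
    group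
  rw [e]
  apply Subgroup.mul_mem
  · exact (le_sup_left : ⁅V, K⁆ ≤ ⁅V, K⁆ ⊔ ⁅V, T⁆) (Subgroup.commutator_mem_commutator hv hk)
  · apply Subgroup.mul_mem
    · apply (le_sup_left : ⁅V, K⁆ ≤ ⁅V, K⁆ ⊔ ⁅V, T⁆)
      rw [Subgroup.commutator_comm]
      exact Subgroup.commutator_mem_commutator hk hcV
    · exact (le_sup_right : ⁅V, T⁆ ≤ ⁅V, K⁆ ⊔ ⁅V, T⁆) hcT

/-- `L = O^p(L) T` elementwise for a Sylow `p`-subgroup `T` of the finite subgroup `L`. -/
theorem exists_pResidual_mul_sylow {p : ℕ} [Fact p.Prime] {L T : Subgroup X} [Finite ↥L]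
    (hT : IsSylIn p T L) {l : X} (hl : l ∈ L) :
    ∃ k ∈ (pResidual p ↥L).map L.subtype, ∃ t ∈ T, l = k * t := by
  obtain ⟨S, rfl⟩ := hT
  have hn : (pResidual p ↥L).Normal := Cfsg.Agent.Lib.Helper47.pResidual_normal p ↥L
  have h1 : pResidual p ↥L ⊔ (S : Subgroup ↥L) = ⊤ := Cfsg.Agent.Lib.Helper47.pResidual_sup_sylow S
  have h2 : (⟨l, hl⟩ : ↥L) ∈ ((pResidual p ↥L ⊔ (S : Subgroup ↥L) : Subgroup ↥L) : Set ↥L) := by
    rw [h1]; exact Subgroup.mem_top _
  rw [Subgroup.normal_mul] at h2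
  obtain ⟨k, hk, s, hs, hks⟩ := h2
  refine ⟨(k : X), ⟨k, hk, rfl⟩, (s : X), ⟨s, hs, rfl⟩, ?_⟩
  have := congrArg Subtype.val hks
  simpa using this.symm

theorem omegaZ_map_ge {p : ℕ} (T : Subgroup X) (φ : X ≃* X) :
    omegaZ p (T.map φ.toMonoidHom) ≤ (omegaZ p T).map φ.toMonoidHom := by
  have h1 := omegaZ_map_le (p := p) (T.map φ.toMonoidHom) φ.symm
  rw [map_symm_map] at h1
  intro x hx
  refine ⟨φ.symm x, h1 ⟨x, hx, rfl⟩, ?_⟩
  simp

theorem sylowCenterClosure_map_le {p : ℕ} (H : Subgroup X) (φ : X ≃* X) :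
    (sylowCenterClosure p H).map φ.toMonoidHom ≤ sylowCenterClosure p (H.map φ.toMonoidHom) := by
  rw [Subgroup.map_le_iff_le_comap, sylowCenterClosure_le_iff]
  intro T hT
  rw [← Subgroup.map_le_iff_le_comap]
  exact (omegaZ_map_le T φ).trans (omegaZ_le_sylowCenterClosure (hT.map φ))

/-! ### the coset graph: distances and the `Z_μ` under the action -/

variable {M₁ M₂ : Subgroup X} {p : ℕ}

theorem vertexZ_smul_le (g : X) (ν : CosetVertex M₁ M₂) :
    (vertexZ p ν).map (MulAut.conj g).toMonoidHom ≤ vertexZ p (g • ν) := by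
  show (sylowCenterClosure p (MulAction.stabilizer X ν)).map (MulAut.conj g).toMonoidHom ≤
    sylowCenterClosure p (MulAction.stabilizer X (g • ν))
  rw [MulAction.stabilizer_smul_eq_stabilizer_map_conj]
  exact sylowCenterClosure_map_le _ _

theorem vertexZ_le_map_conj (g : X) (ν : CosetVertex M₁ M₂) :
    vertexZ p ν ≤ (vertexZ p (g⁻¹ • ν)).map (MulAut.conj g).toMonoidHom :=
  le_map_conj_of_map_conj_inv_le (vertexZ_smul_le g⁻¹ ν)

theorem cg_dist_smul_le (hconn : (cosetGraph M₁ M₂).Connected) (g : X) (a b : CosetVertex M₁ M₂) :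
    (cosetGraph M₁ M₂).dist (g • a) (g • b) ≤ (cosetGraph M₁ M₂).dist a b := by
  obtain ⟨w, hw⟩ := hconn.exists_walk_length_eq_dist a b
  let f : cosetGraph M₁ M₂ →g cosetGraph M₁ M₂ := ⟨fun v => g • v, fun h => cg_adj_smul g h⟩
  have h1 := SimpleGraph.dist_le (w.map f)
  rw [SimpleGraph.Walk.length_map, hw] at h1
  exact h1

theorem vertexZ_le_vIter {n : ℕ} {lam ν : CosetVertex M₁ M₂}
    (h : (cosetGraph M₁ M₂).dist lam ν ≤ n) : vertexZ p ν ≤ vertexVIter p M₁ M₂ n lam := by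
  unfold vertexVIter
  exact le_iSup (fun μ : {μ : CosetVertex M₁ M₂ // (cosetGraph M₁ M₂).dist lam μ ≤ n} =>
    vertexZ p (μ : CosetVertex M₁ M₂)) ⟨ν, h⟩

theorem vIter_le_iff {n : ℕ} {lam : CosetVertex M₁ M₂} {K : Subgroup X} :
    vertexVIter p M₁ M₂ n lam ≤ K ↔
      ∀ ν, (cosetGraph M₁ M₂).dist lam ν ≤ n → vertexZ p ν ≤ K := by
  constructor
  · intro h ν hν
    exact (vertexZ_le_vIter hν).trans h
  · intro h
    unfold vertexVIter
    apply iSup_le
    rintro ⟨ν, hν⟩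
    exact h ν hν

theorem vIter_normalized (hconn : (cosetGraph M₁ M₂).Connected) (n : ℕ) (lam : CosetVertex M₁ M₂) :
    MulAction.stabilizer X lam ≤ Subgroup.normalizer (vertexVIter p M₁ M₂ n lam : Set X) := by
  apply le_normalizer_of_map_conj_le
  intro g hg
  rw [Subgroup.map_le_iff_le_comap, vIter_le_iff]
  intro ν hν
  rw [← Subgroup.map_le_iff_le_comap]
  refine (vertexZ_smul_le g ν).trans (vertexZ_le_vIter ?_)
  have h1 := cg_dist_smul_le hconn g lam ν
  rw [MulAction.mem_stabilizer_iff.mp hg] at h1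
  exact h1.trans hν

theorem cg_exists_adj (lam : CosetVertex M₁ M₂) : ∃ μ, (cosetGraph M₁ M₂).Adj lam μ := by
  rcases cg_vertex_cases lam with ⟨x, rfl⟩ | ⟨x, rfl⟩
  · exact ⟨_, cg_adj_inl_inr x⟩
  · exact ⟨_, cg_adj_inr_inl x⟩


/-! ### the key theorem -/

section spe

variable [Fact p.Prime] (h : IsSpeAmalgamPair p M₁ M₂)
include h

omit [Fact p.Prime] in
theorem vertex_card_dvd (δ : CosetVertex M₁ M₂) : p ∣ Nat.card (MulAction.stabilizer X δ) := by
  refine cg_vertex_prop (fun H => p ∣ Nat.card H) ?_ h.1.2.2.2.1 h.1.2.2.2.2.1 δ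
  intro H x hH
  rw [← Nat.card_congr (Subgroup.equivMapOfInjective H _ (MulAut.conj x).injective).toEquiv]
  exact hH

/-- A Sylow `p`-subgroup of a vertex stabilizer has nontrivial `Ω₁(Z(T))`. -/
theorem omegaZ_ne_bot {δ : CosetVertex M₁ M₂} {T : Subgroup X}
    (hT : IsSylIn p T (MulAction.stabilizer X δ)) : omegaZ p T ≠ ⊥ := by
  intro hbot
  have hfin := vertex_finite h.1 δ
  have hTfin : Finite ↥T :=
    Finite.of_injective (Subgroup.inclusion hT.le) (Subgroup.inclusion_injective hT.le)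
  have hz : zOf T = ⊥ :=
    eq_bot_of_omegaOne_eq_bot (hT.isPGroup.to_le (inf_le_left : zOf T ≤ T)) hbot
  have hc : Subgroup.center ↥T = ⊥ := center_eq_bot_of_zOf_eq_bot hz
  have hcard : Nat.card T = p ^ (Nat.card (MulAction.stabilizer X δ)).factorization p := hT.card
  have hp : p.Prime := Fact.out
  have hpos : 0 < (Nat.card (MulAction.stabilizer X δ)).factorization p :=
    hp.factorization_pos_of_dvd Nat.card_pos.ne' (vertex_card_dvd h δ)
  have h1 : 1 < Nat.card T := by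
    rw [hcard]
    exact Nat.one_lt_pow hpos.ne' hp.one_lt
  have hnt : Nontrivial ↥T := Finite.one_lt_card_iff_nontrivial.mp h1
  have := IsPGroup.center_nontrivial (hT.isPGroup)
  rw [hc] at this
  exact not_nontrivial _ this

/-- **Key theorem**: for `n ≥ 1` with `V = V_λ^{(n)} ≤ Q_λ`, a neighbour `μ` of `λ` and a Sylow
`p`-subgroup `T` of `G_λ ∩ G_μ`, the commutator `[V, O^p(L_λ)]` is not contained in
`V_μ^{(n-1)} ⊔ [V, T]`. -/
theorem vIter_key (lam μ : CosetVertex M₁ M₂) (hadj : (cosetGraph M₁ M₂).Adj lam μ)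
    (T : Subgroup X) (hT : IsSylIn p T (edgeStabilizer lam μ)) (n : ℕ) (hn : 1 ≤ n)
    (hVQ : vertexVIter p M₁ M₂ n lam ≤ vertexQ p lam) :
    ¬ ⁅vertexVIter p M₁ M₂ n lam,
        (pResidual p ↥(pElementClosure p (MulAction.stabilizer X lam))).map
          (pElementClosure p (MulAction.stabilizer X lam)).subtype⁆ ≤
      vertexVIter p M₁ M₂ (n - 1) μ ⊔ ⁅vertexVIter p M₁ M₂ n lam, T⁆ := by
  intro hcon
  have hconn := cg_connected_of_charp h.1
  have hfin := vertex_finite h.1 lam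
  obtain ⟨hTl, hTm⟩ := edge_syl h.1 hadj T hT
  set V := vertexVIter p M₁ M₂ n lam with hV
  set W := vertexVIter p M₁ M₂ (n - 1) μ with hW
  set L := pElementClosure p (MulAction.stabilizer X lam) with hL
  have hLle : L ≤ MulAction.stabilizer X lam := pElementClosure_le _
  have hLfin : Finite ↥L :=
    Finite.of_injective (Subgroup.inclusion hLle) (Subgroup.inclusion_injective hLle)
  have hTfin : Finite ↥T :=
    Finite.of_injective (Subgroup.inclusion hTl.le) (Subgroup.inclusion_injective hTl.le)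
  have hTL : T ≤ L := le_pElementClosure_of_isPGroup hTl.isPGroup hTl.le
  have hTsylL : IsSylIn p T L := isSylIn_of_le hTl hTL hLle
  have hd1 : (cosetGraph M₁ M₂).dist lam μ = 1 := SimpleGraph.dist_eq_one_iff_adj.mpr hadj
  -- normalizations
  have hGV : MulAction.stabilizer X lam ≤ Subgroup.normalizer (V : Set X) :=
    vIter_normalized hconn n lam
  have hGW : MulAction.stabilizer X μ ≤ Subgroup.normalizer (W : Set X) :=
    vIter_normalized hconn (n - 1) μ
  have hTV : T ≤ Subgroup.normalizer (V : Set X) := hTl.le.trans hGV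
  have hTW : T ≤ Subgroup.normalizer (W : Set X) := hTm.le.trans hGW
  have hVT : V ≤ T := hVQ.trans (pCoreOf_le_of_isSylIn hTl)
  -- W ≤ V
  have hWV : W ≤ V := by
    rw [hW, vIter_le_iff]
    intro ν hν
    apply vertexZ_le_vIter
    have := hconn.dist_triangle (u := lam) (v := μ) (w := ν)
    omega
  -- Ω₁Z(T) ≤ W ⊓ V
  have hoW : omegaZ p T ≤ W :=
    (omegaZ_le_sylowCenterClosure hTm).trans
      (vertexZ_le_vIter (by rw [SimpleGraph.dist_self]; exact Nat.zero_le _))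
  have hoV : omegaZ p T ≤ V :=
    (omegaZ_le_sylowCenterClosure hTl).trans
      (vertexZ_le_vIter (by rw [SimpleGraph.dist_self]; exact Nat.zero_le _))
  -- V ≤ W ⊔ [V, L]
  have hVWL : V ≤ W ⊔ ⁅V, L⁆ := by
    rw [hV, vIter_le_iff]
    intro ν hν
    rcases Nat.eq_zero_or_pos ((cosetGraph M₁ M₂).dist lam ν) with h0 | hpos
    · have hνl : lam = ν := hconn.dist_eq_zero_iff.mp h0
      subst hνl
      show sylowCenterClosure p (MulAction.stabilizer X lam) ≤ W ⊔ ⁅V, L⁆
      rw [sylowCenterClosure_le_iff]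
      intro T' hT'
      have hT'L : T' ≤ L := le_pElementClosure_of_isPGroup hT'.isPGroup hT'.le
      have hT'sylL : IsSylIn p T' L := isSylIn_of_le hT' hT'L hLle
      obtain ⟨g, hg, rfl⟩ := isSylIn_conj hTsylL hT'sylL
      exact (omegaZ_map_ge T _).trans (map_conj_le_sup_commutator hoW hoV hg)
    · obtain ⟨m, hm⟩ : ∃ m, (cosetGraph M₁ M₂).dist lam ν = m + 1 :=
        ⟨_, (Nat.succ_pred_eq_of_pos hpos).symm⟩
      obtain ⟨ν₁, hadj₁, hd⟩ := exists_adj_dist_eq hconn hm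
      obtain ⟨g, hg, hgμ⟩ := pElementClosure_trans_nbrs h hadj μ ν₁ hadj hadj₁
      have hgl : g⁻¹ • lam = lam :=
        MulAction.mem_stabilizer_iff.mp (Subgroup.inv_mem _ (hLle hg))
      have hgm : g⁻¹ • ν₁ = μ := by rw [← hgμ, inv_smul_smul]
      have h1 : (cosetGraph M₁ M₂).dist μ (g⁻¹ • ν) ≤ n - 1 := by
        have := cg_dist_smul_le hconn g⁻¹ ν₁ ν
        rw [hgm] at this
        omega
      have h2 : (cosetGraph M₁ M₂).dist lam (g⁻¹ • ν) ≤ n := by
        have := cg_dist_smul_le hconn g⁻¹ lam ν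
        rw [hgl] at this
        omega
      exact (vertexZ_le_map_conj g ν).trans
        (map_conj_le_sup_commutator (vertexZ_le_vIter h1) (vertexZ_le_vIter h2) hg)
  -- [V, L] ≤ [V, K] ⊔ [V, T]
  have hcomm : ⁅V, L⁆ ≤ ⁅V, (pResidual p ↥L).map L.subtype⁆ ⊔ ⁅V, T⁆ :=
    commutator_le_of_decomp (fun l hl => exists_pResidual_mul_sylow hTsylL hl) hTV
  -- V ≤ W ⊔ [V, T]
  have hVWT : V ≤ W ⊔ ⁅V, T⁆ := by
    refine hVWL.trans (sup_le le_sup_left (hcomm.trans (sup_le hcon le_sup_right)))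
  -- absorption
  have hnil : Group.IsNilpotent ↥T := hTl.isPGroup.isNilpotent
  have hVW : V ≤ W := absorb_nilpotent (hWV.trans hVT) hVT hTW hTV hVWT
  have hVeqW : V = W := le_antisymm hVW hWV
  -- V is normal in both vertex groups, hence trivial
  have hVbot : V = ⊥ := by
    refine spe_no_common_normal h lam μ hadj T hT V hVT ((pElementClosure_le _).trans hGV) ?_
    rw [hVeqW]
    exact (pElementClosure_le _).trans hGW
  exact omegaZ_ne_bot h hTl (le_bot_iff.mp (hVbot ▸ hoV))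

end spe

end Cfsg.Agent.Lib.Helper48
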