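import Mathlib

set_option autoImplicit false

/-!
# BG Appendix C: the hexagon relations and the triangle identity (pure group theory)

`Q` is an abelian subgroup, `y ∈ Q`, all `s`-conjugates of `y` lie in `Q`, `t = y s y⁻¹`.
* `appC_hex`: `t^i s^(-(i+j)) t^j = s^(-j) t^(i+j) s^(-i)`;
* `appC_triangle`: from `s² a s⁻¹ = u s v` deduce
  `t⁻² (s⁻¹ (t³ a t⁻³) s²) t = (s⁻³ (t u t⁻¹) s²) t⁻¹ (s⁻¹ (t² v t⁻²) s³)`.
-/

namespace Cfsg.Agent.Lib.Helper48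

/-- Hexagon relation in `⟨s, y s y⁻¹⟩` when the `s`-conjugates of `y` commute. -/
theorem appC_hex {G : Type*} [Group G] (s y : G)
    (hcomm : ∀ k l : ℤ, Commute (s ^ k * y * s ^ (-k)) (s ^ l * y * s ^ (-l))) (i j : ℤ) :
    (y * s * y⁻¹) ^ i * s ^ (-(i + j)) * (y * s * y⁻¹) ^ j
      = s ^ (-j) * (y * s * y⁻¹) ^ (i + j) * s ^ (-i) := by
  have ht : ∀ k : ℤ, (y * s * y⁻¹) ^ k = y * s ^ k * y⁻¹ := fun k => conj_zpow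
  rw [ht, ht, ht]
  set A := s ^ i * y * s ^ (-i) with hA
  set B := s ^ (-j) * y * s ^ (-(-j)) with hB
  have hy0 : y = s ^ (0 : ℤ) * y * s ^ (-(0 : ℤ)) := by simp
  have hyA : Commute y A := by
    have := hcomm 0 i
    rwa [← hy0] at this
  have hyB : Commute y B := by
    have := hcomm 0 (-j)
    rwa [← hy0] at this
  have hAB : Commute A B := hcomm i (-j)
  have e1 : y * s ^ i * y⁻¹ * s ^ (-(i + j)) * (y * s ^ j * y⁻¹) = y * A⁻¹ * B * y⁻¹ := by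
    rw [hA, hB]; group
  have e2 : s ^ (-j) * (y * s ^ (i + j) * y⁻¹) * s ^ (-i) = B * A⁻¹ := by
    rw [hA, hB]; group
  rw [e1, e2]
  have h1 : y * A⁻¹ = A⁻¹ * y := (hyA.inv_right).eq
  have h2 : y * B = B * y := hyB.eq
  have h3 : A⁻¹ * B = B * A⁻¹ := (hAB.inv_left).eq
  calc y * A⁻¹ * B * y⁻¹ = A⁻¹ * y * B * y⁻¹ := by rw [h1]
    _ = A⁻¹ * (y * B) * y⁻¹ := by group
    _ = A⁻¹ * (B * y) * y⁻¹ := by rw [h2]
    _ = A⁻¹ * B := by group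
    _ = B * A⁻¹ := h3

/-- The triangle identity of BG Appendix C (Step 4 of Lemma C.3), left-conjugation form. -/
theorem appC_triangle {G : Type*} [Group G] (s y : G)
    (hcomm : ∀ k l : ℤ, Commute (s ^ k * y * s ^ (-k)) (s ^ l * y * s ^ (-l)))
    (a u v : G) (hE : s ^ 2 * a * s⁻¹ = u * s * v) :
    (y * s * y⁻¹) ^ (-2 : ℤ) * (s⁻¹ * ((y * s * y⁻¹) ^ 3 * a * (y * s * y⁻¹) ^ (-3 : ℤ)) * s ^ 2)
        * (y * s * y⁻¹)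
      = (s ^ (-3 : ℤ) * ((y * s * y⁻¹) * u * (y * s * y⁻¹)⁻¹) * s ^ 2) * (y * s * y⁻¹)⁻¹
        * (s⁻¹ * ((y * s * y⁻¹) ^ 2 * v * (y * s * y⁻¹) ^ (-2 : ℤ)) * s ^ 3) := by
  set t := y * s * y⁻¹ with ht
  have e1 : t⁻¹ * s ^ 2 * t⁻¹ = s * t ^ (-2 : ℤ) * s := by
    have := appC_hex s y hcomm (-1) (-1)
    rw [← ht] at this
    simpa using this
  have e2 : s ^ (-3 : ℤ) * t * s ^ 2 = t ^ (-2 : ℤ) * s⁻¹ * t ^ 3 := by
    have := appC_hex s y hcomm (-2) 3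
    rw [← ht] at this
    have h := this.symm
    norm_num at h
    rw [← zpow_natCast t 3, ← zpow_natCast s 2]
    simpa using h
  have e3 : s⁻¹ * t ^ (-2 : ℤ) * s ^ 3 = t ^ (-3 : ℤ) * s ^ 2 * t := by
    have := appC_hex s y hcomm (-3) 1
    rw [← ht] at this
    have h := this.symm
    norm_num at h
    rw [← zpow_natCast s 3, ← zpow_natCast s 2]
    simpa using h
  symm
  calc (s ^ (-3 : ℤ) * (t * u * t⁻¹) * s ^ 2) * t⁻¹ * (s⁻¹ * (t ^ 2 * v * t ^ (-2 : ℤ)) * s ^ 3)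
      = s ^ (-3 : ℤ) * t * u * (t⁻¹ * s ^ 2 * t⁻¹) * s⁻¹ * t ^ 2 * v * t ^ (-2 : ℤ) * s ^ 3 := by
        group
    _ = s ^ (-3 : ℤ) * t * u * (s * t ^ (-2 : ℤ) * s) * s⁻¹ * t ^ 2 * v * t ^ (-2 : ℤ) * s ^ 3 := by
        rw [e1]
    _ = s ^ (-3 : ℤ) * t * (u * s * v) * t ^ (-2 : ℤ) * s ^ 3 := by group
    _ = s ^ (-3 : ℤ) * t * (s ^ 2 * a * s⁻¹) * t ^ (-2 : ℤ) * s ^ 3 := by rw [hE]
    _ = (s ^ (-3 : ℤ) * t * s ^ 2) * a * (s⁻¹ * t ^ (-2 : ℤ) * s ^ 3) := by group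
    _ = (t ^ (-2 : ℤ) * s⁻¹ * t ^ 3) * a * (t ^ (-3 : ℤ) * s ^ 2 * t) := by rw [e2, e3]
    _ = t ^ (-2 : ℤ) * (s⁻¹ * (t ^ 3 * a * t ^ (-3 : ℤ)) * s ^ 2) * t := by group

end Cfsg.Agent.Lib.Helper48
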