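/-
helper48 shared library: sign sums on groups with centre of order two (extraspecial `2`-groups).

For a group `E` with `|Z(E)| = 2` and `E' = Z(E)`:
* `eps c` : the sign (`1` or `-1`) of a central element `c`; multiplicative (`eps_mul`);
* `sum_eps_hom` : orthogonality — the sum of `eps ∘ f` over a finite group vanishes for a nontrivial
  homomorphism `f` into the centre, and is the group order for the trivial one;
* `commHomC hc x` : the homomorphism `y ↦ [x, y] = x y x⁻¹ y⁻¹` into the centre;
* `card_centralizer_mul_card` : `|C_E(A)| · |A| = |E| · |A ∩ Z(E)|` for every subgroup `A`.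
-/
import Mathlib

set_option autoImplicit false

namespace Cfsg.Agent.Lib.Helper48

variable {E : Type*} [Group E]

/-- The sign of a central element: `1` for the identity, `-1` otherwise. -/
noncomputable def eps (c : Subgroup.center E) : ℤ := by
  classical exact if c = 1 then 1 else -1

theorem eps_one : eps (1 : Subgroup.center E) = 1 := by
  unfold eps; simp

theorem eps_of_ne {c : Subgroup.center E} (h : c ≠ 1) : eps c = -1 := by
  unfold eps; simp [h]

theorem eps_eq_one_or (c : Subgroup.center E) : eps c = 1 ∨ eps c = -1 := by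
  by_cases h : c = 1
  · left; rw [h, eps_one]
  · right; exact eps_of_ne h

theorem center_mul_self (hZ2 : Nat.card (Subgroup.center E) = 2) (c : Subgroup.center E) :
    c * c = 1 := by
  have : Finite (Subgroup.center E) := Nat.finite_of_card_ne_zero (by rw [hZ2]; norm_num)
  have := pow_card_eq_one' (G := Subgroup.center E) (x := c)
  rwa [hZ2, sq] at this

theorem center_eq_of_ne_one (hZ2 : Nat.card (Subgroup.center E) = 2) {c c' : Subgroup.center E}
    (h : c ≠ 1) (h' : c' ≠ 1) : c = c' := by
  obtain ⟨y, -, hy⟩ := (Nat.card_eq_two_iff' (1 : Subgroup.center E)).mp hZ2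
  rw [hy c h, hy c' h']

theorem eps_mul (hZ2 : Nat.card (Subgroup.center E) = 2) (c c' : Subgroup.center E) :
    eps (c * c') = eps c * eps c' := by
  by_cases h : c = 1
  · rw [h, one_mul, eps_one, one_mul]
  · by_cases h' : c' = 1
    · rw [h', mul_one, eps_one, mul_one]
    · have e := center_eq_of_ne_one hZ2 h h'
      rw [eps_of_ne h, eps_of_ne h', ← e, center_mul_self hZ2 c, eps_one]
      norm_num

theorem eps_inv (hZ2 : Nat.card (Subgroup.center E) = 2) (c : Subgroup.center E) :
    eps c⁻¹ = eps c := by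
  have : c⁻¹ = c := inv_eq_of_mul_eq_one_left (center_mul_self hZ2 c)
  rw [this]

/-- Orthogonality for sign sums: the trivial case. -/
theorem sum_eps_hom_of_trivial {B : Type*} [Group B] [Fintype B] (f : B →* Subgroup.center E)
    (h : ∀ b, f b = 1) : ∑ b : B, eps (f b) = (Fintype.card B : ℤ) := by
  have : ∀ b : B, eps (f b) = 1 := fun b => by rw [h b, eps_one]
  rw [Finset.sum_congr rfl (fun b _ => this b)]
  simp

/-- Orthogonality for sign sums: the nontrivial case. -/
theorem sum_eps_hom_of_nontrivial {B : Type*} [Group B] [Fintype B]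
    (hZ2 : Nat.card (Subgroup.center E) = 2) (f : B →* Subgroup.center E)
    (h : ∃ b, f b ≠ 1) : ∑ b : B, eps (f b) = 0 := by
  obtain ⟨b₀, hb₀⟩ := h
  have h1 : ∑ b : B, eps (f b) = ∑ b : B, eps (f (b₀ * b)) :=
    (Fintype.sum_equiv (Equiv.mulLeft b₀) _ _ (fun b => rfl)).symm
  have h2 : ∑ b : B, eps (f (b₀ * b)) = - ∑ b : B, eps (f b) := by
    rw [← Finset.sum_neg_distrib]
    apply Finset.sum_congr rfl
    intro b _
    rw [map_mul, eps_mul hZ2, eps_of_ne hb₀]
    ring
  rw [h2] at h1
  linarith

/-- The commutator map `y ↦ x y x⁻¹ y⁻¹` into the centre, for `E' = Z(E)`. -/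
noncomputable def commHomC (hc : commutator E = Subgroup.center E) (x : E) :
    E →* Subgroup.center E where
  toFun y := ⟨x * y * x⁻¹ * y⁻¹, by
    rw [← hc, commutator_def, ← commutatorElement_def]
    exact Subgroup.commutator_mem_commutator (Subgroup.mem_top x) (Subgroup.mem_top y)⟩
  map_one' := by
    apply Subtype.ext
    simp
  map_mul' := by
    intro y₁ y₂
    apply Subtype.ext
    have hc2 : x * y₂ * x⁻¹ * y₂⁻¹ ∈ Subgroup.center E := by
      rw [← hc, commutator_def, ← commutatorElement_def]
      exact Subgroup.commutator_mem_commutator (Subgroup.mem_top x) (Subgroup.mem_top y₂)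
    have h := Subgroup.mem_center_iff.mp hc2 y₁⁻¹
    show x * (y₁ * y₂) * x⁻¹ * (y₁ * y₂)⁻¹ = (x * y₁ * x⁻¹ * y₁⁻¹) * (x * y₂ * x⁻¹ * y₂⁻¹)
    calc x * (y₁ * y₂) * x⁻¹ * (y₁ * y₂)⁻¹
        = x * y₁ * x⁻¹ * ((x * y₂ * x⁻¹ * y₂⁻¹) * y₁⁻¹) := by group
      _ = x * y₁ * x⁻¹ * (y₁⁻¹ * (x * y₂ * x⁻¹ * y₂⁻¹)) := by rw [h]
      _ = (x * y₁ * x⁻¹ * y₁⁻¹) * (x * y₂ * x⁻¹ * y₂⁻¹) := by group

theorem commHomC_apply (hc : commutator E = Subgroup.center E) (x y : E) :
    ((commHomC hc x y : Subgroup.center E) : E) = x * y * x⁻¹ * y⁻¹ := rfl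

theorem commHomC_eq_one_iff (hc : commutator E = Subgroup.center E) (x y : E) :
    commHomC hc x y = 1 ↔ x * y = y * x := by
  constructor
  · intro h
    have h1 : x * y * x⁻¹ * y⁻¹ = 1 := by
      have := congrArg Subtype.val h
      simpa [commHomC_apply] using this
    calc x * y = (x * y * x⁻¹ * y⁻¹) * (y * x) := by group
      _ = y * x := by rw [h1, one_mul]
  · intro h
    apply Subtype.ext
    show x * y * x⁻¹ * y⁻¹ = 1
    calc x * y * x⁻¹ * y⁻¹ = (x * y) * (y * x)⁻¹ := by group
      _ = 1 := by rw [h]; group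

theorem commHomC_swap (hc : commutator E = Subgroup.center E) (x y : E) :
    commHomC hc x y = (commHomC hc y x)⁻¹ := by
  apply Subtype.ext
  show x * y * x⁻¹ * y⁻¹ = (y * x * y⁻¹ * x⁻¹)⁻¹
  group

theorem forall_commHomC_eq_one_iff (hc : commutator E = Subgroup.center E) (A : Subgroup E) (t : E) :
    (∀ b : A, commHomC hc t (b : E) = 1) ↔ t ∈ Subgroup.centralizer (A : Set E) := by
  rw [Subgroup.mem_centralizer_iff]
  constructor
  · intro h a ha
    exact ((commHomC_eq_one_iff hc t a).mp (h ⟨a, ha⟩)).symm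
  · intro h b
    exact (commHomC_eq_one_iff hc t b).mpr (h b b.2).symm

/-- Sign sum of `a ↦ [t, a]` over a subgroup `A`, for `t` centralizing `A`. -/
theorem sum_eps_commHomC_of_mem (hc : commutator E = Subgroup.center E) (A : Subgroup E)
    [Fintype A] {t : E} (ht : t ∈ Subgroup.centralizer (A : Set E)) :
    ∑ a : A, eps (commHomC hc t (a : E)) = (Fintype.card A : ℤ) :=
  sum_eps_hom_of_trivial ((commHomC hc t).comp A.subtype)
    ((forall_commHomC_eq_one_iff hc A t).mpr ht)

/-- Sign sum of `a ↦ [t, a]` over a subgroup `A`, for `t` not centralizing `A`. -/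
theorem sum_eps_commHomC_of_not_mem (hc : commutator E = Subgroup.center E)
    (hZ2 : Nat.card (Subgroup.center E) = 2) (A : Subgroup E)
    [Fintype A] {t : E} (ht : t ∉ Subgroup.centralizer (A : Set E)) :
    ∑ a : A, eps (commHomC hc t (a : E)) = 0 := by
  apply sum_eps_hom_of_nontrivial hZ2 ((commHomC hc t).comp A.subtype)
  by_contra hcon
  push Not at hcon
  exact ht ((forall_commHomC_eq_one_iff hc A t).mp hcon)

/-- `|C_E(A)| · |A| = |E| · |A ∩ Z(E)|` for a subgroup `A` of a finite group `E` with `E' = Z(E)`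
of order two. -/
theorem card_centralizer_mul_card [Finite E] (hc : commutator E = Subgroup.center E)
    (hZ2 : Nat.card (Subgroup.center E) = 2) (A : Subgroup E) :
    Nat.card (Subgroup.centralizer (A : Set E)) * Nat.card A =
      Nat.card E * Nat.card (A ⊓ Subgroup.center E : Subgroup E) := by
  classical
  have : Fintype E := Fintype.ofFinite E
  have : Fintype A := Fintype.ofFinite A
  -- the double sum, two ways
  have hcomm : ∑ t : E, ∑ a : A, eps (commHomC hc t (a : E)) =
      ∑ a : A, ∑ t : E, eps (commHomC hc t (a : E)) := Finset.sum_comm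
  -- inner sum over `a`
  have h1 : ∀ t : E, ∑ a : A, eps (commHomC hc t (a : E)) =
      if t ∈ Subgroup.centralizer (A : Set E) then (Fintype.card A : ℤ) else 0 := by
    intro t
    have hiff : (∀ b : A, commHomC hc t (b : E) = 1) ↔ t ∈ Subgroup.centralizer (A : Set E) := by
      rw [Subgroup.mem_centralizer_iff]
      constructor
      · intro h a ha
        exact ((commHomC_eq_one_iff hc t a).mp (h ⟨a, ha⟩)).symm
      · intro h b
        exact (commHomC_eq_one_iff hc t b).mpr (h b b.2).symm
    by_cases ht : t ∈ Subgroup.centralizer (A : Set E)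
    · rw [if_pos ht]
      exact sum_eps_hom_of_trivial ((commHomC hc t).comp A.subtype) (hiff.mpr ht)
    · rw [if_neg ht]
      apply sum_eps_hom_of_nontrivial hZ2 ((commHomC hc t).comp A.subtype)
      by_contra hcon
      push Not at hcon
      exact ht (hiff.mp hcon)
  -- inner sum over `t`
  have h2 : ∀ a : A, ∑ t : E, eps (commHomC hc t (a : E)) =
      if (a : E) ∈ Subgroup.center E then (Fintype.card E : ℤ) else 0 := by
    intro a
    have e : ∀ t : E, eps (commHomC hc t (a : E)) = eps (commHomC hc (a : E) t) := by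
      intro t
      rw [commHomC_swap, eps_inv hZ2]
    rw [Finset.sum_congr rfl (fun t _ => e t)]
    have hiff : (∀ b : E, commHomC hc (a : E) b = 1) ↔ (a : E) ∈ Subgroup.center E := by
      rw [Subgroup.mem_center_iff]
      constructor
      · intro h g
        exact ((commHomC_eq_one_iff hc _ g).mp (h g)).symm
      · intro h b
        exact (commHomC_eq_one_iff hc _ b).mpr (h b).symm
    by_cases ha : (a : E) ∈ Subgroup.center E
    · rw [if_pos ha]
      exact sum_eps_hom_of_trivial (commHomC hc (a : E)) (hiff.mpr ha)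
    · rw [if_neg ha]
      apply sum_eps_hom_of_nontrivial hZ2 (commHomC hc (a : E))
      by_contra hcon
      push Not at hcon
      exact ha (hiff.mp hcon)
  rw [Finset.sum_congr rfl (fun t _ => h1 t), Finset.sum_congr rfl (fun a _ => h2 a)] at hcomm
  rw [Finset.sum_ite, Finset.sum_ite, Finset.sum_const_zero, Finset.sum_const_zero, add_zero,
    add_zero, Finset.sum_const, Finset.sum_const, nsmul_eq_mul, nsmul_eq_mul] at hcomm
  have hL : (Finset.univ.filter (fun t : E => t ∈ Subgroup.centralizer (A : Set E))).card =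
      Nat.card (Subgroup.centralizer (A : Set E)) := by
    rw [Nat.card_eq_fintype_card, ← Fintype.card_subtype]
  have hR : (Finset.univ.filter (fun a : A => (a : E) ∈ Subgroup.center E)).card =
      Nat.card (A ⊓ Subgroup.center E : Subgroup E) := by
    rw [← Fintype.card_subtype, ← Nat.card_eq_fintype_card]
    apply Nat.card_congr
    exact
      { toFun := fun a => ⟨(a : A), ⟨(a : A).2, a.2⟩⟩
        invFun := fun x => ⟨⟨x, x.2.1⟩, x.2.2⟩
        left_inv := fun a => rfl
        right_inv := fun x => rfl }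
  rw [hL, hR] at hcomm
  have hA : (Fintype.card A : ℤ) = (Nat.card A : ℤ) := by rw [Nat.card_eq_fintype_card]
  have hE : (Fintype.card E : ℤ) = (Nat.card E : ℤ) := by rw [Nat.card_eq_fintype_card]
  rw [hA, hE] at hcomm
  have : ((Nat.card (Subgroup.centralizer (A : Set E)) * Nat.card A : ℕ) : ℤ) =
      ((Nat.card E * Nat.card (A ⊓ Subgroup.center E : Subgroup E) : ℕ) : ℤ) := by
    push_cast
    rw [hcomm]
    ring
  exact_mod_cast this

end Cfsg.Agent.Lib.Helper48
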