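import Mathlib
import Cfsg.Agent.Lib.Helper48.FrakL
import Cfsg.Agent.Lib.Helper6.SzTI
import Cfsg.Agent.Lib.Helper95.SzIso

/-!
# The Suzuki case of the `𝔏(Y)` quotient lemma (helper48)
-/

set_option autoImplicit false

namespace Cfsg.Agent.Lib.Helper48

open Cfsg Cfsg.Agent.Lib.Helper6

section Sz

variable {F : Type*} [Field F] [Fintype F] [CharP F 2] {m : ℕ}

/-- the group of central translations `T(0,b)`. -/
noncomputable def szZsub (hσ : SgSq (F := F) m) : Subgroup (Sz F m) where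
  carrier := Set.range (t0 hσ)
  mul_mem' := by
    rintro _ _ ⟨b, rfl⟩ ⟨d, rfl⟩
    exact ⟨b + d, t0_add hσ b d⟩
  one_mem' := ⟨0, t0_zero hσ⟩
  inv_mem' := by
    rintro _ ⟨b, rfl⟩
    exact ⟨b, (t0_inv hσ b).symm⟩

theorem card_szZsub (hσ : SgSq (F := F) m) : Nat.card (szZsub hσ) = Fintype.card F := by
  have : Nat.card (szZsub hσ) = Nat.card (Set.range (t0 hσ)) := rfl
  rw [this, Nat.card_range_of_injective (t0_injective hσ), Nat.card_eq_fintype_card]

theorem le_szZsub (hσ : SgSq (F := F) m) {V : Subgroup (Sz F m)} (hV : IsElementaryAbelian 2 V)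
    (hVT : V ≤ szTsub hσ) : V ≤ szZsub hσ := by
  intro v hv
  have h2 : v * v = 1 := by
    have := hV.2 v hv
    rwa [pow_two] at this
  obtain ⟨b, hb⟩ := eq_t0_of_mul_self hσ (hVT hv) h2
  exact ⟨b, hb.symm⟩

theorem concl_szT0 (hm : 1 ≤ m) (hF : Fintype.card F = 2 ^ (2 * m + 1)) (hσ : SgSq (F := F) m)
    {Yh R : Subgroup (Sz F m)} (h : LQuot 2 Yh R) (hY : Yh ≤ szTsub hσ)
    (hcard : Nat.card Yh = Fintype.card F) : LConcl 2 Yh R := by
  have hfin : Finite (Sz F m) := inferInstance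
  have hp2 : Fact (Nat.Prime 2) := ⟨Nat.prime_two⟩
  have hYZ : Yh = szZsub hσ := by
    apply Subgroup.eq_of_le_of_card_ge (le_szZsub hσ h.ea hY)
    rw [card_szZsub, hcard]
  have hR := h.R_eq
  -- the translation group normalizes `Z`
  have hTR : szTsub hσ ≤ R := by
    rw [hR, hYZ]
    intro g hg
    apply Subgroup.mem_normalizer_fintype
    rintro _ ⟨d, rfl⟩
    obtain ⟨a, b, hab⟩ := hg
    have hcomm : g * t0 hσ d = t0 hσ d * g := by
      apply Subtype.ext
      show (g : Matrix.SpecialLinearGroup (Fin 4) F) * szT m 0 d = szT m 0 d * (g : Matrix.SpecialLinearGroup (Fin 4) F)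
      rw [hab]
      exact szT_mul_szT0_comm hσ a b d
    refine ⟨d, ?_⟩
    rw [hcomm]; group
  intro V hVR hRV hV hV1
  have hVp : IsPGroup 2 V := Cfsg.Agent.Lib.Helper47.IsElementaryAbelian.isPGroup hV
  have hVT : V ≤ szTsub hσ := by
    have hTp : IsPGroup 2 (szTsub hσ) := by
      have := (szSylow hσ hm hF).isPGroup'
      rwa [coe_szSylow] at this
    have h1 : IsPGroup 2 (szTsub hσ ⊔ V : Subgroup (Sz F m)) :=
      IsPGroup.to_sup_of_normal_right' hTp hVp (hTR.trans hRV)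
    have h2 := (szSylow hσ hm hF).is_maximal' h1 (by rw [coe_szSylow]; exact le_sup_left)
    rw [coe_szSylow] at h2
    rw [← h2]
    exact le_sup_right
  have hVZ : V ≤ szZsub hσ := le_szZsub hσ hV hVT
  rw [hYZ]
  apply le_antisymm hVZ
  obtain ⟨⟨v, hvV⟩, hv1⟩ := Subgroup.ne_bot_iff_exists_ne_one.mp hV1
  have hv1' : v ≠ 1 := fun h0 => hv1 (Subtype.ext h0)
  obtain ⟨b, rfl⟩ := hVZ hvV
  have hb0 : b ≠ 0 := by
    intro h0
    apply hv1'
    rw [h0, t0_zero]
  rintro _ ⟨d, rfl⟩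
  by_cases hd : d = 0
  · rw [hd, t0_zero]; exact V.one_mem
  · obtain ⟨g, hg⟩ := exists_conj_t0 hσ (Units.mk0 (d / b) (div_ne_zero hd hb0))
    have hgR : g ∈ R := by
      rw [hR, hYZ]
      apply Subgroup.mem_normalizer_fintype
      rintro _ ⟨c, rfl⟩
      exact ⟨_, (hg c).symm⟩
    have := (Subgroup.mem_normalizer_iff.mp (hRV hgR) _).mp hvV
    rw [hg b, Units.val_mk0, div_mul_cancel₀ d hb0] at this
    exact this

omit [CharP F 2] in
/-- the Suzuki case (`m ≥ 1`). -/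
theorem concl_Sz {K : Type*} [Group K] (hm : 1 ≤ m) (hF : Fintype.card F = 2 ^ (2 * m + 1))
    (e : K ≃* ↥(Cfsg.Lie.Sz F (2 ^ (m + 1)))) {Yh R : Subgroup K}
    (h : LQuot 2 Yh R) (hcard : Nat.card Yh = Fintype.card F) : LConcl 2 Yh R := by
  have hchar := sz_charP hF
  have hσ : SgSq (F := F) m := sgSq_of_card m hF
  let e' : K ≃* ↥(Cfsg.Sz F m) := e.trans (Cfsg.Agent.Lib.Helper95.szIso hm hF).symm
  have h' := h.map e'
  have hcard' : Nat.card (Yh.map e'.toMonoidHom) = Fintype.card F := by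
    rw [Subgroup.card_map_of_injective e'.injective, hcard]
  obtain ⟨g, hg⟩ := exists_conj_le_szTsub hσ hm hF
    (Cfsg.Agent.Lib.Helper47.IsElementaryAbelian.isPGroup h'.ea)
  let e₂ : ↥(Cfsg.Sz F m) ≃* ↥(Cfsg.Sz F m) := MulAut.conj g
  have h'' := h'.map e₂
  have hle : (Yh.map e'.toMonoidHom).map e₂.toMonoidHom ≤ szTsub hσ := by
    rintro _ ⟨y, hy, rfl⟩
    exact hg y hy
  have hcard'' : Nat.card ((Yh.map e'.toMonoidHom).map e₂.toMonoidHom) = Fintype.card F := by
    rw [Subgroup.card_map_of_injective e₂.injective, hcard']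
  have c1 := concl_szT0 hm hF hσ h'' hle hcard''
  exact LConcl.of_map e' (LConcl.of_map e₂ c1)

end Sz

section dihedral

/-- In a dihedral group of order `2r`, `r` an odd prime, a nontrivial `2`-subgroup has order 2. -/
theorem card_eq_two_of_dihedral {K : Type*} [Group K] {r : ℕ} (hr : r.Prime) (hr2 : r ≠ 2)
    (e : K ≃* DihedralGroup r) {Yh : Subgroup K} (hY : IsPGroup 2 Yh) (hY1 : Yh ≠ ⊥) :
    Nat.card Yh = 2 := by
  have hp2 : Fact (Nat.Prime 2) := ⟨Nat.prime_two⟩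
  have hcK : Nat.card K = 2 * r := by
    rw [Nat.card_congr e.toEquiv, DihedralGroup.nat_card]
  have hKfin : Finite K := Nat.finite_of_card_ne_zero (by rw [hcK]; exact mul_ne_zero two_ne_zero hr.ne_zero)
  obtain ⟨n, hn⟩ := hY.exists_card_eq
  have hdvd : 2 ^ n ∣ 2 * r := by
    rw [← hn, ← hcK]; exact Subgroup.card_subgroup_dvd_card Yh
  have hn1 : n ≠ 0 := by
    intro h0
    apply hY1
    rw [h0, pow_zero] at hn
    exact Subgroup.card_eq_one.mp hn
  have hn2 : n < 2 := by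
    by_contra hcon
    push Not at hcon
    have h4 : 2 ^ 2 ∣ 2 * r := (pow_dvd_pow 2 hcon).trans hdvd
    have h2r : 2 ∣ r := by
      have : 2 * 2 ∣ 2 * r := by simpa using h4
      exact Nat.dvd_of_mul_dvd_mul_left two_pos this
    exact hr2 ((Nat.prime_dvd_prime_iff_eq Nat.prime_two hr).mp h2r).symm
  have : n = 1 := by omega
  rw [hn, this, pow_one]

end dihedral

end Cfsg.Agent.Lib.Helper48
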