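import Cfsg.Prelude.Def_LocalStructure
import Cfsg.Agent.Lib.Helper47.PClosed
import Cfsg.Agent.Lib.Helper47.Subnormal
import Cfsg.Agent.Lib.Helper47.PReducedAmb
import Cfsg.Agent.S2842
import Cfsg.Agent.S2830
import Cfsg.Agent.Lib.Helper84.PResidualAux

/-!
helper48: abstract structure of the members of `ℌ_G(O_p(M))` (MSS local structure theory).

`HData p H B Y`: `B ≤ H` a `p`-subgroup, `Y ≤ B` abelian and normalized by `B`, `Y ≰ O_p(H)`, and
`Y ≤ O_p(P)` for every proper subgroup `P` of `H` containing `B`.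
Consequences: `H = O^p(H) B`, `O^p(H) = [O^p(H), Y]`, `H` is `p`-irreducible.
-/

set_option autoImplicit false

namespace Cfsg.Agent.Lib.Helper48

open Cfsg
open scoped commutatorElement

variable {G : Type*} [Group G]

/-- `O^p(H)` in the ambient group. -/
abbrev opRes (p : ℕ) (H : Subgroup G) : Subgroup G := (pResidual p ↥H).map H.subtype

theorem opRes_le (p : ℕ) (H : Subgroup G) : opRes p H ≤ H := Subgroup.map_subtype_le _

theorem le_normalizer_opRes (p : ℕ) (H : Subgroup G) :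
    H ≤ Subgroup.normalizer (opRes p H : Set G) := by
  have := Cfsg.Agent.Lib.Helper47.pResidual_normal p ↥H
  exact Cfsg.Agent.Lib.Helper47.le_normalizer_map_subtype_of_normal H (pResidual p ↥H)

/-- In a finite group, a proper subgroup containing `O^p` lies in a proper normal subgroup. -/
theorem exists_normal_ge_of_pResidual_le {K : Type*} [Group K] [Finite K] {p : ℕ} [Fact p.Prime]
    (P : Subgroup K) (hRP : pResidual p K ≤ P) (hP : P ≠ ⊤) :
    ∃ N : Subgroup K, N.Normal ∧ P ≤ N ∧ N ≠ ⊤ := by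
  have hn := Cfsg.Agent.Lib.Helper47.pResidual_normal p K
  have hpq : IsPGroup p (K ⧸ pResidual p K) :=
    Cfsg.Agent.Lib.Helper47.isPGroup_quotient_pResidual p K (pResidual p K) le_rfl
  have hnil : Group.IsNilpotent (K ⧸ pResidual p K) := hpq.isNilpotent
  set Pb := P.map (QuotientGroup.mk' (pResidual p K)) with hPbdef
  have hPb : Pb ≠ ⊤ := by
    intro htop
    apply hP
    have h1 := Subgroup.comap_map_eq (QuotientGroup.mk' (pResidual p K)) P
    rw [← hPbdef, htop, Subgroup.comap_top, QuotientGroup.ker_mk', sup_eq_left.mpr hRP] at h1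
    exact h1.symm
  obtain ⟨Xb, hXb, hle⟩ := (eq_top_or_exists_le_coatom Pb).resolve_left hPb
  have hXn : Xb.Normal :=
    Subgroup.NormalizerCondition.normal_of_coatom Xb Group.normalizerCondition_of_isNilpotent hXb
  refine ⟨Xb.comap (QuotientGroup.mk' (pResidual p K)), inferInstance, ?_, ?_⟩
  · exact (Subgroup.le_comap_map _ _).trans (Subgroup.comap_mono hle)
  · intro htop
    apply hXb.1
    have h1 := Subgroup.map_comap_eq_self_of_surjective
      (QuotientGroup.mk'_surjective (pResidual p K)) Xb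
    rw [htop, ← MonoidHom.range_eq_map,
      MonoidHom.range_eq_top.mpr (QuotientGroup.mk'_surjective (pResidual p K))] at h1
    exact h1.symm

/-- `O_p` of a subgroup normalized by `H` lies in `O_p(H)`. -/
theorem pCoreOf_le_pCoreOf_of_le_normalizer {p : ℕ} {N H : Subgroup G} (hNH : N ≤ H)
    (hn : H ≤ Subgroup.normalizer (N : Set G)) : pCoreOf p N ≤ pCoreOf p H :=
  Cfsg.Agent.Lib.Helper47.le_pCoreOf ((Cfsg.Agent.Lib.Helper47.pCoreOf_le p N).trans hNH)
    (hn.trans (Cfsg.Agent.Lib.Helper47.normalizer_le_normalizer_pCoreOf p N))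
    (Cfsg.Agent.Lib.Helper47.pCoreOf_isPGroup p N)

/-! ### general commutator / normalizer lemmas -/

theorem le_normalizer_sup' {H A B : Subgroup G} (hA : H ≤ Subgroup.normalizer (A : Set G))
    (hB : H ≤ Subgroup.normalizer (B : Set G)) :
    H ≤ Subgroup.normalizer ((A ⊔ B : Subgroup G) : Set G) := by
  intro h hh
  rw [Subgroup.mem_normalizer_iff_map_conj_eq, Subgroup.map_sup,
    Subgroup.mem_normalizer_iff_map_conj_eq.mp (hA hh),
    Subgroup.mem_normalizer_iff_map_conj_eq.mp (hB hh)]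

theorem left_le_normalizer_commutator (A B : Subgroup G) :
    A ≤ Subgroup.normalizer ((⁅A, B⁆ : Subgroup G) : Set G) := by
  rw [Subgroup.commutator_def, Subgroup.le_normalizer_closure_iff]
  rintro a ha _ ⟨a', ha', b, hb, rfl⟩
  rw [← Subgroup.commutator_def]
  have e : a * ⁅a', b⁆ * a⁻¹ = ⁅a * a', b⁆ * ⁅a, b⁆⁻¹ := by
    rw [commutatorElement_mul_left_eq_conj_mul]; group
  rw [e]
  exact Subgroup.mul_mem _ (Subgroup.commutator_mem_commutator (A.mul_mem ha ha') hb)
    (Subgroup.inv_mem _ (Subgroup.commutator_mem_commutator ha hb))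

theorem commutator_le_left_of_le_normalizer {A B : Subgroup G}
    (h : B ≤ Subgroup.normalizer (A : Set G)) : ⁅A, B⁆ ≤ A := by
  rw [Subgroup.commutator_le]
  intro a ha b hb
  have h1 : b * a⁻¹ * b⁻¹ ∈ A := (Subgroup.le_normalizer_iff.mp h) b hb _ (A.inv_mem ha)
  have e : ⁅a, b⁆ = a * (b * a⁻¹ * b⁻¹) := by rw [commutatorElement_def]; group
  rw [e]
  exact A.mul_mem ha h1

theorem commutator_le_right_of_le_normalizer {A B : Subgroup G}
    (h : A ≤ Subgroup.normalizer (B : Set G)) : ⁅A, B⁆ ≤ B := by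
  rw [Subgroup.commutator_comm]
  exact commutator_le_left_of_le_normalizer h

theorem sup_commutator_le {A B C D : Subgroup G} (hA : ⁅A, C⁆ ≤ D) (hB : ⁅B, C⁆ ≤ D)
    (hAD : A ≤ Subgroup.normalizer (D : Set G)) (hBD : B ≤ Subgroup.normalizer (D : Set G)) :
    ⁅A ⊔ B, C⁆ ≤ D := by
  rw [Subgroup.commutator_le]
  intro x hx c hc
  have hN : Subgroup.closure ((A : Set G) ∪ B) ≤ Subgroup.normalizer (D : Set G) := by
    rw [Subgroup.closure_le]
    rintro g (hg | hg)
    · exact hAD hg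
    · exact hBD hg
  have hx' : x ∈ Subgroup.closure ((A : Set G) ∪ B) := by
    rw [Subgroup.closure_union, Subgroup.closure_eq, Subgroup.closure_eq]; exact hx
  clear hx
  induction hx' using Subgroup.closure_induction with
  | mem x hx =>
    rcases hx with hx | hx
    · exact hA (Subgroup.commutator_mem_commutator hx hc)
    · exact hB (Subgroup.commutator_mem_commutator hx hc)
  | one => simp
  | mul x y hx hy ihx ihy =>
    rw [commutatorElement_mul_left_eq_conj_mul]
    exact D.mul_mem ((Subgroup.le_normalizer_iff.mp hN) x hx _ ihy) ihx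
  | inv x hx ih =>
    rw [commutatorElement_inv_left]
    have h1 : ⁅c, x⁆ ∈ D := by rw [← commutatorElement_inv]; exact D.inv_mem ih
    have := (Subgroup.le_normalizer_iff.mp hN) x⁻¹ (Subgroup.inv_mem _ hx) _ h1
    simpa using this

theorem le_normalizer_of_map_conj_le' {H N : Subgroup G}
    (h : ∀ x ∈ H, N.map (MulAut.conj x).toMonoidHom ≤ N) :
    H ≤ Subgroup.normalizer (N : Set G) := by
  rw [Subgroup.le_normalizer_iff]
  intro x hx n hn
  have := h x hx ⟨n, hn, rfl⟩
  simpa using this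

theorem map_conj_eq_of_le_normalizer {H N : Subgroup G} (h : H ≤ Subgroup.normalizer (N : Set G))
    {x : G} (hx : x ∈ H) : N.map (MulAut.conj x).toMonoidHom = N :=
  Subgroup.mem_normalizer_iff_map_conj_eq.mp (h hx)

/-- If `D ⊴ H`, `[D, Y] ≤ O_p(H)` and every `H`-conjugate of the abelian `p`-group `Y` lies in
`Y D`, then `Y ≤ O_p(H)`. -/
theorem le_pCoreOf_of_commutator_le {p : ℕ} {H Y D : Subgroup G}
    (hYH : Y ≤ H) (hYp : IsPGroup p ↥Y) (hYab : Y ≤ Subgroup.centralizer (Y : Set G))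
    (hDH : D ≤ H) (hHD : H ≤ Subgroup.normalizer (D : Set G))
    (hDY : ⁅D, Y⁆ ≤ pCoreOf p H)
    (hconj : ∀ h ∈ H, Y.map (MulAut.conj h).toMonoidHom ≤ Y ⊔ D) : Y ≤ pCoreOf p H := by
  have hQH : pCoreOf p H ≤ H := Cfsg.Agent.Lib.Helper47.pCoreOf_le p H
  have hHQ : H ≤ Subgroup.normalizer (pCoreOf p H : Set G) :=
    Subgroup.le_normalizer.trans (Cfsg.Agent.Lib.Helper47.normalizer_le_normalizer_pCoreOf p H)
  set W := Y ⊔ D ⊔ pCoreOf p H with hW
  have hWH : W ≤ H := sup_le (sup_le hYH hDH) hQH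
  have hHW : H ≤ Subgroup.normalizer (W : Set G) := by
    apply le_normalizer_of_map_conj_le'
    intro h hh
    rw [hW, Subgroup.map_sup, Subgroup.map_sup, map_conj_eq_of_le_normalizer hHD hh,
      map_conj_eq_of_le_normalizer hHQ hh]
    exact sup_le (sup_le ((hconj h hh).trans le_sup_left) (le_sup_right.trans le_sup_left))
      le_sup_right
  have hYY : ⁅Y, Y⁆ ≤ pCoreOf p H := by
    rw [Subgroup.commutator_eq_bot_iff_le_centralizer.mpr hYab]; exact bot_le
  have hWY : ⁅W, Y⁆ ≤ pCoreOf p H :=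
    sup_commutator_le (sup_commutator_le hYY hDY (hYH.trans hHQ) (hDH.trans hHQ))
      (commutator_le_left_of_le_normalizer (hYH.trans hHQ)) ((sup_le hYH hDH).trans hHQ)
      (hQH.trans hHQ)
  have hAp : IsPGroup p ↥(Y ⊔ pCoreOf p H : Subgroup G) :=
    IsPGroup.to_sup_of_normal_right' hYp (Cfsg.Agent.Lib.Helper47.pCoreOf_isPGroup p H)
      (hYH.trans hHQ)
  have hWA : W ≤ Subgroup.normalizer ((Y ⊔ pCoreOf p H : Subgroup G) : Set G) := by
    apply le_normalizer_of_map_conj_le'
    intro w hw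
    rw [Subgroup.map_sup, map_conj_eq_of_le_normalizer hHQ (hWH hw)]
    refine sup_le ?_ le_sup_right
    rintro _ ⟨y, hy, rfl⟩
    have e : (MulAut.conj w).toMonoidHom y = ⁅w, y⁆ * y := by
      rw [commutatorElement_def]; simp
    rw [e]
    exact Subgroup.mul_mem _ (le_sup_right (a := Y) (hWY (Subgroup.commutator_mem_commutator hw hy)))
      (le_sup_left (b := pCoreOf p H) hy)
  have h1 : Y ⊔ pCoreOf p H ≤ pCoreOf p W :=
    Cfsg.Agent.Lib.Helper47.le_pCoreOf (sup_le (le_sup_left.trans le_sup_left) le_sup_right) hWA hAp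
  exact le_sup_left.trans (h1.trans (pCoreOf_le_pCoreOf_of_le_normalizer hWH hHW))

/-- If `[O^p(K), K] ≤ O_p(K)` then the finite group `K` is `p`-closed. -/
theorem isPClosed_of_pResidual_commutator_le {K : Type*} [Group K] [Finite K] {p : ℕ} [Fact p.Prime]
    (h : ⁅pResidual p K, (⊤ : Subgroup K)⁆ ≤ pCore p K) : IsPClosed p K := by
  intro T
  have hcore : pCore p K ≤ (T : Subgroup K) := Cfsg.Agent.Lib.Helper47.pCore_le_sylow T
  have h1 : pResidual p K ≤ Subgroup.normalizer ((T : Subgroup K) : Set K) := by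
    rw [Subgroup.le_normalizer_iff]
    intro x hx t ht
    have e : x * t * x⁻¹ = ⁅x, t⁆ * t := by rw [commutatorElement_def]; group
    rw [e]
    exact Subgroup.mul_mem _
      (hcore (h (Subgroup.commutator_mem_commutator hx (Subgroup.mem_top t)))) ht
  have h2 : (⊤ : Subgroup K) ≤ Subgroup.normalizer ((T : Subgroup K) : Set K) := by
    rw [← Cfsg.Agent.Lib.Helper47.pResidual_sup_sylow T]
    exact sup_le h1 Subgroup.le_normalizer
  exact Subgroup.normalizer_eq_top_iff.mp (top_le_iff.mp h2)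

/-- `O^p` is monotone (ambient form). -/
theorem opRes_mono (p : ℕ) {N H : Subgroup G} (hNH : N ≤ H) : opRes p N ≤ opRes p H := by
  have h1 := Cfsg.Agent.Lib.Helper84.map_pResidual_le p (Subgroup.inclusion hNH)
  have h2 := Subgroup.map_mono (f := H.subtype) h1
  rw [Subgroup.map_map] at h2
  exact h2

/-- The abstract data of a member of `ℌ_G(O_p(M))`. -/
structure HData (p : ℕ) (H B Y : Subgroup G) : Prop where
  hBp : IsPGroup p ↥B
  hBH : B ≤ H
  hYB : Y ≤ B
  hBY : B ≤ Subgroup.normalizer (Y : Set G)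
  hYab : Y ≤ Subgroup.centralizer (Y : Set G)
  hY : ¬ Y ≤ pCoreOf p H
  hmin : ∀ P : Subgroup G, B ≤ P → P < H → Y ≤ pCoreOf p P

namespace HData

variable [Finite G] {p : ℕ} [Fact p.Prime] {H B Y : Subgroup G}

theorem hYH (h : HData p H B Y) : Y ≤ H := h.hYB.trans h.hBH

/-- A subgroup `P` with `B ≤ P ≤ H` normalized by `H` is `H` itself. -/
theorem eq_of_normalized (h : HData p H B Y) {P : Subgroup G} (hBP : B ≤ P) (hPH : P ≤ H)
    (hn : H ≤ Subgroup.normalizer (P : Set G)) : P = H := by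
  by_contra hne
  have hlt : P < H := lt_of_le_of_ne hPH hne
  exact h.hY ((h.hmin P hBP hlt).trans (pCoreOf_le_pCoreOf_of_le_normalizer hPH hn))

/-- `H = O^p(H) B`. -/
theorem opRes_sup (h : HData p H B Y) : opRes p H ⊔ B = H := by
  by_contra hne
  have hle : opRes p H ⊔ B ≤ H := sup_le (opRes_le p H) h.hBH
  set P : Subgroup ↥H := (opRes p H ⊔ B).subgroupOf H with hPdef
  have hRP : pResidual p ↥H ≤ P := by
    intro x hx
    rw [hPdef, Subgroup.mem_subgroupOf]
    exact (le_sup_left : opRes p H ≤ opRes p H ⊔ B) ⟨x, hx, rfl⟩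
  have hPtop : P ≠ ⊤ := by
    intro htop
    apply hne
    rw [hPdef, Subgroup.subgroupOf_eq_top] at htop
    exact le_antisymm hle htop
  obtain ⟨N, hNn, hPN, hNtop⟩ := exists_normal_ge_of_pResidual_le P hRP hPtop
  have h1 : N.map H.subtype = H := by
    apply h.eq_of_normalized
    · intro b hb
      refine ⟨⟨b, h.hBH hb⟩, hPN ?_, rfl⟩
      rw [hPdef, Subgroup.mem_subgroupOf]
      exact (le_sup_right : B ≤ opRes p H ⊔ B) hb
    · exact Subgroup.map_subtype_le _
    · exact Cfsg.Agent.Lib.Helper47.le_normalizer_map_subtype_of_normal H N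
  apply hNtop
  rw [eq_top_iff]
  intro x _
  have hx : (x : G) ∈ N.map H.subtype := by rw [h1]; exact x.2
  obtain ⟨y, hy, hyx⟩ := hx
  have : y = x := Subtype.ext hyx
  rwa [← this]

/-- Every element of `H` is `r * b` with `r ∈ O^p(H)`, `b ∈ B`. -/
theorem exists_mul (h : HData p H B Y) {x : G} (hx : x ∈ H) :
    ∃ r ∈ opRes p H, ∃ b ∈ B, x = r * b := by
  have h1 : x ∈ ((opRes p H ⊔ B : Subgroup G) : Set G) := by rw [h.opRes_sup]; exact hx
  rw [Subgroup.coe_mul_of_right_le_normalizer_left (opRes p H) B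
    (h.hBH.trans (le_normalizer_opRes p H))] at h1
  obtain ⟨r, hr, b, hb, rfl⟩ := h1
  exact ⟨r, hr, b, hb, rfl⟩

/-- `H`-conjugates of `Y` lie in `Y [O^p(H), Y]`. -/
theorem map_conj_le (h : HData p H B Y) {x : G} (hx : x ∈ H) :
    Y.map (MulAut.conj x).toMonoidHom ≤ Y ⊔ ⁅opRes p H, Y⁆ := by
  obtain ⟨r, hr, b, hb, rfl⟩ := h.exists_mul hx
  rintro _ ⟨y, hy, rfl⟩
  have hy' : b * y * b⁻¹ ∈ Y := (Subgroup.le_normalizer_iff.mp h.hBY) b hb y hy
  have e : (MulAut.conj (r * b)).toMonoidHom y = ⁅r, b * y * b⁻¹⁆ * (b * y * b⁻¹) := by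
    rw [commutatorElement_def]
    simp only [MulEquiv.coe_toMonoidHom, MulAut.conj_apply]
    group
  rw [e]
  exact Subgroup.mul_mem _
    (le_sup_right (a := Y) (Subgroup.commutator_mem_commutator hr hy'))
    (le_sup_left (b := ⁅opRes p H, Y⁆) hy')

theorem le_normalizer_commutator_opRes (h : HData p H B Y) :
    H ≤ Subgroup.normalizer ((⁅opRes p H, Y⁆ : Subgroup G) : Set G) := by
  have hHR := le_normalizer_opRes p H
  calc H = opRes p H ⊔ B := h.opRes_sup.symm
    _ ≤ _ := sup_le (left_le_normalizer_commutator (opRes p H) Y)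
      ((le_inf (h.hBH.trans hHR) h.hBY).trans
        (Cfsg.Agent.Lib.Helper47.normalizer_inf_normalizer_le_normalizer_commutator (opRes p H) Y))

/-- `O^p(H) = [O^p(H), Y]`. -/
theorem commutator_opRes (h : HData p H B Y) : ⁅opRes p H, Y⁆ = opRes p H := by
  have hRH := opRes_le p H
  have hHR := le_normalizer_opRes p H
  have hDR : ⁅opRes p H, Y⁆ ≤ opRes p H := commutator_le_left_of_le_normalizer (h.hYH.trans hHR)
  have hHD := h.le_normalizer_commutator_opRes
  by_contra hne
  have hPH : ⁅opRes p H, Y⁆ ⊔ B ≤ H := sup_le (hDR.trans hRH) h.hBH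
  by_cases hP : ⁅opRes p H, Y⁆ ⊔ B = H
  · apply hne
    apply le_antisymm hDR
    have hn : ((⁅opRes p H, Y⁆ : Subgroup G).subgroupOf H).Normal :=
      Subgroup.normal_subgroupOf_of_le_normalizer hHD
    have hBp' : IsPGroup p ↥(B.subgroupOf H) := h.hBp.comap_subtype
    have hsup : (⁅opRes p H, Y⁆ : Subgroup G).subgroupOf H ⊔ B.subgroupOf H = ⊤ := by
      rw [← Subgroup.subgroupOf_sup (hDR.trans hRH) h.hBH, hP, Subgroup.subgroupOf_self]
    have h1 := Cfsg.Agent.Lib.Helper47.pResidual_le_of_sup_eq_top hBp' hsup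
    calc opRes p H ≤ ((⁅opRes p H, Y⁆ : Subgroup G).subgroupOf H).map H.subtype :=
          Subgroup.map_mono h1
      _ = ⁅opRes p H, Y⁆ := Subgroup.map_subgroupOf_eq_of_le (hDR.trans hRH)
  · have hlt : ⁅opRes p H, Y⁆ ⊔ B < H := lt_of_le_of_ne hPH hP
    have hY1 : Y ≤ pCoreOf p (⁅opRes p H, Y⁆ ⊔ B) := h.hmin _ le_sup_right hlt
    have hPn : ⁅opRes p H, Y⁆ ⊔ B ≤
        Subgroup.normalizer (pCoreOf p (⁅opRes p H, Y⁆ ⊔ B) : Set G) :=
      Subgroup.le_normalizer.trans
        (Cfsg.Agent.Lib.Helper47.normalizer_le_normalizer_pCoreOf p _)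
    have h1 : ⁅⁅opRes p H, Y⁆, Y⁆ ≤ ⁅opRes p H, Y⁆ ⊓ pCoreOf p (⁅opRes p H, Y⁆ ⊔ B) :=
      le_inf (commutator_le_left_of_le_normalizer (h.hYH.trans hHD))
        ((Subgroup.commutator_mono le_rfl hY1).trans
          (commutator_le_right_of_le_normalizer (le_sup_left.trans hPn)))
    have h2 : ⁅opRes p H, Y⁆ ⊓ pCoreOf p (⁅opRes p H, Y⁆ ⊔ B) ≤ pCoreOf p ⁅opRes p H, Y⁆ := by
      apply Cfsg.Agent.Lib.Helper47.le_pCoreOf inf_le_left
      · rw [Subgroup.le_normalizer_iff]
        intro d hd k hk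
        exact ⟨Subgroup.mul_mem _ (Subgroup.mul_mem _ hd hk.1) (Subgroup.inv_mem _ hd),
          (Subgroup.le_normalizer_iff.mp hPn) d (le_sup_left (b := B) hd) k hk.2⟩
      · exact (Cfsg.Agent.Lib.Helper47.pCoreOf_isPGroup p _).to_le inf_le_right
    have h3 : pCoreOf p ⁅opRes p H, Y⁆ ≤ pCoreOf p H :=
      pCoreOf_le_pCoreOf_of_le_normalizer (hDR.trans hRH) hHD
    exact h.hY (le_pCoreOf_of_commutator_le h.hYH (h.hBp.to_le h.hYB) h.hYab (hDR.trans hRH) hHD
      (h1.trans (h2.trans h3)) (fun x hx => h.map_conj_le hx))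

/-- `O^p(H) Y` is the normal closure of `Y` in `H`. -/
theorem opRes_sup_eq_normalClosure (h : HData p H B Y) :
    opRes p H ⊔ Y =
      (Subgroup.normalClosure ((Y.subgroupOf H : Subgroup ↥H) : Set ↥H)).map H.subtype := by
  have hRH := opRes_le p H
  have hHR := le_normalizer_opRes p H
  have hHN := Cfsg.Agent.Lib.Helper47.le_normalizer_map_subtype_of_normal H
    (Subgroup.normalClosure ((Y.subgroupOf H : Subgroup ↥H) : Set ↥H))
  have hYN : Y ≤ (Subgroup.normalClosure ((Y.subgroupOf H : Subgroup ↥H) : Set ↥H)).map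
      H.subtype := by
    intro y hy
    refine ⟨⟨y, h.hYH hy⟩, Subgroup.subset_normalClosure ?_, rfl⟩
    show (⟨y, h.hYH hy⟩ : ↥H) ∈ Y.subgroupOf H
    rw [Subgroup.mem_subgroupOf]; exact hy
  apply le_antisymm
  · refine sup_le ?_ hYN
    rw [← h.commutator_opRes]
    exact (Subgroup.commutator_mono hRH hYN).trans (commutator_le_right_of_le_normalizer hHN)
  · have hn : H ≤ Subgroup.normalizer ((opRes p H ⊔ Y : Subgroup G) : Set G) := by
      apply le_normalizer_of_map_conj_le'
      intro x hx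
      rw [Subgroup.map_sup, map_conj_eq_of_le_normalizer hHR hx]
      refine sup_le le_sup_left ((h.map_conj_le hx).trans (sup_le le_sup_right ?_))
      rw [h.commutator_opRes]; exact le_sup_left
    have hnn : ((opRes p H ⊔ Y : Subgroup G).subgroupOf H).Normal :=
      Subgroup.normal_subgroupOf_of_le_normalizer hn
    have h1 : Subgroup.normalClosure ((Y.subgroupOf H : Subgroup ↥H) : Set ↥H) ≤
        (opRes p H ⊔ Y : Subgroup G).subgroupOf H := by
      apply Subgroup.normalClosure_le_normal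
      intro y hy
      rw [SetLike.mem_coe, Subgroup.mem_subgroupOf] at hy ⊢
      exact le_sup_right (a := opRes p H) hy
    calc _ ≤ ((opRes p H ⊔ Y : Subgroup G).subgroupOf H).map H.subtype := Subgroup.map_mono h1
      _ = opRes p H ⊔ Y := Subgroup.map_subgroupOf_eq_of_le (sup_le hRH h.hYH)

/-- `H` is the normal closure of `B` in `H`. -/
theorem normalClosure_eq (h : HData p H B Y) :
    (Subgroup.normalClosure ((B.subgroupOf H : Subgroup ↥H) : Set ↥H)).map H.subtype = H := by
  apply h.eq_of_normalized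
  · intro b hb
    refine ⟨⟨b, h.hBH hb⟩, Subgroup.subset_normalClosure ?_, rfl⟩
    show (⟨b, h.hBH hb⟩ : ↥H) ∈ B.subgroupOf H
    rw [Subgroup.mem_subgroupOf]; exact hb
  · exact Subgroup.map_subtype_le _
  · exact Cfsg.Agent.Lib.Helper47.le_normalizer_map_subtype_of_normal H _

theorem not_isPClosed (h : HData p H B Y) : ¬ IsPClosed p ↥H := by
  intro hc
  have hYp : IsPGroup p ↥(Y.subgroupOf H) := (h.hBp.to_le h.hYB).comap_subtype
  obtain ⟨T, hT⟩ := hYp.exists_le_sylow
  have hTn : (T : Subgroup ↥H).Normal := hc T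
  have hTc : (T : Subgroup ↥H) ≤ pCore p ↥H := Cfsg.Agent.Lib.Helper47.le_pCore hTn T.isPGroup'
  apply h.hY
  intro y hy
  refine ⟨⟨y, h.hYH hy⟩, hTc (hT ?_), rfl⟩
  rw [Subgroup.mem_subgroupOf]; exact hy

/-- Members of `ℌ` are `p`-irreducible. -/
theorem isPIrreducible (h : HData p H B Y) : IsPIrreducible p ↥H := by
  refine ⟨h.not_isPClosed, ?_⟩
  intro N hNn hNc
  have hRH := opRes_le p H
  set N' := N.map H.subtype with hN'
  have hN'H : N' ≤ H := Subgroup.map_subtype_le _
  have hHN' : H ≤ Subgroup.normalizer (N' : Set G) :=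
    Cfsg.Agent.Lib.Helper47.le_normalizer_map_subtype_of_normal H N
  have hNeq : N'.subgroupOf H = N := by
    rw [hN']
    exact Subgroup.comap_map_eq_self_of_injective H.subtype_injective N
  by_cases hP : N' ⊔ B = H
  · have hBp' : IsPGroup p ↥(B.subgroupOf H) := h.hBp.comap_subtype
    have hsup : N ⊔ B.subgroupOf H = ⊤ := by
      rw [← hNeq, ← Subgroup.subgroupOf_sup hN'H h.hBH, hP, Subgroup.subgroupOf_self]
    exact Cfsg.Agent.Lib.Helper47.pResidual_le_of_sup_eq_top hBp' hsup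
  · exfalso
    have hlt : N' ⊔ B < H := lt_of_le_of_ne (sup_le hN'H h.hBH) hP
    have hY1 : Y ≤ pCoreOf p (N' ⊔ B) := h.hmin _ le_sup_right hlt
    have hPn : N' ⊔ B ≤ Subgroup.normalizer (pCoreOf p (N' ⊔ B) : Set G) :=
      Subgroup.le_normalizer.trans (Cfsg.Agent.Lib.Helper47.normalizer_le_normalizer_pCoreOf p _)
    have hHU : H ≤ Subgroup.normalizer (pCoreOf p N' : Set G) :=
      hHN'.trans (Cfsg.Agent.Lib.Helper47.normalizer_le_normalizer_pCoreOf p N')
    have h1 : ⁅N', Y⁆ ≤ N' ⊓ pCoreOf p (N' ⊔ B) :=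
      le_inf (commutator_le_left_of_le_normalizer (h.hYH.trans hHN'))
        ((Subgroup.commutator_mono le_rfl hY1).trans
          (commutator_le_right_of_le_normalizer (le_sup_left.trans hPn)))
    have h2 : N' ⊓ pCoreOf p (N' ⊔ B) ≤ pCoreOf p N' := by
      apply Cfsg.Agent.Lib.Helper47.le_pCoreOf inf_le_left
      · rw [Subgroup.le_normalizer_iff]
        intro d hd k hk
        exact ⟨Subgroup.mul_mem _ (Subgroup.mul_mem _ hd hk.1) (Subgroup.inv_mem _ hd),
          (Subgroup.le_normalizer_iff.mp hPn) d (le_sup_left (b := B) hd) k hk.2⟩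
      · exact (Cfsg.Agent.Lib.Helper47.pCoreOf_isPGroup p _).to_le inf_le_right
    -- `Y` acts trivially on `N' / O_p(N')`
    have hYC : Y ≤ Cfsg.Agent.S2842.trivOn N' (pCoreOf p N') := by
      intro y hy
      rw [Cfsg.Agent.S2842.mem_trivOn]
      refine ⟨hHN' (h.hYH hy), hHU (h.hYH hy), fun r hr => ?_⟩
      have e : y * r * y⁻¹ * r⁻¹ = ⁅y, r⁆ := by rw [commutatorElement_def]
      rw [e]
      apply h2
      apply h1
      rw [Subgroup.commutator_comm]
      exact Subgroup.commutator_mem_commutator hy hr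
    have hHC : H ≤ Subgroup.normalizer
        ((Cfsg.Agent.S2842.trivOn N' (pCoreOf p N') : Subgroup G) : Set G) :=
      (le_inf hHN' hHU).trans (Cfsg.Agent.S2842.le_normalizer_trivOn N' (pCoreOf p N'))
    have hRC : opRes p H ≤ Cfsg.Agent.S2842.trivOn N' (pCoreOf p N') := by
      rw [← h.commutator_opRes]
      exact (Subgroup.commutator_mono hRH hYC).trans (commutator_le_right_of_le_normalizer hHC)
    -- hence `[O^p(N'), N'] ≤ O_p(N')` and `N'` is `p`-closed
    have hclosed : IsPClosed p ↥N' := by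
      apply isPClosed_of_pResidual_commutator_le
      rw [Subgroup.commutator_le]
      intro x hx k _
      have hx' : (x : G) ∈ Cfsg.Agent.S2842.trivOn N' (pCoreOf p N') :=
        hRC (opRes_mono p hN'H ⟨x, hx, rfl⟩)
      have h3 := (Cfsg.Agent.S2842.mem_trivOn.mp hx').2.2 (k : G) k.2
      obtain ⟨z, hz, hzx⟩ := h3
      have : z = ⁅x, k⁆ := by
        apply Subtype.ext
        have hz' : (z : G) = ↑x * ↑k * (↑x)⁻¹ * (↑k)⁻¹ := hzx
        rw [hz', commutatorElement_def]
        simp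
      rw [← this]; exact hz
    apply hNc
    exact Cfsg.Agent.S2830.isPClosed_of_mulEquiv
      (Subgroup.equivMapOfInjective N H.subtype H.subtype_injective).symm hclosed

end HData

end Cfsg.Agent.Lib.Helper48
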