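import Cfsg.Agent.Lib.Helper48.FrakH

/-!
helper48: extending a member `H` of `ℌ` by a `p`-group `X` normalized by `H` and normalizing `B`
(MSS: `H ≤ N_G(Q^g)`).
-/

set_option autoImplicit false

namespace Cfsg.Agent.Lib.Helper48

open Cfsg
open scoped commutatorElement

variable {G : Type*} [Group G]

namespace HData

variable [Finite G] {p : ℕ} [Fact p.Prime] {H B Y : Subgroup G}

/-- A subgroup `X` normalized by `H` and normalizing `B` normalizes `H` (as `H = ⟨B^H⟩`). -/
theorem le_normalizer_of_normalizes (h : HData p H B Y) {X : Subgroup G}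
    (hXB : X ≤ Subgroup.normalizer (B : Set G)) (hHX : H ≤ Subgroup.normalizer (X : Set G)) :
    X ≤ Subgroup.normalizer (H : Set G) := by
  rw [Subgroup.le_normalizer_iff]
  intro q hq x hx
  have key : ∀ y : ↥H, y ∈ Subgroup.normalClosure ((B.subgroupOf H : Subgroup ↥H) : Set ↥H) →
      q * (y : G) * q⁻¹ ∈ H := by
    intro y hy
    unfold Subgroup.normalClosure at hy
    induction hy using Subgroup.closure_induction with
    | mem y hy =>
      obtain ⟨b, hb, hconj⟩ := Group.mem_conjugatesOfSet_iff.mp hy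
      obtain ⟨c, rfl⟩ := isConj_iff.mp hconj
      have hbB : (b : G) ∈ B := by
        have : b ∈ B.subgroupOf H := hb
        rwa [Subgroup.mem_subgroupOf] at this
      have hq' : (c : G)⁻¹ * q * (c : G) ∈ X := by
        have := (Subgroup.le_normalizer_iff.mp hHX) (c : G)⁻¹ (H.inv_mem c.2) q hq
        simpa using this
      have hb' : ((c : G)⁻¹ * q * (c : G)) * (b : G) * ((c : G)⁻¹ * q * (c : G))⁻¹ ∈ B :=
        (Subgroup.le_normalizer_iff.mp hXB) _ hq' _ hbB
      have e : q * ((c * b * c⁻¹ : ↥H) : G) * q⁻¹ =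
          (c : G) * (((c : G)⁻¹ * q * (c : G)) * (b : G) * ((c : G)⁻¹ * q * (c : G))⁻¹) *
            (c : G)⁻¹ := by
        simp only [Subgroup.coe_mul, Subgroup.coe_inv]
        group
      rw [e]
      exact H.mul_mem (H.mul_mem c.2 (h.hBH hb')) (H.inv_mem c.2)
    | one => simp
    | mul x y _ _ hx hy =>
      have e : q * ((x * y : ↥H) : G) * q⁻¹ = (q * (x : G) * q⁻¹) * (q * (y : G) * q⁻¹) := by
        simp only [Subgroup.coe_mul]; group
      rw [e]; exact H.mul_mem hx hy
    | inv x _ hx =>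
      have e : q * ((x⁻¹ : ↥H) : G) * q⁻¹ = (q * (x : G) * q⁻¹)⁻¹ := by
        simp only [Subgroup.coe_inv]; group
      rw [e]; exact H.inv_mem hx
  have hx' : x ∈ (Subgroup.normalClosure ((B.subgroupOf H : Subgroup ↥H) : Set ↥H)).map
      H.subtype := by rw [h.normalClosure_eq]; exact hx
  obtain ⟨y, hy, rfl⟩ := hx'
  exact key y hy

end HData

/-- If `X` is a `p`-group normalizing `H` then `O^p(H X) = O^p(H)`. -/
theorem opRes_sup_eq [Finite G] {p : ℕ} [Fact p.Prime] {H X : Subgroup G} (hXp : IsPGroup p ↥X)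
    (hXH : X ≤ Subgroup.normalizer (H : Set G)) : opRes p (H ⊔ X) = opRes p H := by
  apply le_antisymm _ (opRes_mono p le_sup_left)
  have hn : (H.subgroupOf (H ⊔ X)).Normal :=
    Subgroup.normal_subgroupOf_of_le_normalizer (sup_le Subgroup.le_normalizer hXH)
  have hXp' : IsPGroup p ↥(X.subgroupOf (H ⊔ X)) := hXp.comap_subtype
  have htop : H.subgroupOf (H ⊔ X) ⊔ X.subgroupOf (H ⊔ X) = ⊤ := by
    rw [← Subgroup.subgroupOf_sup le_sup_left le_sup_right, Subgroup.subgroupOf_self]
  show (pResidual p ↥(H ⊔ X)).map (H ⊔ X).subtype ≤ opRes p H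
  rw [Subgroup.map_le_iff_le_comap]
  unfold pResidual
  rw [Subgroup.closure_le]
  intro x hx
  have hco : Nat.Coprime (orderOf x) p := hx
  have hxH : x ∈ H.subgroupOf (H ⊔ X) :=
    Cfsg.Agent.Lib.Helper47.mem_of_coprime_of_mem_sup hXp' (by rw [htop]; exact Subgroup.mem_top x)
      hco
  rw [Subgroup.mem_subgroupOf] at hxH
  show ((H ⊔ X).subtype x) ∈ opRes p H
  refine ⟨⟨(x : G), hxH⟩, ?_, rfl⟩
  apply Subgroup.subset_closure
  show Nat.Coprime (orderOf (⟨(x : G), hxH⟩ : ↥H)) p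
  have e1 : orderOf (⟨(x : G), hxH⟩ : ↥H) = orderOf (x : G) := by
    rw [← Subgroup.orderOf_coe]
  have e2 : orderOf x = orderOf (x : G) := by
    rw [← Subgroup.orderOf_coe]
  rw [e1, ← e2]
  exact hco

namespace HData

variable [Finite G] {p : ℕ} [Fact p.Prime] {H B Y : Subgroup G}

/-- Extending `H` by a `p`-group `X` with `H ≤ N(X)`, `X ≤ N(B) ∩ N(Y)`. -/
theorem sup_right (h : HData p H B Y) {X : Subgroup G} (hXp : IsPGroup p ↥X)
    (hHX : H ≤ Subgroup.normalizer (X : Set G)) (hXB : X ≤ Subgroup.normalizer (B : Set G))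
    (hXY : X ≤ Subgroup.normalizer (Y : Set G)) : HData p (H ⊔ X) (B ⊔ X) Y := by
  have hXH : X ≤ Subgroup.normalizer (H : Set G) := h.le_normalizer_of_normalizes hXB hHX
  have hsn : H ⊔ X ≤ Subgroup.normalizer (H : Set G) := sup_le Subgroup.le_normalizer hXH
  refine
    { hBp := IsPGroup.to_sup_of_normal_right' h.hBp hXp (h.hBH.trans hHX)
      hBH := sup_le_sup_right h.hBH X
      hYB := h.hYB.trans le_sup_left
      hBY := sup_le h.hBY hXY
      hYab := h.hYab
      hY := ?_
      hmin := ?_ }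
  · intro hY
    apply h.hY
    have h1 : Y ≤ pCoreOf p (H ⊔ X) ⊓ H := le_inf hY h.hYH
    refine h1.trans (Cfsg.Agent.Lib.Helper47.le_pCoreOf inf_le_right ?_ ?_)
    · rw [Subgroup.le_normalizer_iff]
      intro x hx k hk
      have hn : H ⊔ X ≤ Subgroup.normalizer (pCoreOf p (H ⊔ X) : Set G) :=
        Subgroup.le_normalizer.trans
          (Cfsg.Agent.Lib.Helper47.normalizer_le_normalizer_pCoreOf p _)
      exact ⟨(Subgroup.le_normalizer_iff.mp hn) x (le_sup_left (b := X) hx) k hk.1,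
        H.mul_mem (H.mul_mem hx hk.2) (H.inv_mem hx)⟩
    · exact (Cfsg.Agent.Lib.Helper47.pCoreOf_isPGroup p _).to_le inf_le_left
  · intro P hBP hlt
    have hXP : X ≤ P := le_sup_right.trans hBP
    have hPle : P ≤ H ⊔ X := hlt.le
    have hne : P ⊓ H ≠ H := by
      intro he
      have hHP : H ≤ P := by rw [← he]; exact inf_le_left
      exact absurd (le_antisymm hPle (sup_le hHP hXP)) hlt.ne
    have hlt' : P ⊓ H < H := lt_of_le_of_ne inf_le_right hne
    have hY1 : Y ≤ pCoreOf p (P ⊓ H) :=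
      h.hmin _ (le_inf (le_sup_left.trans hBP) h.hBH) hlt'
    refine hY1.trans (pCoreOf_le_pCoreOf_of_le_normalizer inf_le_left ?_)
    rw [Subgroup.le_normalizer_iff]
    intro x hx k hk
    exact ⟨P.mul_mem (P.mul_mem hx hk.1) (P.inv_mem hx),
      (Subgroup.le_normalizer_iff.mp hsn) x (hPle hx) k hk.2⟩

end HData

end Cfsg.Agent.Lib.Helper48
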