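import Cfsg.Agent.Lib.Helper48.FrakH
import Cfsg.Agent.Lib.Helper47.AsymInst
import Cfsg.Agent.Lib.Helper46.Amalgam

/-!
helper48: members of `ℌ_G(O_p(M))` for asymmetric `Y_M` (MSS), on top of helper47's `AsymData`.
-/

set_option autoImplicit false

namespace Cfsg.Agent.Lib.Helper48

open Cfsg
open Cfsg.Agent.Lib.Helper47 (AsymData)
open scoped commutatorElement

variable {G : Type*} [Group G] [Finite G] {p : ℕ} [Fact p.Prime] {S : Sylow p G}
  {M Y B H : Subgroup G}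

/-- `IsInFrakH` in abstract form. -/
structure FrakHHyp (p : ℕ) (H B Y : Subgroup G) : Prop where
  hBH : B ≤ H
  hY : ¬ Y ≤ pCoreOf p H
  hmin : ∀ P : Subgroup G, B ≤ P → P < H → Y ≤ pCoreOf p P

theorem hData_of_asym (hA : AsymData p S M Y B) (hH : FrakHHyp p H B Y) : HData p H B Y :=
  { hBp := hA.isPGroup_P
    hBH := hH.hBH
    hYB := hA.hYP
    hBY := (hA.hPS.trans hA.hSM).trans hA.hMY
    hYab := hA.hYP.trans hA.hPD
    hY := hH.hY
    hmin := hH.hmin }

/-- If `H ∩ D` contains a Sylow `p`-subgroup of `H`, every Sylow `p`-subgroup of `H ∩ D` is a Sylow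
`p`-subgroup of `H`. -/
theorem sylow_inf_of_isParabolic {H D : Subgroup G}
    (hpar : IsParabolic p ((H ⊓ D).subgroupOf H)) (T : Sylow p ↥(H ⊓ D)) :
    ∃ P : Sylow p ↥H, (P : Subgroup ↥H).map H.subtype =
      (T : Subgroup ↥(H ⊓ D)).map (H ⊓ D).subtype := by
  classical
  obtain ⟨T₀, hT₀⟩ := hpar
  have hp : p.Prime := Fact.out
  have hT₀le : (T₀ : Subgroup ↥H).map H.subtype ≤ H ⊓ D := by
    rintro _ ⟨x, hx, rfl⟩
    have := hT₀ hx
    rw [Subgroup.mem_subgroupOf] at this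
    exact this
  have hcardT₀ : Nat.card ((T₀ : Subgroup ↥H).map H.subtype) =
      p ^ (Nat.card ↥H).factorization p := by
    rw [← Sylow.card_eq_multiplicity T₀]
    exact Nat.card_congr (Subgroup.equivMapOfInjective _ _ H.subtype_injective).toEquiv.symm
  have hdvd1 : p ^ (Nat.card ↥H).factorization p ∣ Nat.card ↥(H ⊓ D) := by
    rw [← hcardT₀]
    exact Subgroup.card_dvd_of_le hT₀le
  have hdvd2 : Nat.card ↥(H ⊓ D) ∣ Nat.card ↥H := Subgroup.card_dvd_of_le inf_le_left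
  have hfac : (Nat.card ↥(H ⊓ D)).factorization p = (Nat.card ↥H).factorization p := by
    apply le_antisymm
    · exact (Nat.factorization_le_iff_dvd Nat.card_pos.ne' Nat.card_pos.ne').mpr hdvd2 p
    · exact (hp.pow_dvd_iff_le_factorization Nat.card_pos.ne').mp hdvd1
  have hT : Cfsg.Agent.Lib.Helper46.IsSylIn p
      ((T : Subgroup ↥(H ⊓ D)).map (H ⊓ D).subtype) (H ⊓ D) := ⟨T, rfl⟩
  have hcardT := hT.card
  rw [hfac] at hcardT
  obtain ⟨P, hP⟩ := Cfsg.Agent.Lib.Helper46.isSylIn_of_card (hT.le.trans inf_le_left) hcardT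
  exact ⟨P, hP.symm⟩

end Cfsg.Agent.Lib.Helper48
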