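/-
helper48 shared library: large extraspecial `2`-subgroups (`Cfsg.IsLargeExtraspecial`), part 1.

* `LES Q z` : elementwise package of the hypotheses `IsLargeExtraspecial Q`, `Z(Q) = ⟨z⟩`;
* `les_of_hyps` : the package holds under those hypotheses;
* `LES.false_of_quasisimple` : no quasisimple subgroup `X` of `C_G(z)` is normal in a normal subgroup
  of `C_G(z)` (there are no components in `C_G(z)`), by the three subgroups lemma;
* `LES.mem_of_normalized` : a nontrivial `2`-subgroup normalized by `Q` contains `z`.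
-/
import Mathlib
import Cfsg.Prelude.Def_MonsterType
import Cfsg.Agent.S0012
import Cfsg.Agent.Lib.Helper22.FStar
import Cfsg.Agent.Lib.Helper47.Large

set_option autoImplicit false

namespace Cfsg.Agent.Lib.Helper48

open Cfsg
open scoped commutatorElement

variable {G : Type*} [Group G]

/-- Elementwise package: `Q` is a large extraspecial `2`-subgroup of `G` with centre `{1, z}`. -/
structure LES (Q : Subgroup G) (z : G) : Prop where
  z_mem : z ∈ Q
  z_ne : z ≠ 1
  z_sq : z * z = 1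
  isP : IsPGroup 2 Q
  z_comm : ∀ q ∈ Q, q * z = z * q
  cent : ∀ x : G, (∀ q ∈ Q, q * x = x * q) → x = 1 ∨ x = z
  norm : ∀ h : G, h * z = z * h → ∀ q ∈ Q, h * q * h⁻¹ ∈ Q
  comm_mem : ∀ x ∈ Q, ∀ y ∈ Q, x * y * x⁻¹ * y⁻¹ = 1 ∨ x * y * x⁻¹ * y⁻¹ = z
  sq_mem : ∀ x ∈ Q, x * x = 1 ∨ x * x = z
  odd : ∀ K : Subgroup G, Odd (Nat.card K) → Q ≤ Subgroup.normalizer (K : Set G) → K = ⊥

theorem les_of_hyps [Finite G] {Q : Subgroup G} (hQ : IsLargeExtraspecial Q) {z : G}
    (hz : (Subgroup.center Q).map Q.subtype = Subgroup.zpowers z) : LES Q z := by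
  have : Fact (Nat.Prime 2) := ⟨Nat.prime_two⟩
  obtain ⟨⟨⟨hP, hfrat, hcomm⟩, hcard⟩, hCQ, hCZ, hodd⟩ := hQ
  -- z lies in the centre of Q
  have hzZ : z ∈ (Subgroup.center Q).map Q.subtype := by
    rw [hz]; exact Subgroup.mem_zpowers z
  obtain ⟨z', hz'cen, hz'⟩ := hzZ
  have hzQ : z ∈ Q := by rw [← hz']; exact z'.2
  have hcardZ : Nat.card (Subgroup.zpowers z) = 2 := by
    rw [← hz, ← hcard]
    exact (Nat.card_congr ((Subgroup.center Q).equivMapOfInjective Q.subtype
      Q.subtype_injective).toEquiv).symm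
  have hord : orderOf z = 2 := by rw [← Nat.card_zpowers]; exact hcardZ
  have hzsq : z * z = 1 := by rw [← pow_two, ← hord]; exact pow_orderOf_eq_one z
  have hzne : z ≠ 1 := by
    intro h1; rw [h1, orderOf_one] at hord; omega
  -- elements of ⟨z⟩
  have hmemZ : ∀ x : G, x ∈ Subgroup.zpowers z → x = 1 ∨ x = z := by
    intro x hx
    obtain ⟨k, rfl⟩ := Subgroup.mem_zpowers_iff.mp hx
    rcases Int.emod_two_eq_zero_or_one k with h | h
    · left
      have : k = 2 * (k / 2) := by omega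
      rw [this, zpow_mul, zpow_ofNat, pow_two, hzsq, one_zpow]
    · right
      have : k = 2 * (k / 2) + 1 := by omega
      rw [this, zpow_add, zpow_mul, zpow_ofNat, pow_two, hzsq, one_zpow, one_mul, zpow_one]
  have hcenQ : ∀ w : Q, w ∈ Subgroup.center Q → (w : G) = 1 ∨ (w : G) = z := by
    intro w hw
    apply hmemZ
    rw [← hz]
    exact ⟨w, hw, rfl⟩
  have hzcomm : ∀ q ∈ Q, q * z = z * q := by
    intro q hq
    have := Subgroup.mem_center_iff.mp hz'cen ⟨q, hq⟩
    have := congrArg Subtype.val this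
    have hz'' : (z' : G) = z := hz'
    rw [Subgroup.coe_mul, Subgroup.coe_mul, hz''] at this
    exact this
  refine ⟨hzQ, hzne, hzsq, hP, hzcomm, ?_, ?_, ?_, ?_, hodd⟩
  · intro x hx
    apply hmemZ
    rw [← hz, ← hCQ]
    rw [Subgroup.mem_centralizer_iff]
    intro q hq
    exact hx q hq
  · intro h hh q hq
    have hmem : h ∈ Subgroup.centralizer
        (((Subgroup.center Q).map Q.subtype : Subgroup G) : Set G) := by
      rw [Subgroup.mem_centralizer_iff]
      intro w hw
      rw [hz] at hw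
      rcases hmemZ w hw with h1 | h1
      · rw [h1, one_mul, mul_one]
      · rw [h1]; exact hh.symm
    have := hCZ hmem
    rw [Subgroup.mem_normalizer_iff] at this
    exact (this q).mp hq
  · intro x hx y hy
    have hmem : ⁅(⟨x, hx⟩ : Q), (⟨y, hy⟩ : Q)⁆ ∈ Subgroup.center Q := by
      rw [← hcomm, commutator_def]
      exact Subgroup.commutator_mem_commutator (Subgroup.mem_top _) (Subgroup.mem_top _)
    have := hcenQ _ hmem
    rw [commutatorElement_def] at this
    simpa using this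
  · intro x hx
    have hmem : (⟨x, hx⟩ : Q) ^ 2 ∈ Subgroup.center Q := by
      rw [← hfrat]
      exact (Cfsg.Agent.S0012.result 2 hP).2 _
    have := hcenQ _ hmem
    rw [pow_two] at this
    simpa using this

namespace LES

variable {Q : Subgroup G} {z : G}

theorem z_inv (h : LES Q z) : z⁻¹ = z := inv_eq_of_mul_eq_one_left h.z_sq

theorem le_centralizer (h : LES Q z) : Q ≤ Subgroup.centralizer ({z} : Set G) := by
  intro q hq
  rw [Subgroup.mem_centralizer_iff]
  intro w hw
  rw [Set.mem_singleton_iff] at hw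
  rw [hw]
  exact (h.z_comm q hq).symm

theorem comm_of_mem_centralizer {x : G} (hx : x ∈ Subgroup.centralizer ({z} : Set G)) :
    x * z = z * x :=
  ((Subgroup.mem_centralizer_iff.mp hx) z rfl).symm

theorem conj_mem (h : LES Q z) {x : G} (hx : x ∈ Subgroup.centralizer ({z} : Set G)) {q : G}
    (hq : q ∈ Q) : x * q * x⁻¹ ∈ Q :=
  h.norm x (comm_of_mem_centralizer hx) q hq

theorem centralizer_le_normalizer (h : LES Q z) :
    Subgroup.centralizer ({z} : Set G) ≤ Subgroup.normalizer (Q : Set G) := by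
  intro x hx
  rw [Subgroup.mem_normalizer_iff]
  intro q
  refine ⟨fun hq => h.conj_mem hx hq, fun hq => ?_⟩
  have hx' : x⁻¹ ∈ Subgroup.centralizer ({z} : Set G) := Subgroup.inv_mem _ hx
  have := h.conj_mem hx' hq
  simpa [mul_assoc] using this

/-- the commutator `x q x⁻¹ q⁻¹` of an element of `C_G(z)` with an element of `Q` lies in `Q` -/
theorem comm_mem_of_centralizer (h : LES Q z) {x : G}
    (hx : x ∈ Subgroup.centralizer ({z} : Set G)) {q : G} (hq : q ∈ Q) :
    x * q * x⁻¹ * q⁻¹ ∈ Q :=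
  Subgroup.mul_mem _ (h.conj_mem hx hq) (Subgroup.inv_mem _ hq)

/-- A nontrivial `2`-subgroup normalized by `Q` contains `z`. -/
theorem mem_of_normalized [Finite G] (h : LES Q z) {Y : Subgroup G} (hY : IsPGroup 2 Y)
    (hY1 : Y ≠ ⊥) (hQY : Q ≤ Subgroup.normalizer (Y : Set G)) : z ∈ Y := by
  have : Fact (Nat.Prime 2) := ⟨Nat.prime_two⟩
  have hne := Cfsg.Agent.Lib.Helper47.inf_centralizer_ne_bot_of_isPGroup h.isP hY hY1 hQY
  obtain ⟨x, hx1⟩ := (Subgroup.ne_bot_iff_exists_ne_one).mp hne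
  have hxY : (x : G) ∈ Y := x.2.1
  have hxC : (x : G) ∈ Subgroup.centralizer (Q : Set G) := x.2.2
  rcases h.cent x (fun q hq => (Subgroup.mem_centralizer_iff.mp hxC) q hq) with h1 | h1
  · exact absurd (Subtype.ext h1) hx1
  · rw [← h1]; exact hxY

/-- **No components in `C_G(z)`.** A quasisimple subgroup `X` cannot be normal in a normal subgroup
`N` of `C_G(z)`. -/
theorem false_of_quasisimple [Finite G] (h : LES Q z) {X N : Subgroup G} (hX : IsQuasisimple X)
    (hXN : X ≤ N) (hNX : N ≤ Subgroup.normalizer (X : Set G))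
    (hNH : N ≤ Subgroup.centralizer ({z} : Set G))
    (hHN : Subgroup.centralizer ({z} : Set G) ≤ Subgroup.normalizer (N : Set G)) : False := by
  have hXH : X ≤ Subgroup.centralizer ({z} : Set G) := hXN.trans hNH
  have hQH := h.le_centralizer
  -- conjugation facts
  have hQN : ∀ q ∈ Q, ∀ n ∈ N, q * n * q⁻¹ ∈ N := fun q hq n hn =>
    ((Subgroup.mem_normalizer_iff.mp (hHN (hQH hq))) n).mp hn
  have hNXc : ∀ n ∈ N, ∀ x ∈ X, n * x * n⁻¹ ∈ X := fun n hn x hx =>
    ((Subgroup.mem_normalizer_iff.mp (hNX hn)) x).mp hx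
  set R := N ⊓ Q with hR
  have h1 : ⁅X, Q⁆ ≤ R := by
    rw [Subgroup.commutator_le]
    intro x hx q hq
    rw [commutatorElement_def]
    refine ⟨?_, h.comm_mem_of_centralizer (hXH hx) hq⟩
    have : x * q * x⁻¹ * q⁻¹ = x * (q * x⁻¹ * q⁻¹) := by group
    rw [this]
    exact Subgroup.mul_mem _ (hXN hx) (hQN q hq _ (Subgroup.inv_mem _ (hXN hx)))
  have h2 : ⁅X, R⁆ ≤ X ⊓ R := by
    rw [Subgroup.commutator_le]
    intro x hx r hr
    rw [commutatorElement_def]
    refine ⟨?_, ?_, ?_⟩
    · have : x * r * x⁻¹ * r⁻¹ = x * (r * x⁻¹ * r⁻¹) := by group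
      rw [this]
      exact Subgroup.mul_mem _ hx (hNXc r hr.1 _ (Subgroup.inv_mem _ hx))
    · have hxN := hXN hx
      exact Subgroup.mul_mem _ (Subgroup.mul_mem _ (Subgroup.mul_mem _ hxN hr.1)
        (Subgroup.inv_mem _ hxN)) (Subgroup.inv_mem _ hr.1)
    · exact h.comm_mem_of_centralizer (hXH hx) hr.2
  -- `W = X ⊓ R` is a normal `2`-subgroup of `X`, hence central
  have hnotsol := Cfsg.Agent.Lib.Helper22.quasisimple_not_isSolvable hX
  have h3 : ⁅X ⊓ R, X⁆ = ⊥ := by
    have hWn : ((X ⊓ R).subgroupOf X).Normal := by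
      apply Subgroup.normal_subgroupOf_of_le_normalizer
      intro x hx
      rw [Subgroup.mem_normalizer_iff]
      have key : ∀ y : G, y ∈ X → ∀ w ∈ X ⊓ R, y * w * y⁻¹ ∈ X ⊓ R := by
        intro y hy w hw
        refine ⟨Subgroup.mul_mem _ (Subgroup.mul_mem _ hy hw.1) (Subgroup.inv_mem _ hy), ?_, ?_⟩
        · have hyN := hXN hy
          exact Subgroup.mul_mem _ (Subgroup.mul_mem _ hyN hw.2.1) (Subgroup.inv_mem _ hyN)
        · exact h.conj_mem (hXH hy) hw.2.2
      intro w
      refine ⟨fun hw => key x hx w hw, fun hw => ?_⟩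
      have := key x⁻¹ (Subgroup.inv_mem _ hx) _ hw
      simpa [mul_assoc] using this
    rcases Cfsg.Agent.Lib.Helper22.quasisimple_normal_le_center_or_eq_top hX
      ((X ⊓ R).subgroupOf X) with hc | hc
    · rw [Subgroup.commutator_eq_bot_iff_le_centralizer]
      intro w hw
      rw [Subgroup.mem_centralizer_iff]
      intro x hx
      have hmem : (⟨w, hw.1⟩ : X) ∈ (X ⊓ R).subgroupOf X := by
        rw [Subgroup.mem_subgroupOf]; exact hw
      have := Subgroup.mem_center_iff.mp (hc hmem) ⟨x, hx⟩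
      exact congrArg Subtype.val this
    · exfalso
      apply hnotsol
      have hXQ : X ≤ Q := by
        intro x hx
        have hmem : (⟨x, hx⟩ : X) ∈ (X ⊓ R).subgroupOf X := by rw [hc]; exact Subgroup.mem_top _
        rw [Subgroup.mem_subgroupOf] at hmem
        exact hmem.2.2
      have hPX : IsPGroup 2 X := h.isP.to_le hXQ
      have : Fact (Nat.Prime 2) := ⟨Nat.prime_two⟩
      have : Group.IsNilpotent X := hPX.isNilpotent
      infer_instance
  have hperf : ⁅X, X⁆ = X := by
    have : Group.IsPerfect X := hX.1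
    exact Subgroup.commutator_eq_self
  have h4 : ⁅X, R⁆ = ⊥ := by
    have a1 : ⁅⁅X, R⁆, X⁆ = ⊥ := by
      rw [eq_bot_iff, ← h3]
      exact Subgroup.commutator_mono h2 le_rfl
    have a2 : ⁅⁅R, X⁆, X⁆ = ⊥ := by rw [Subgroup.commutator_comm R X]; exact a1
    have := Subgroup.commutator_commutator_eq_bot_of_rotate a1 a2
    rwa [hperf] at this
  have h5 : ⁅X, Q⁆ = ⊥ := by
    have a1 : ⁅⁅X, Q⁆, X⁆ = ⊥ := by
      rw [eq_bot_iff, ← h4, Subgroup.commutator_comm X R]
      exact Subgroup.commutator_mono h1 le_rfl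
    have a2 : ⁅⁅Q, X⁆, X⁆ = ⊥ := by rw [Subgroup.commutator_comm Q X]; exact a1
    have := Subgroup.commutator_commutator_eq_bot_of_rotate a1 a2
    rwa [hperf] at this
  rw [Subgroup.commutator_eq_bot_iff_le_centralizer] at h5
  apply hnotsol
  have hel : ∀ x ∈ X, x = 1 ∨ x = z := by
    intro x hx
    apply h.cent x
    intro q hq
    exact (Subgroup.mem_centralizer_iff.mp (h5 hx)) q hq
  apply Group.isSolvable_of_comm
  intro a b
  apply Subtype.ext
  rw [Subgroup.coe_mul, Subgroup.coe_mul]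
  rcases hel a a.2 with ha | ha <;> rcases hel b b.2 with hb | hb <;> rw [ha, hb] <;> simp

end LES

end Cfsg.Agent.Lib.Helper48
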