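/-
helper48 shared library: large extraspecial `2`-subgroups, part 2 (global consequences).

For `h : LES Q z` in a finite group `G`:
* `O_{2'}(G) = 1`, `O_q(G) = 1` for odd `q`, `F(G) = O_2(G)`;
* a Sylow `2`-subgroup containing `Q` lies in `C_G(z)`; `z ∈ F*(G)`;
* `case_pCore_ne_bot` : if `O_2(G) ≠ 1` then `⟨z^G⟩` is abelian and `F*(G) = O_2(G)`;
* if `O_2(G) = 1`: `z` normalizes and does not centralize every component, `⟨z^G⟩ = E(G) = F*(G)`.
-/
import Mathlib
import Cfsg.Agent.Lib.Helper48.LargeES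
import Cfsg.Agent.S1293
import Cfsg.Agent.Lib.Helper1.Fitting
import Cfsg.Agent.Lib.Helper29.Iso
import Cfsg.Agent.Lib.Helper33.Conj
import Cfsg.Agent.Lib.Helper48.SPEFStar
import Cfsg.Agent.Lib.Helper49.SubnormalSylow
import Cfsg.Agent.Lib.Helper97.Cores

set_option autoImplicit false

namespace Cfsg.Agent.Lib.Helper48

open Cfsg Cfsg.Agent.Lib.Helper22 Cfsg.Agent.Lib.Helper33

variable {G : Type*} [Group G]

theorem le_normalizer_of_forall_conj_mem {N X : Subgroup G}
    (hkey : ∀ n ∈ N, ∀ x ∈ X, n * x * n⁻¹ ∈ X) : N ≤ Subgroup.normalizer (X : Set G) := by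
  intro n hn
  rw [Subgroup.mem_normalizer_iff]
  intro x
  refine ⟨fun hx => hkey n hn x hx, fun hx => ?_⟩
  have := hkey n⁻¹ (Subgroup.inv_mem _ hn) _ hx
  simpa [mul_assoc] using this

theorem le_normalizer_normal_inf {N : Subgroup G} (hN : N.Normal) (H : Subgroup G) :
    H ≤ Subgroup.normalizer ((N ⊓ H : Subgroup G) : Set G) := by
  apply le_normalizer_of_forall_conj_mem
  intro x hx y hy
  exact ⟨hN.conj_mem y hy.1 x, Subgroup.mul_mem _ (Subgroup.mul_mem _ hx hy.2) (Subgroup.inv_mem _ hx)⟩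

theorem inf_centralizer_eq_bot_of_center {L : Subgroup G} (hZ : Subgroup.center L = ⊥) :
    L ⊓ Subgroup.centralizer (L : Set G) = ⊥ := by
  rw [eq_bot_iff]
  intro x hx
  have hmem : (⟨x, hx.1⟩ : L) ∈ Subgroup.center L := by
    rw [Subgroup.mem_center_iff]
    intro g
    apply Subtype.ext
    exact (Subgroup.mem_centralizer_iff.mp hx.2 g g.2)
  rw [hZ, Subgroup.mem_bot] at hmem
  rw [Subgroup.mem_bot]
  exact congrArg Subtype.val hmem

namespace LES

variable [Finite G] {Q : Subgroup G} {z : G}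

theorem pPrimeCore_eq_bot (h : LES Q z) : pPrimeCore 2 G = ⊥ := by
  rw [Cfsg.Agent.Lib.Helper97.pPrimeCore_eq_bot_iff]
  intro N hN hcop
  apply h.odd N (Nat.Coprime.odd_of_right hcop)
  rw [Subgroup.normalizer_eq_top_iff.mpr hN]
  exact le_top

theorem pCore_eq_bot_of_ne_two (h : LES Q z) {q : ℕ} (hq : q.Prime) (hq2 : q ≠ 2) :
    pCore q G = ⊥ := by
  have : Fact q.Prime := ⟨hq⟩
  have hn : (pCore q G).Normal := Subgroup.sSup_normal _ (fun _ h => h.1)
  apply h.odd
  · obtain ⟨n, hn⟩ := (Cfsg.Agent.Lib.Helper97.isPGroup_pCore q G).exists_card_eq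
    rw [hn]
    exact Odd.pow (hq.odd_of_ne_two hq2)
  · rw [Subgroup.normalizer_eq_top_iff.mpr hn]
    exact le_top

theorem fittingSubgroup_eq_pCore (h : LES Q z) : fittingSubgroup G = pCore 2 G := by
  rw [Cfsg.Agent.Lib.Helper1.fittingSubgroup_eq_iSup_pCore]
  apply le_antisymm
  · refine iSup_le fun q => ?_
    by_cases hq : (q : ℕ) = 2
    · rw [hq]
    · rw [h.pCore_eq_bot_of_ne_two q.2 hq]
      exact bot_le
  · exact le_iSup (fun p : Nat.Primes => pCore (p : ℕ) G) ⟨2, Nat.prime_two⟩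

/-- A Sylow `2`-subgroup containing `Q` lies in `C_G(z)`. -/
theorem exists_sylow (h : LES Q z) : ∃ T : Sylow 2 G, Q ≤ (T : Subgroup G) ∧
    (T : Subgroup G) ≤ Subgroup.centralizer ({z} : Set G) := by
  have : Fact (Nat.Prime 2) := ⟨Nat.prime_two⟩
  obtain ⟨T, hT⟩ := h.isP.exists_le_sylow
  refine ⟨T, hT, ?_⟩
  have hT1 : (T : Subgroup G) ≠ ⊥ := by
    intro hb
    have := hT h.z_mem
    rw [hb, Subgroup.mem_bot] at this
    exact h.z_ne this
  have hne := Cfsg.Agent.Lib.Helper47.inf_centralizer_ne_bot_of_isPGroup T.isPGroup' T.isPGroup' hT1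
    Subgroup.le_normalizer
  have hz : z ∈ (T : Subgroup G) ⊓ Subgroup.centralizer ((T : Subgroup G) : Set G) := by
    apply h.mem_of_normalized (T.isPGroup'.to_le inf_le_left) hne
    apply le_normalizer_of_forall_conj_mem
    intro q hq y hy
    have : q * y = y * q := Subgroup.mem_centralizer_iff.mp hy.2 q (hT hq)
    rw [this, mul_inv_cancel_right]
    exact hy
  intro t ht
  rw [Subgroup.mem_centralizer_iff]
  intro w hw
  rw [Set.mem_singleton_iff] at hw
  rw [hw]
  exact (Subgroup.mem_centralizer_iff.mp hz.2 t ht).symm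

theorem mem_generalizedFittingSubgroup (h : LES Q z) : z ∈ generalizedFittingSubgroup G := by
  have : Fact (Nat.Prime 2) := ⟨Nat.prime_two⟩
  obtain ⟨T, hQT, -⟩ := h.exists_sylow
  have hFn := Cfsg.Agent.Lib.Helper29.generalizedFittingSubgroup_normal G
  by_cases hY : (T : Subgroup G) ⊓ generalizedFittingSubgroup G = ⊥
  · exfalso
    obtain ⟨P, hP⟩ := Cfsg.Agent.Lib.Helper49.exists_sylow_eq_subgroupOf_of_isSubnormal T
      hFn.isSubnormal
    have hPbot : (P : Subgroup (generalizedFittingSubgroup G)) = ⊥ := by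
      rw [hP, Subgroup.subgroupOf_eq_bot, disjoint_iff]
      exact hY
    have hodd : Odd (Nat.card (generalizedFittingSubgroup G)) := by
      rw [← Nat.not_even_iff_odd, even_iff_two_dvd]
      intro hdvd
      exact P.ne_bot_of_dvd_card hdvd hPbot
    have hF : generalizedFittingSubgroup G = ⊥ := h.odd _ hodd (by
      rw [Subgroup.normalizer_eq_top_iff.mpr hFn]; exact le_top)
    have hcen := centralizer_generalizedFittingSubgroup_le (G := G)
    have hz : z ∈ generalizedFittingSubgroup G := by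
      apply hcen
      rw [hF, Subgroup.mem_centralizer_iff]
      intro g hg
      rw [Subgroup.coe_bot, Set.mem_singleton_iff] at hg
      rw [hg, one_mul, mul_one]
    rw [hF, Subgroup.mem_bot] at hz
    exact h.z_ne hz
  · have hz := h.mem_of_normalized (T.isPGroup'.to_le inf_le_left) hY (by
      apply le_normalizer_of_forall_conj_mem
      intro q hq y hy
      exact ⟨Subgroup.mul_mem _ (Subgroup.mul_mem _ (hQT hq) hy.1) (Subgroup.inv_mem _ (hQT hq)),
        hFn.conj_mem y hy.2 q⟩)
    exact hz.2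

/-- `z` does not centralize any component. -/
theorem not_le_centralizer (h : LES Q z) {L : Subgroup G} (hL : IsComponent L) :
    ¬ L ≤ Subgroup.centralizer ({z} : Set G) := fun hLH =>
  h.false_of_quasisimple hL.2 (N := layer G ⊓ Subgroup.centralizer ({z} : Set G))
    (le_inf (component_le_layer hL) hLH) (inf_le_left.trans (layer_le_normalizer_component hL))
    inf_le_right (le_normalizer_normal_inf (Cfsg.Agent.Lib.Helper29.layer_normal G) _)

/-- **Case `O_2(G) ≠ 1`.** -/
theorem case_pCore_ne_bot (h : LES Q z) (hO : pCore 2 G ≠ ⊥) :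
    IsMulCommutative (Subgroup.normalClosure ({z} : Set G)) ∧
      generalizedFittingSubgroup G = pCore 2 G := by
  have : Fact (Nat.Prime 2) := ⟨Nat.prime_two⟩
  have hXn : (pCore 2 G).Normal := Subgroup.sSup_normal _ (fun _ h => h.1)
  have hXp : IsPGroup 2 (pCore 2 G) := Cfsg.Agent.Lib.Helper97.isPGroup_pCore 2 G
  have hYn : (pCore 2 G ⊓ Subgroup.centralizer ((pCore 2 G : Subgroup G) : Set G)).Normal :=
    inferInstance
  have hY1 := Cfsg.Agent.Lib.Helper47.inf_centralizer_ne_bot_of_isPGroup hXp hXp hO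
    Subgroup.le_normalizer
  have hzY : z ∈ pCore 2 G ⊓ Subgroup.centralizer ((pCore 2 G : Subgroup G) : Set G) :=
    h.mem_of_normalized (hXp.to_le inf_le_left) hY1 (by
      rw [Subgroup.normalizer_eq_top_iff.mpr hYn]; exact le_top)
  have hMY : Subgroup.normalClosure ({z} : Set G) ≤
      pCore 2 G ⊓ Subgroup.centralizer ((pCore 2 G : Subgroup G) : Set G) :=
    Subgroup.normalClosure_le_normal (Set.singleton_subset_iff.mpr hzY)
  constructor
  · refine ⟨⟨fun a b => ?_⟩⟩
    apply Subtype.ext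
    have ha := hMY a.2
    have hb := hMY b.2
    exact Subgroup.mem_centralizer_iff.mp hb.2 a ha.1
  · apply Cfsg.Agent.S1293.gfs_eq_pCore_gen 2 h.pPrimeCore_eq_bot
    intro L hL
    have hcomm : ⁅L, fittingSubgroup G⁆ = ⊥ := by
      rw [eq_bot_iff, ← layer_commutator_fittingSubgroup (G := G)]
      exact Subgroup.commutator_mono (component_le_layer hL) le_rfl
    have hzF : z ∈ fittingSubgroup G := by
      rw [h.fittingSubgroup_eq_pCore]; exact hzY.1
    rw [Subgroup.commutator_eq_bot_iff_le_centralizer] at hcomm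
    apply h.not_le_centralizer hL
    intro l hl
    rw [Subgroup.mem_centralizer_iff]
    intro w hw
    rw [Set.mem_singleton_iff] at hw
    rw [hw]
    exact Subgroup.mem_centralizer_iff.mp (hcomm hl) z hzF

end LES

end Cfsg.Agent.Lib.Helper48
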