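/-
helper48 shared library: large extraspecial `2`-subgroups, part 3 (the case `O_2(G) = 1`).
-/
import Mathlib
import Cfsg.Agent.Lib.Helper48.LargeES2

set_option autoImplicit false

namespace Cfsg.Agent.Lib.Helper48

open Cfsg Cfsg.Agent.Lib.Helper22 Cfsg.Agent.Lib.Helper33

variable {G : Type*} [Group G]

namespace LES

variable [Finite G] {Q : Subgroup G} {z : G}

theorem fittingSubgroup_eq_bot (h : LES Q z) (hO : pCore 2 G = ⊥) : fittingSubgroup G = ⊥ := by
  rw [h.fittingSubgroup_eq_pCore, hO]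

theorem gfs_eq_layer (h : LES Q z) (hO : pCore 2 G = ⊥) :
    generalizedFittingSubgroup G = layer G := by
  unfold generalizedFittingSubgroup
  rw [h.fittingSubgroup_eq_bot hO, sup_bot_eq]

theorem mem_layer (h : LES Q z) (hO : pCore 2 G = ⊥) : z ∈ layer G := by
  rw [← h.gfs_eq_layer hO]
  exact h.mem_generalizedFittingSubgroup

/-- distinct components meet trivially and commute elementwise (when `F(G) = 1`) -/
theorem comp_comm {L L' : Subgroup G} (hL : IsComponent L)
    (hL' : IsComponent L') (hne : L ≠ L') : L' ≤ Subgroup.centralizer (L : Set G) := by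
  have := component_commutator_eq_bot_of_ne hL' hL (Ne.symm hne)
  rwa [Subgroup.commutator_eq_bot_iff_le_centralizer] at this

theorem comp_inf (hF : fittingSubgroup G = ⊥) {L L' : Subgroup G} (hL : IsComponent L)
    (hL' : IsComponent L') (hne : L ≠ L') : L ⊓ L' = ⊥ := by
  rw [eq_bot_iff, ← inf_centralizer_eq_bot_of_center (component_center_eq_bot hF hL)]
  exact inf_le_inf_left _ (comp_comm hL hL' hne)

/-- `z` normalizes every component. -/
theorem mem_normalizer_component (h : LES Q z) (hF : fittingSubgroup G = ⊥) {L : Subgroup G}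
    (hL : IsComponent L) : z ∈ Subgroup.normalizer (L : Set G) := by
  by_contra hcon
  have hne : L ≠ cj z L := by
    intro he
    exact hcon (mem_normalizer_iff_cj_eq.mpr he.symm)
  have hL₂ : IsComponent (cj z L) := component_conj hL z
  have hcomm : ∀ a ∈ L, ∀ b ∈ cj z L, a * b = b * a := by
    intro a ha b hb
    exact Subgroup.mem_centralizer_iff.mp (comp_comm hL hL₂ hne hb) a ha
  have hzi := h.z_inv
  have hzz := h.z_sq
  let φ : L →* G := MonoidHom.mk' (fun l => (l : G) * (z * l * z⁻¹)) (by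
    intro a b
    have hc : (b : G) * (z * a * z⁻¹) = (z * a * z⁻¹) * b := hcomm b b.2 _ (conj_mem_cj a.2)
    simp only [Subgroup.coe_mul]
    calc (a : G) * b * (z * (a * b) * z⁻¹) = a * (b * (z * a * z⁻¹)) * (z * b * z⁻¹) := by group
      _ = a * ((z * a * z⁻¹) * b) * (z * b * z⁻¹) := by rw [hc]
      _ = _ := by group)
  have hφ : ∀ l : L, φ l = (l : G) * (z * l * z⁻¹) := fun l => rfl
  have hinj : Function.Injective φ := by
    rw [injective_iff_map_eq_one]
    intro l hl
    rw [hφ] at hl
    have h1 : (l : G) = (z * l * z⁻¹)⁻¹ := eq_inv_of_mul_eq_one_left hl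
    have h2 : (l : G) ∈ L ⊓ cj z L := ⟨l.2, by rw [h1]; exact Subgroup.inv_mem _ (conj_mem_cj l.2)⟩
    rw [comp_inf hF hL hL₂ hne, Subgroup.mem_bot] at h2
    exact Subtype.ext h2
  have hXq : IsQuasisimple φ.range :=
    Cfsg.Agent.Lib.Helper29.isQuasisimple_of_mulEquiv (MonoidHom.ofInjective hinj) hL.2
  have hLn := layer_le_normalizer_component hL
  apply h.false_of_quasisimple hXq (N := layer G ⊓ Subgroup.centralizer ({z} : Set G))
  · rintro _ ⟨l, rfl⟩
    rw [hφ]
    refine ⟨Subgroup.mul_mem _ (component_le_layer hL l.2)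
      (component_le_layer hL₂ (conj_mem_cj l.2)), ?_⟩
    show (l : G) * (z * l * z⁻¹) ∈ Subgroup.centralizer ({z} : Set G)
    rw [Subgroup.mem_centralizer_iff]
    intro w hw
    rw [Set.mem_singleton_iff] at hw
    rw [hw]
    have hc : (l : G) * (z * l * z⁻¹) = (z * l * z⁻¹) * l := hcomm l l.2 _ (conj_mem_cj l.2)
    rw [hzi] at hc ⊢
    calc z * ((l : G) * (z * l * z)) = z * ((z * l * z) * l) := by rw [hc]
      _ = (z * z) * l * z * l := by group
      _ = l * (z * l * (z * z)) := by rw [hzz]; group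
      _ = (l : G) * (z * l * z) * z := by group
  · apply le_normalizer_of_forall_conj_mem
    rintro n hn _ ⟨l, rfl⟩
    have hnl : n * (l : G) * n⁻¹ ∈ L :=
      (Subgroup.mem_normalizer_iff.mp (hLn hn.1) l).mp l.2
    refine ⟨⟨n * l * n⁻¹, hnl⟩, ?_⟩
    rw [hφ, hφ]
    have hnz : n * z = z * n := comm_of_mem_centralizer hn.2
    have hnz' : z⁻¹ * n⁻¹ = n⁻¹ * z⁻¹ := by
      rw [← mul_inv_rev, ← mul_inv_rev, hnz]
    show n * (l : G) * n⁻¹ * (z * (n * (l : G) * n⁻¹) * z⁻¹) = n * ((l : G) * (z * l * z⁻¹)) * n⁻¹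
    calc n * (l : G) * n⁻¹ * (z * (n * (l : G) * n⁻¹) * z⁻¹)
        = n * (l : G) * n⁻¹ * ((z * n) * (l : G) * (n⁻¹ * z⁻¹)) := by group
      _ = n * (l : G) * n⁻¹ * ((n * z) * (l : G) * (z⁻¹ * n⁻¹)) := by rw [hnz, hnz']
      _ = _ := by group
  · exact inf_le_right
  · exact le_normalizer_normal_inf (Cfsg.Agent.Lib.Helper29.layer_normal G) _

/-- every component lies in `⟨z^G⟩` -/
theorem component_le_normalClosure (h : LES Q z) (hF : fittingSubgroup G = ⊥) {L : Subgroup G}
    (hL : IsComponent L) : L ≤ Subgroup.normalClosure ({z} : Set G) := by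
  have hsimple : IsSimpleGroup L := component_isSimpleGroup hL (component_center_eq_bot hF hL)
  have hMn : (Subgroup.normalClosure ({z} : Set G)).Normal := Subgroup.normalClosure_normal
  have hzM : z ∈ Subgroup.normalClosure ({z} : Set G) :=
    Subgroup.subset_normalClosure (Set.mem_singleton z)
  have hn : ((Subgroup.normalClosure ({z} : Set G)).subgroupOf L).Normal := inferInstance
  rcases hn.eq_bot_or_eq_top with hb | ht
  · exfalso
    apply h.not_le_centralizer hL
    intro l hl
    have hzn := h.mem_normalizer_component hF hL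
    have h1 : l * z * l⁻¹ * z⁻¹ ∈ Subgroup.normalClosure ({z} : Set G) :=
      Subgroup.mul_mem _ (hMn.conj_mem z hzM l) (Subgroup.inv_mem _ hzM)
    have h2 : l * z * l⁻¹ * z⁻¹ ∈ L := by
      have : l * z * l⁻¹ * z⁻¹ = l * (z * l⁻¹ * z⁻¹) := by group
      rw [this]
      exact Subgroup.mul_mem _ hl
        ((Subgroup.mem_normalizer_iff.mp hzn l⁻¹).mp (Subgroup.inv_mem _ hl))
    have h3 : (⟨l * z * l⁻¹ * z⁻¹, h2⟩ : L) ∈
        (Subgroup.normalClosure ({z} : Set G)).subgroupOf L := by
      rw [Subgroup.mem_subgroupOf]; exact h1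
    rw [hb, Subgroup.mem_bot] at h3
    have h4 : l * z * l⁻¹ * z⁻¹ = 1 := congrArg Subtype.val h3
    rw [Subgroup.mem_centralizer_iff]
    intro w hw
    rw [Set.mem_singleton_iff] at hw
    rw [hw]
    have : l * z = z * l := by
      have := mul_eq_one_iff_eq_inv.mp h4
      rw [inv_inv] at this
      have h5 : l * z * l⁻¹ * l = z * l := by rw [this]
      simpa using h5
    exact this.symm
  · intro l hl
    have : (⟨l, hl⟩ : L) ∈ (Subgroup.normalClosure ({z} : Set G)).subgroupOf L := by
      rw [ht]; exact Subgroup.mem_top _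
    exact this

theorem normalClosure_eq_layer (h : LES Q z) (hO : pCore 2 G = ⊥) :
    Subgroup.normalClosure ({z} : Set G) = layer G := by
  have hF := h.fittingSubgroup_eq_bot hO
  apply le_antisymm
  · have := Cfsg.Agent.Lib.Helper29.layer_normal G
    exact Subgroup.normalClosure_le_normal (Set.singleton_subset_iff.mpr (h.mem_layer hO))
  · apply sSup_le
    intro L hL
    exact h.component_le_normalClosure hF hL

end LES

end Cfsg.Agent.Lib.Helper48
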