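/-
helper48 shared library: large extraspecial `2`-subgroups, part 4 (orbits of `Q` on components).
-/
import Mathlib
import Cfsg.Agent.Lib.Helper48.LargeES3
import Cfsg.Agent.S4403
import Cfsg.Agent.Lib.Helper2.Burnside
import Cfsg.Agent.Lib.Helper48.PMinimal

set_option autoImplicit false

namespace Cfsg.Agent.Lib.Helper48

open Cfsg Cfsg.Agent.Lib.Helper22 Cfsg.Agent.Lib.Helper33

variable {G : Type*} [Group G]

theorem eq_of_mul_eq_mul_of_inf {A B : Subgroup G} (hinf : A ⊓ B = ⊥) {a a' b b' : G} (ha : a ∈ A)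
    (ha' : a' ∈ A) (hb : b ∈ B) (hb' : b' ∈ B) (he : a * b = a' * b') : a = a' ∧ b = b' := by
  have h1 : a'⁻¹ * a = b' * b⁻¹ := by
    have := congrArg (fun t => a'⁻¹ * t * b⁻¹) he
    simpa [mul_assoc] using this
  have h2 : a'⁻¹ * a ∈ A ⊓ B :=
    ⟨A.mul_mem (A.inv_mem ha') ha, by rw [h1]; exact B.mul_mem hb' (B.inv_mem hb)⟩
  rw [hinf, Subgroup.mem_bot, inv_mul_eq_one] at h2
  refine ⟨h2.symm, ?_⟩
  rw [← h2] at he
  exact mul_left_cancel he

namespace LES

variable [Finite G] {Q : Subgroup G} {z : G}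

theorem centralizer_inf_component_ne_bot (h : LES Q z) {L : Subgroup G} (hL : IsComponent L) :
    Subgroup.centralizer ({z} : Set G) ⊓ L ≠ ⊥ := by
  have : Fact (Nat.Prime 2) := ⟨Nat.prime_two⟩
  obtain ⟨T, -, hTH⟩ := h.exists_sylow
  have := sylow_inf_component_ne_bot T hL.1 (component_dvd_card h.pPrimeCore_eq_bot hL)
  intro hb
  apply this
  rw [eq_bot_iff, ← hb]
  exact inf_le_inf_right _ hTH

/-- `C_L(z)` cannot have a unique nontrivial element. -/
theorem false_of_unique (h : LES Q z) {L : Subgroup G} (hL : IsComponent L)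
    (huniq : ∀ p ∈ Subgroup.centralizer ({z} : Set G) ⊓ L,
      ∀ p' ∈ Subgroup.centralizer ({z} : Set G) ⊓ L, p ≠ 1 → p' ≠ 1 → p = p') : False := by
  have : Fact (Nat.Prime 2) := ⟨Nat.prime_two⟩
  obtain ⟨T, -, hTH⟩ := h.exists_sylow
  obtain ⟨P, hP⟩ := Cfsg.Agent.Lib.Helper49.exists_sylow_eq_subgroupOf_of_isSubnormal T hL.1
  have hdvd : 2 ∣ Nat.card L := component_dvd_card h.pPrimeCore_eq_bot hL
  have : Group.IsPerfect L := hL.2.1
  apply Cfsg.Agent.S4403.not_hasNormalPComplement_of_isPerfect 2 hdvd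
  apply Cfsg.Agent.Lib.Helper2.hasNormalPComplement_of_normalizer_le_centralizer P
  intro n hn
  rw [Subgroup.mem_centralizer_iff]
  intro s hs
  have hs' : n * s * n⁻¹ ∈ (P : Subgroup L) := (Subgroup.mem_normalizer_iff.mp hn s).mp hs
  by_cases hs1 : s = 1
  · rw [hs1, one_mul, mul_one]
  · have hmem : ∀ x : L, x ∈ (P : Subgroup L) →
        (x : G) ∈ Subgroup.centralizer ({z} : Set G) ⊓ L := by
      intro x hx
      rw [hP, Subgroup.mem_subgroupOf] at hx
      exact ⟨hTH hx, x.2⟩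
    have hne : n * s * n⁻¹ ≠ 1 := by
      intro h1
      apply hs1
      have := congrArg (fun t => n⁻¹ * t * n) h1
      simpa [mul_assoc] using this
    have := huniq _ (hmem _ hs') _ (hmem _ hs) (fun h1 => hne (Subtype.ext h1))
      (fun h1 => hs1 (Subtype.ext h1))
    have h2 : n * s * n⁻¹ = s := Subtype.ext this
    calc s * n = (n * s * n⁻¹) * n := by rw [h2]
      _ = n * s := by group

/-- Three elements `a, b, ba` of `Q` cannot all move the component `L`. -/
theorem false_of_three (h : LES Q z) (hF : fittingSubgroup G = ⊥) {L : Subgroup G}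
    (hL : IsComponent L) {a b : G} (ha : a ∈ Q) (hb : b ∈ Q) (h1 : cj a L ≠ L) (h2 : cj b L ≠ L)
    (h3 : cj (b * a) L ≠ L) : False := by
  have hcl := inf_centralizer_eq_bot_of_center (component_center_eq_bot hF hL)
  have hC : ∀ g : G, cj g L ≠ L → cj g L ≤ Subgroup.centralizer (L : Set G) := fun g hg =>
    comp_comm hL (component_conj hL g) (Ne.symm hg)
  have key : ∀ p ∈ Subgroup.centralizer ({z} : Set G) ⊓ L, p ≠ 1 →
      p * z ∈ Subgroup.centralizer (L : Set G) := by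
    intro p hp hp1
    have hyQ : p⁻¹ * a * p * a⁻¹ ∈ Q := by
      have := h.comm_mem_of_centralizer (Subgroup.inv_mem _ hp.1) ha
      simpa using this
    have hc := h.comm_mem _ hyQ b hb
    have hwC : (a * p * a⁻¹) * ((b * a) * p⁻¹ * (b * a)⁻¹) * (b * p * b⁻¹) ∈
        Subgroup.centralizer (L : Set G) :=
      Subgroup.mul_mem _ (Subgroup.mul_mem _ (hC a h1 (conj_mem_cj hp.2))
        (hC (b * a) h3 (conj_mem_cj (L.inv_mem hp.2)))) (hC b h2 (conj_mem_cj hp.2))
    have hexp : (p⁻¹ * a * p * a⁻¹) * b * (p⁻¹ * a * p * a⁻¹)⁻¹ * b⁻¹ =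
        p⁻¹ * ((a * p * a⁻¹) * ((b * a) * p⁻¹ * (b * a)⁻¹) * (b * p * b⁻¹)) := by group
    rw [hexp] at hc
    rcases hc with hc | hc
    · exfalso
      apply hp1
      have hpw := inv_mul_eq_one.mp hc
      have hm : p ∈ L ⊓ Subgroup.centralizer (L : Set G) := ⟨hp.2, by rw [hpw]; exact hwC⟩
      rw [hcl, Subgroup.mem_bot] at hm
      exact hm
    · have : (a * p * a⁻¹) * ((b * a) * p⁻¹ * (b * a)⁻¹) * (b * p * b⁻¹) = p * z := by
        rw [← hc]; group
      rw [← this]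
      exact hwC
  apply h.false_of_unique hL
  intro p hp p' hp' hp1 hp'1
  have k1 := key p hp hp1
  have k2 := key p' hp' hp'1
  have hm : p⁻¹ * p' ∈ L ⊓ Subgroup.centralizer (L : Set G) := by
    refine ⟨L.mul_mem (L.inv_mem hp.2) hp'.2, ?_⟩
    have : p⁻¹ * p' = (p * z)⁻¹ * (p' * z) := by
      have hz' : p' * z = z * p' := comm_of_mem_centralizer hp'.1
      have hz : p * z = z * p := comm_of_mem_centralizer hp.1
      rw [hz, hz']; group
    rw [this]
    exact Subgroup.mul_mem _ (Subgroup.inv_mem _ k1) k2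
  rw [hcl, Subgroup.mem_bot, inv_mul_eq_one] at hm
  exact hm

/-- If `u ∈ Q` moves `L`, the `Q`-orbit of `L` is `{L, uLu⁻¹}`. -/
theorem conj_eq_or (h : LES Q z) (hF : fittingSubgroup G = ⊥) {L : Subgroup G}
    (hL : IsComponent L) {u : G} (hu : u ∈ Q) (hnu : cj u L ≠ L) :
    ∀ a ∈ Q, cj a L = L ∨ cj a L = cj u L := by
  intro a ha
  by_contra hcon
  push Not at hcon
  obtain ⟨c1, c2⟩ := hcon
  apply h.false_of_three hF hL ha (Q.inv_mem hu) c1
  · intro he
    apply hnu
    have := congrArg (cj u) he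
    rw [cj_cj_inv] at this
    exact this.symm
  · intro he
    apply c2
    rw [cj_mul] at he
    have := congrArg (cj u) he
    rw [cj_cj_inv] at this
    exact this

theorem sup_normalized (h : LES Q z) (hF : fittingSubgroup G = ⊥) {L : Subgroup G}
    (hL : IsComponent L) {u : G} (hu : u ∈ Q) (hnu : cj u L ≠ L) :
    Q ≤ Subgroup.normalizer ((L ⊔ cj u L : Subgroup G) : Set G) := by
  intro a ha
  rw [mem_normalizer_iff_cj_eq, cj_sup, ← cj_mul]
  have e1 := h.conj_eq_or hF hL hu hnu a ha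
  have e2 := h.conj_eq_or hF hL hu hnu (a * u) (Q.mul_mem ha hu)
  have hne : cj a L ≠ cj (a * u) L := by
    intro he
    rw [cj_mul] at he
    exact hnu (cj_injective a he).symm
  rcases e1 with e1 | e1 <;> rcases e2 with e2 | e2
  · exact absurd (e1.trans e2.symm) hne
  · rw [e1, e2]
  · rw [e1, e2, sup_comm]
  · exact absurd (e1.trans e2.symm) hne

theorem mem_sup (h : LES Q z) (hF : fittingSubgroup G = ⊥) {L : Subgroup G}
    (hL : IsComponent L) {u : G} (hu : u ∈ Q) (hnu : cj u L ≠ L) : z ∈ L ⊔ cj u L := by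
  have hL₂ : IsComponent (cj u L) := component_conj hL u
  have hinf := comp_inf hF hL hL₂ (Ne.symm hnu)
  obtain ⟨p, hp1⟩ := (Subgroup.ne_bot_iff_exists_ne_one).mp (h.centralizer_inf_component_ne_bot hL)
  have hpH : (p : G) ∈ Subgroup.centralizer ({z} : Set G) := p.2.1
  have hpL : (p : G) ∈ L := p.2.2
  have hyQ : (p : G)⁻¹ * u * p * u⁻¹ ∈ Q := by
    have := h.comm_mem_of_centralizer (Subgroup.inv_mem _ hpH) hu
    simpa using this
  have hyD : (p : G)⁻¹ * u * p * u⁻¹ ∈ L ⊔ cj u L := by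
    have : (p : G)⁻¹ * u * p * u⁻¹ = (p : G)⁻¹ * (u * p * u⁻¹) := by group
    rw [this]
    exact Subgroup.mul_mem _ (Subgroup.mem_sup_left (L.inv_mem hpL))
      (Subgroup.mem_sup_right (conj_mem_cj hpL))
  have hy1 : (p : G)⁻¹ * u * p * u⁻¹ ≠ 1 := by
    intro he
    apply hp1
    have h1 : u * (p : G) * u⁻¹ = p := by
      have : (p : G)⁻¹ * u * p * u⁻¹ = (p : G)⁻¹ * (u * p * u⁻¹) := by group
      rw [this, inv_mul_eq_one] at he
      exact he.symm
    have hm : (p : G) ∈ L ⊓ cj u L := ⟨hpL, by rw [← h1]; exact conj_mem_cj hpL⟩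
    rw [hinf, Subgroup.mem_bot] at hm
    exact Subtype.ext hm
  have hYne : (L ⊔ cj u L) ⊓ Q ≠ ⊥ := by
    intro hb
    have : (p : G)⁻¹ * u * p * u⁻¹ ∈ (L ⊔ cj u L) ⊓ Q := ⟨hyD, hyQ⟩
    rw [hb, Subgroup.mem_bot] at this
    exact hy1 this
  have hn := h.sup_normalized hF hL hu hnu
  have hz := h.mem_of_normalized (h.isP.to_le inf_le_right) hYne (by
    apply le_normalizer_of_forall_conj_mem
    intro q hq x hx
    exact ⟨(Subgroup.mem_normalizer_iff.mp (hn hq) x).mp hx.1,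
      Subgroup.mul_mem _ (Subgroup.mul_mem _ hq hx.2) (Subgroup.inv_mem _ hq)⟩)
  exact hz.1

theorem comm_of_ne {L L' : Subgroup G} (hL : IsComponent L) (hL' : IsComponent L') (hne : L ≠ L') :
    ∀ a ∈ L, ∀ b ∈ L', a * b = b * a := fun a ha b hb =>
  Subgroup.mem_centralizer_iff.mp (comp_comm hL hL' hne hb) a ha

theorem layer_eq_sup (h : LES Q z) {L : Subgroup G}
    (hL : IsComponent L) {u : G} (hnu : cj u L ≠ L) (hzD : z ∈ L ⊔ cj u L) :
    layer G = L ⊔ cj u L := by
  have hL₂ : IsComponent (cj u L) := component_conj hL u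
  apply le_antisymm
  · apply sSup_le
    intro L' hL'
    have hL' : IsComponent L' := hL'
    by_contra hcon
    have n1 : L ≠ L' := fun e => hcon (e ▸ le_sup_left)
    have n2 : cj u L ≠ L' := fun e => hcon (e ▸ le_sup_right)
    apply h.not_le_centralizer hL'
    intro l' hl'
    obtain ⟨z₁, hz₁, z₂, hz₂, hzz⟩ := exists_mul_of_mem_sup_of_forall_commute L (cj u L)
      (comm_of_ne hL hL₂ (Ne.symm hnu)) hzD
    have e1 : z₁ * l' = l' * z₁ := comm_of_ne hL hL' n1 z₁ hz₁ l' hl'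
    have e2 : z₂ * l' = l' * z₂ := comm_of_ne hL₂ hL' n2 z₂ hz₂ l' hl'
    rw [Subgroup.mem_centralizer_iff]
    intro w hw
    rw [Set.mem_singleton_iff] at hw
    rw [hw, hzz, mul_assoc, e2, ← mul_assoc, e1, mul_assoc]
  · exact sup_le (component_le_layer hL) (component_le_layer hL₂)

end LES

end Cfsg.Agent.Lib.Helper48
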