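/-
helper48 shared library: large extraspecial `2`-subgroups, part 5 (the two cases for `F*(G)`).
-/
import Mathlib
import Cfsg.Agent.Lib.Helper48.LargeES4
import Cfsg.Agent.Lib.Helper86.P4Two

set_option autoImplicit false

namespace Cfsg.Agent.Lib.Helper48

open Cfsg Cfsg.Agent.Lib.Helper22 Cfsg.Agent.Lib.Helper33
open scoped commutatorElement

variable {G : Type*} [Group G]

namespace LES

variable [Finite G] {Q : Subgroup G} {z : G}

/-- If `Q` normalizes the component `L` then `z ∈ L`. -/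
theorem mem_of_normalizes (h : LES Q z) {L : Subgroup G} (hL : IsComponent L)
    (hQL : Q ≤ Subgroup.normalizer (L : Set G)) : z ∈ L := by
  by_cases hW : L ⊓ Q = ⊥
  · obtain ⟨p, hp1⟩ :=
      (Subgroup.ne_bot_iff_exists_ne_one).mp (h.centralizer_inf_component_ne_bot hL)
    have hpH : (p : G) ∈ Subgroup.centralizer ({z} : Set G) := p.2.1
    have hpL : (p : G) ∈ L := p.2.2
    have hcent : ∀ q ∈ Q, q * (p : G) = p * q := by
      intro q hq
      have h1 : (p : G) * q * (p : G)⁻¹ * q⁻¹ ∈ L ⊓ Q := by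
        refine ⟨?_, h.comm_mem_of_centralizer hpH hq⟩
        have : (p : G) * q * (p : G)⁻¹ * q⁻¹ = p * (q * (p : G)⁻¹ * q⁻¹) := by group
        rw [this]
        exact L.mul_mem hpL ((Subgroup.mem_normalizer_iff.mp (hQL hq) _).mp (L.inv_mem hpL))
      rw [hW, Subgroup.mem_bot] at h1
      have h2 : (p : G) * q * (p : G)⁻¹ = q := by
        have := mul_eq_one_iff_eq_inv.mp h1
        rwa [inv_inv] at this
      calc q * (p : G) = ((p : G) * q * (p : G)⁻¹) * p := by rw [h2]
        _ = p * q := by group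
    rcases h.cent p hcent with h1 | h1
    · exact absurd (Subtype.ext h1) hp1
    · rw [← h1]; exact hpL
  · have hz := h.mem_of_normalized (h.isP.to_le inf_le_right) hW (by
      apply le_normalizer_of_forall_conj_mem
      intro q hq x hx
      exact ⟨(Subgroup.mem_normalizer_iff.mp (hQL hq) x).mp hx.1,
        Subgroup.mul_mem _ (Subgroup.mul_mem _ hq hx.2) (Subgroup.inv_mem _ hq)⟩)
    exact hz.1

theorem layer_eq_of_mem (h : LES Q z) {L : Subgroup G} (hL : IsComponent L) (hzL : z ∈ L) :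
    layer G = L := by
  apply le_antisymm
  · apply sSup_le
    intro L' hL'
    have hL' : IsComponent L' := hL'
    by_contra hcon
    have n1 : L ≠ L' := fun e => hcon (e ▸ le_rfl)
    apply h.not_le_centralizer hL'
    intro l' hl'
    rw [Subgroup.mem_centralizer_iff]
    intro w hw
    rw [Set.mem_singleton_iff] at hw
    rw [hw]
    exact comm_of_ne hL hL' n1 z hzL l' hl'
  · exact component_le_layer hL

/-- **The case of a component normalized by `Q`.** -/
theorem case_normalized (h : LES Q z) (hO : pCore 2 G = ⊥) {L : Subgroup G} (hL : IsComponent L)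
    (hQL : Q ≤ Subgroup.normalizer (L : Set G)) :
    Subgroup.normalClosure ({z} : Set G) = generalizedFittingSubgroup G ∧
      IsSimpleGroup (Subgroup.normalClosure ({z} : Set G)) ∧
      ¬ IsMulCommutative (Subgroup.normalClosure ({z} : Set G)) := by
  have hF := h.fittingSubgroup_eq_bot hO
  have hML : Subgroup.normalClosure ({z} : Set G) = L := by
    rw [h.normalClosure_eq_layer hO]
    exact h.layer_eq_of_mem hL (h.mem_of_normalizes hL hQL)
  refine ⟨?_, ?_, ?_⟩
  · rw [h.gfs_eq_layer hO, h.normalClosure_eq_layer hO]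
  · rw [hML]
    exact component_isSimpleGroup hL (component_center_eq_bot hF hL)
  · rw [hML]
    exact component_not_isMulCommutative hL

/-- **The case of a component moved by `u ∈ Q`.** -/
theorem case_moved (h : LES Q z) (hO : pCore 2 G = ⊥) {L : Subgroup G} (hL : IsComponent L)
    {u : G} (hu : u ∈ Q) (hnu : cj u L ≠ L) :
    Subgroup.normalClosure ({z} : Set G) = generalizedFittingSubgroup G ∧
    IsSimpleGroup L ∧ ¬ IsMulCommutative L ∧ L ⊓ cj u L = ⊥ ∧
    (∀ x ∈ L, ∀ y ∈ cj u L, x * y = y * x) ∧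
    L ⊔ cj u L = Subgroup.normalClosure ({z} : Set G) ∧
    ∃ z₁ ∈ L, z = z₁ * (u * z₁ * u⁻¹) ∧
      (∃ R : Sylow 2 L, (R : Subgroup L) = (Subgroup.centralizer ({z₁} : Set G)).subgroupOf L ∧
        (frattini (R : Subgroup L)).map ((L.subtype).comp (R : Subgroup L).subtype) ≤
          Subgroup.zpowers z₁) ∧
      Q ≠ (pCore 2 (Subgroup.centralizer ({z} : Set G))).map
        (Subgroup.centralizer ({z} : Set G)).subtype := by
  have : Fact (Nat.Prime 2) := ⟨Nat.prime_two⟩
  have hF := h.fittingSubgroup_eq_bot hO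
  have hL₂ : IsComponent (cj u L) := component_conj hL u
  have hinf := comp_inf hF hL hL₂ (Ne.symm hnu)
  have hcomm := comm_of_ne hL hL₂ (Ne.symm hnu)
  have hzD := h.mem_sup hF hL hu hnu
  have hlayer := h.layer_eq_sup hL hnu hzD
  have hM := h.normalClosure_eq_layer hO
  obtain ⟨z₁, hz₁, z₂, hz₂, hzz⟩ := exists_mul_of_mem_sup_of_forall_commute L (cj u L) hcomm hzD
  have huu : cj (u * u) L = L := by
    rcases h.sq_mem u hu with e | e
    · rw [e, cj_one]
    · rw [e]; exact cj_eq_self_of_mem_normalizer (h.mem_normalizer_component hF hL)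
  have hz₂' : z₂ = u * z₁ * u⁻¹ := by
    have huz : u * z * u⁻¹ = z := by
      rw [h.z_comm u hu]; group
    have h1 : u * z₂ * u⁻¹ ∈ L := by
      have := conj_mem_cj (g := u) hz₂
      rw [← cj_mul, huu] at this
      exact this
    have h2 : u * z₁ * u⁻¹ ∈ cj u L := conj_mem_cj hz₁
    have he : z₁ * z₂ = (u * z₂ * u⁻¹) * (u * z₁ * u⁻¹) := by
      calc z₁ * z₂ = z := hzz.symm
        _ = u * z * u⁻¹ := huz.symm
        _ = (u * z₁ * u⁻¹) * (u * z₂ * u⁻¹) := by rw [hzz]; group
        _ = (u * z₂ * u⁻¹) * (u * z₁ * u⁻¹) := (hcomm _ h1 _ h2).symm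
    exact (eq_of_mul_eq_mul_of_inf hinf hz₁ h1 hz₂ h2 he).2
  -- `C_L(z₁) = C_L(z)`
  have hcz : ∀ l ∈ L, (l * z₁ = z₁ * l ↔ l * z = z * l) := by
    intro l hl
    have hl2 : l * z₂ = z₂ * l := hcomm l hl z₂ hz₂
    rw [hzz]
    constructor
    · intro e
      rw [← mul_assoc, e, mul_assoc, hl2, ← mul_assoc]
    · intro e
      have : l * z₁ * z₂ = z₁ * l * z₂ :=
        calc l * z₁ * z₂ = l * (z₁ * z₂) := mul_assoc _ _ _
          _ = z₁ * z₂ * l := e
          _ = z₁ * (z₂ * l) := mul_assoc _ _ _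
          _ = z₁ * (l * z₂) := by rw [hl2]
          _ = z₁ * l * z₂ := (mul_assoc _ _ _).symm
      exact mul_right_cancel this
  -- elements of `C_L(z₁)` are `2`-elements with square in `{1, z₁}`
  have htwo : ∀ x ∈ L, x * z₁ = z₁ * x →
      (∃ k : ℕ, x ^ (2 ^ k) = 1) ∧ (x * x = 1 ∨ x * x = z₁) := by
    intro x hx hxz
    have hxH : x ∈ Subgroup.centralizer ({z} : Set G) := by
      rw [Subgroup.mem_centralizer_iff]
      intro w hw
      rw [Set.mem_singleton_iff] at hw
      rw [hw]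
      exact ((hcz x hx).mp hxz).symm
    have hyQ : x * u * x⁻¹ * u⁻¹ ∈ Q := h.comm_mem_of_centralizer hxH hu
    have hy : x * u * x⁻¹ * u⁻¹ = x * (u * x⁻¹ * u⁻¹) := by group
    have hm : u * x⁻¹ * u⁻¹ ∈ cj u L := conj_mem_cj (L.inv_mem hx)
    have hcm : Commute x (u * x⁻¹ * u⁻¹) := hcomm x hx _ hm
    have hmm : (u * x⁻¹ * u⁻¹) * (u * x⁻¹ * u⁻¹) ∈ cj u L := Subgroup.mul_mem _ hm hm
    constructor
    · obtain ⟨k, hk⟩ := h.isP ⟨_, hyQ⟩
      refine ⟨k, ?_⟩
      have hk' : (x * u * x⁻¹ * u⁻¹) ^ (2 ^ k) = 1 := by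
        have := congrArg Subtype.val hk
        simpa using this
      rw [hy, hcm.mul_pow] at hk'
      have hmem : x ^ (2 ^ k) ∈ L ⊓ cj u L :=
        ⟨L.pow_mem hx _, by
          rw [eq_inv_of_mul_eq_one_left hk']
          exact (cj u L).inv_mem ((cj u L).pow_mem hm _)⟩
      rw [hinf, Subgroup.mem_bot] at hmem
      exact hmem
    · rcases h.sq_mem _ hyQ with e | e
      · left
        rw [hy, hcm.symm.mul_mul_mul_comm] at e
        exact (eq_of_mul_eq_mul_of_inf hinf (L.mul_mem hx hx) L.one_mem hmm (cj u L).one_mem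
          (by rw [e, one_mul])).1
      · right
        rw [hy, hcm.symm.mul_mul_mul_comm, hzz] at e
        exact (eq_of_mul_eq_mul_of_inf hinf (L.mul_mem hx hx) hz₁ hmm hz₂ e).1
  -- `C_L(z₁)` is a `2`-group
  have hP₁ : IsPGroup 2 ((Subgroup.centralizer ({z₁} : Set G)).subgroupOf L) := by
    intro x
    have hx : (x : L) ∈ (Subgroup.centralizer ({z₁} : Set G)).subgroupOf L := x.2
    rw [Subgroup.mem_subgroupOf, Subgroup.mem_centralizer_iff] at hx
    obtain ⟨k, hk⟩ := (htwo (x : L) (x : L).2 (hx z₁ rfl).symm).1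
    exact ⟨k, Subtype.ext (Subtype.ext (by simpa using hk))⟩
  obtain ⟨T, -, hTH⟩ := h.exists_sylow
  obtain ⟨R, hR⟩ := Cfsg.Agent.Lib.Helper49.exists_sylow_eq_subgroupOf_of_isSubnormal T hL.1
  have hRP : (R : Subgroup L) = (Subgroup.centralizer ({z₁} : Set G)).subgroupOf L := by
    have hle : (R : Subgroup L) ≤ (Subgroup.centralizer ({z₁} : Set G)).subgroupOf L := by
      intro x hx
      rw [hR, Subgroup.mem_subgroupOf] at hx
      rw [Subgroup.mem_subgroupOf, Subgroup.mem_centralizer_iff]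
      intro w hw
      rw [Set.mem_singleton_iff] at hw
      rw [hw]
      exact ((hcz x x.2).mpr (comm_of_mem_centralizer (hTH hx))).symm
    exact (R.is_maximal' hP₁ hle).symm
  -- Frattini subgroup
  have hfrat : (frattini (R : Subgroup L)).map ((L.subtype).comp (R : Subgroup L).subtype) ≤
      Subgroup.zpowers z₁ := by
    have hRz : ∀ r : (R : Subgroup L),
        ((L.subtype).comp (R : Subgroup L).subtype) r * z₁ =
          z₁ * ((L.subtype).comp (R : Subgroup L).subtype) r := by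
      intro r
      have hr : (r : L) ∈ (Subgroup.centralizer ({z₁} : Set G)).subgroupOf L := by
        rw [← hRP]; exact r.2
      rw [Subgroup.mem_subgroupOf, Subgroup.mem_centralizer_iff] at hr
      exact (hr z₁ rfl).symm
    have hNn : ((Subgroup.zpowers z₁).comap ((L.subtype).comp (R : Subgroup L).subtype)).Normal := by
      constructor
      intro n hn g
      rw [Subgroup.mem_comap] at hn ⊢
      rw [map_mul, map_mul, map_inv]
      obtain ⟨k, hk⟩ := Subgroup.mem_zpowers_iff.mp hn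
      have hc : Commute (((L.subtype).comp (R : Subgroup L).subtype) g) z₁ := hRz g
      have h2 := (hc.zpow_right k).eq
      rw [← hk, h2, mul_inv_cancel_right]
      exact Subgroup.zpow_mem_zpowers z₁ k
    have hsq : ∀ x : (R : Subgroup L),
        x ^ 2 ∈ (Subgroup.zpowers z₁).comap ((L.subtype).comp (R : Subgroup L).subtype) := by
      intro x
      rw [Subgroup.mem_comap, map_pow, pow_two]
      rcases (htwo (((L.subtype).comp (R : Subgroup L).subtype) x) (x : L).2 (hRz x)).2 with e | e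
      · rw [e]; exact one_mem _
      · rw [e]; exact Subgroup.mem_zpowers _
    have hc : commutator (R : Subgroup L) ≤
        (Subgroup.zpowers z₁).comap ((L.subtype).comp (R : Subgroup L).subtype) := by
      rw [commutator_def, Subgroup.commutator_le]
      intro a _ b _
      have : ⁅a, b⁆ = a ^ 2 * (a⁻¹ * b) ^ 2 * (b⁻¹) ^ 2 := by
        rw [commutatorElement_def, pow_two, pow_two, pow_two]; group
      rw [this]
      exact Subgroup.mul_mem _ (Subgroup.mul_mem _ (hsq a) (hsq _)) (hsq _)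
    have := Cfsg.Agent.Lib.Helper86.frattini_le_of_quotient_elemAb 2 _ hc hsq
    calc (frattini (R : Subgroup L)).map ((L.subtype).comp (R : Subgroup L).subtype)
        ≤ ((Subgroup.zpowers z₁).comap ((L.subtype).comp (R : Subgroup L).subtype)).map
          ((L.subtype).comp (R : Subgroup L).subtype) := Subgroup.map_mono this
      _ ≤ Subgroup.zpowers z₁ := Subgroup.map_comap_le _ _
  -- `Q ≠ O_2(C_G(z))`
  have hQne : Q ≠ (pCore 2 (Subgroup.centralizer ({z} : Set G))).map
      (Subgroup.centralizer ({z} : Set G)).subtype := by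
    intro hQe
    have hN₂ : ∀ e ∈ layer G ⊓ Subgroup.centralizer ({z} : Set G), ∃ k : ℕ, e ^ (2 ^ k) = 1 := by
      intro e he
      rw [hlayer] at he
      obtain ⟨l, hl, m, hm, rfl⟩ :=
        exists_mul_of_mem_sup_of_forall_commute L (cj u L) hcomm he.1
      have hez : (l * m) * z = z * (l * m) := comm_of_mem_centralizer he.2
      have c1 : z₁ * m = m * z₁ := hcomm z₁ hz₁ m hm
      have hmz : m * z₂ * m⁻¹ ∈ cj u L :=
        Subgroup.mul_mem _ (Subgroup.mul_mem _ hm hz₂) (Subgroup.inv_mem _ hm)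
      have c2 : l⁻¹ * (m * z₂ * m⁻¹) = (m * z₂ * m⁻¹) * l⁻¹ := hcomm _ (L.inv_mem hl) _ hmz
      have hconj : (l * z₁ * l⁻¹) * (m * z₂ * m⁻¹) = z₁ * z₂ := by
        calc (l * z₁ * l⁻¹) * (m * z₂ * m⁻¹) = l * z₁ * (l⁻¹ * (m * z₂ * m⁻¹)) := by group
          _ = l * z₁ * ((m * z₂ * m⁻¹) * l⁻¹) := by rw [c2]
          _ = l * (z₁ * m) * z₂ * m⁻¹ * l⁻¹ := by group
          _ = l * (m * z₁) * z₂ * m⁻¹ * l⁻¹ := by rw [c1]
          _ = (l * m) * (z₁ * z₂) * (l * m)⁻¹ := by group
          _ = z₁ * z₂ := by rw [← hzz, hez]; group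
      obtain ⟨e1, e2⟩ := eq_of_mul_eq_mul_of_inf hinf
        (L.mul_mem (L.mul_mem hl hz₁) (L.inv_mem hl)) hz₁ hmz hz₂ hconj
      have hl1 : l * z₁ = z₁ * l := by
        calc l * z₁ = (l * z₁ * l⁻¹) * l := by group
          _ = z₁ * l := by rw [e1]
      obtain ⟨k1, hk1⟩ := (htwo l hl hl1).1
      have hl' : u⁻¹ * m * u ∈ L := mem_cj.mp hm
      have e2' : m * (u * z₁ * u⁻¹) = (u * z₁ * u⁻¹) * m := by
        rw [← hz₂']
        calc m * z₂ = (m * z₂ * m⁻¹) * m := by group
          _ = z₂ * m := by rw [e2]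
      have hl'z : (u⁻¹ * m * u) * z₁ = z₁ * (u⁻¹ * m * u) := by
        calc (u⁻¹ * m * u) * z₁ = u⁻¹ * (m * (u * z₁ * u⁻¹)) * u := by group
          _ = u⁻¹ * ((u * z₁ * u⁻¹) * m) * u := by rw [e2']
          _ = z₁ * (u⁻¹ * m * u) := by group
      obtain ⟨k2, hk2⟩ := (htwo _ hl' hl'z).1
      have hm2 : m ^ (2 ^ k2) = 1 := by
        have hmm : m = u * (u⁻¹ * m * u) * u⁻¹ := by group
        rw [hmm, conj_pow, hk2]; group
      refine ⟨k1 + k2, ?_⟩
      have hcm : Commute l m := hcomm l hl m hm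
      rw [hcm.mul_pow, pow_add, pow_mul, hk1, one_pow, mul_comm (2 ^ k1) (2 ^ k2), pow_mul, hm2,
        one_pow, mul_one]
    have hN₂n : ((layer G ⊓ Subgroup.centralizer ({z} : Set G)).subgroupOf
        (Subgroup.centralizer ({z} : Set G))).Normal :=
      Subgroup.normal_subgroupOf_of_le_normalizer
        (le_normalizer_normal_inf (Cfsg.Agent.Lib.Helper29.layer_normal G) _)
    have hN₂p : IsPGroup 2 ((layer G ⊓ Subgroup.centralizer ({z} : Set G)).subgroupOf
        (Subgroup.centralizer ({z} : Set G))) := by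
      intro x
      obtain ⟨k, hk⟩ := hN₂ (x : Subgroup.centralizer ({z} : Set G)) (Subgroup.mem_subgroupOf.mp x.2)
      exact ⟨k, Subtype.ext (Subtype.ext (by simpa using hk))⟩
    have hle := Cfsg.Agent.Lib.Helper97.le_pCore_of_normal hN₂n hN₂p
    have hPQ : ∀ p ∈ Subgroup.centralizer ({z} : Set G) ⊓ L, p ∈ Q := by
      intro p hp
      rw [hQe]
      refine ⟨⟨p, hp.1⟩, hle ?_, rfl⟩
      rw [Subgroup.mem_subgroupOf]
      exact ⟨component_le_layer hL hp.2, hp.1⟩
    apply h.false_of_unique hL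
    have hall : ∀ p ∈ Subgroup.centralizer ({z} : Set G) ⊓ L, p ≠ 1 → p = z₁ := by
      intro p hp hp1
      have hc := h.comm_mem p (hPQ p hp) u hu
      have hy : p * u * p⁻¹ * u⁻¹ = p * (u * p⁻¹ * u⁻¹) := by group
      have hm : u * p⁻¹ * u⁻¹ ∈ cj u L := conj_mem_cj (L.inv_mem hp.2)
      rw [hy] at hc
      rcases hc with e | e
      · exfalso
        apply hp1
        exact (eq_of_mul_eq_mul_of_inf hinf hp.2 L.one_mem hm (cj u L).one_mem
          (by rw [e, one_mul])).1
      · rw [hzz] at e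
        exact (eq_of_mul_eq_mul_of_inf hinf hp.2 hz₁ hm hz₂ e).1
    intro p hp p' hp' hp1 hp'1
    rw [hall p hp hp1, hall p' hp' hp'1]
  refine ⟨?_, component_isSimpleGroup hL (component_center_eq_bot hF hL),
    component_not_isMulCommutative hL, hinf, hcomm, ?_, z₁, hz₁, ?_, ⟨R, hRP, hfrat⟩, hQne⟩
  · rw [h.gfs_eq_layer hO, hM]
  · rw [hM, hlayer]
  · rw [hzz, hz₂']

end LES

end Cfsg.Agent.Lib.Helper48
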