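import Cfsg.Agent.Lib.Helper48.M24BorelData
import Cfsg.Agent.Lib.Helper7.M24OctStab

set_option autoImplicit false

namespace Cfsg.Agent.Lib.Helper48

open Cfsg Cfsg.Agent.Lib.Helper7 Cfsg.Agent.Lib.Helper27
open scoped Pointwise

/-! ### Colourings and the subgroup -/

/-- 4-block labels: `0` on `{∞,0,1,2}`, `1` on `{3,5,14,17}`, `2` elsewhere -/
def c4L : List ℕ := [0, 0, 0, 1, 2, 1, 2, 2, 2, 2, 2, 2, 2, 2, 1, 2, 2, 1, 2, 2, 2, 2, 2, 0]

/-- pair labels: `0` on `{∞,0}`, `1` on `{1,2}`, `2` on `{3,5}`, `3` on `{14,17}`, `4` elsewhere -/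
def c2L : List ℕ := [0, 1, 1, 2, 4, 2, 4, 4, 4, 4, 4, 4, 4, 4, 3, 4, 4, 3, 4, 4, 4, 4, 4, 0]

/-- 4-block label of a point -/
def k4 (p : GolayPt) : ℕ := c4L.getD (idx p) 9

/-- pair label of a point -/
def k2 (p : GolayPt) : ℕ := c2L.getD (idx p) 9

/-- `s` preserves the partition into colour classes of `col` -/
def Pres (s : Equiv.Perm GolayPt) (col : GolayPt → ℕ) : Prop :=
  ∀ p q, col p = col q ↔ col (s p) = col (s q)

/-- the subgroup of permutations preserving a colouring up to renaming colours -/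
def presSub (col : GolayPt → ℕ) : Subgroup (Equiv.Perm GolayPt) where
  carrier := {s | Pres s col}
  one_mem' := fun _ _ => Iff.rfl
  mul_mem' := by
    intro s t hs ht p q
    rw [Equiv.Perm.mul_apply, Equiv.Perm.mul_apply, ← hs, ← ht]
  inv_mem' := by
    intro s hs p q
    have := hs (s⁻¹ p) (s⁻¹ q)
    simp only [Equiv.apply_symm_apply, Equiv.Perm.inv_def] at this
    exact this.symm

theorem mem_presSub {col : GolayPt → ℕ} {s : Equiv.Perm GolayPt} : s ∈ presSub col ↔ Pres s col :=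
  Iff.rfl

/-- A Sylow 2-subgroup of `M24`: the stabilizer of the octad `setOf octO` and of a nested block
system on it. -/
def borel : Subgroup (Equiv.Perm GolayPt) :=
  M24 ⊓ MulAction.stabilizer (Equiv.Perm GolayPt) (setOf octO) ⊓ presSub k4 ⊓ presSub k2

theorem mem_borel {s : Equiv.Perm GolayPt} :
    s ∈ borel ↔ s ∈ M24 ∧ s • setOf octO = setOf octO ∧ Pres s k4 ∧ Pres s k2 := by
  unfold borel
  simp only [Subgroup.mem_inf, MulAction.mem_stabilizer_iff, mem_presSub, and_assoc]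

/-- table check for `Pres` -/
def presOK (cL : List ℕ) (t : List ℕ) : Bool :=
  (List.range 24).all fun i => (List.range 24).all fun j =>
    decide (cL.getD i 9 = cL.getD j 9 ↔ cL.getD (t.getD i 0) 9 = cL.getD (t.getD j 0) 9)

theorem pres_of_presOK {s : Equiv.Perm GolayPt} {t : List ℕ} (hm : Matches s t) (cL : List ℕ)
    (h : presOK cL t = true) : Pres s (fun p => cL.getD (idx p) 9) := by
  intro p q
  simp only [presOK, List.all_eq_true, List.mem_range, decide_eq_true_eq] at h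
  have := h (idx p) (idx_lt p) (idx q) (idx_lt q)
  rw [← hm p, ← hm q] at this
  exact this

/-- table check for membership in `borel` -/
def borelOK (t : List ℕ) : Bool := mapsInto t octO octO && presOK c4L t && presOK c2L t

theorem mem_borel_of_borelOK {s : Equiv.Perm GolayPt} {t : List ℕ} (hm : Matches s t)
    (hs : s ∈ M24) (h : borelOK t = true) : s ∈ borel := by
  simp only [borelOK, Bool.and_eq_true] at h
  exact mem_borel.2 ⟨hs, smul_setOf_eq_of_mapsInto hm h.1.1 le_rfl, pres_of_presOK hm c4L h.1.2,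
    pres_of_presOK hm c2L h.2⟩

/-- the stabilizer of `∞` in `borel` -/
def borelA : Subgroup (Equiv.Perm GolayPt) :=
  borel ⊓ MulAction.stabilizer (Equiv.Perm GolayPt) (pt 23)

/-- the stabilizer of `∞` and `3` in `borel` -/
def borelAE : Subgroup (Equiv.Perm GolayPt) :=
  borelA ⊓ MulAction.stabilizer (Equiv.Perm GolayPt) (pt 3)

theorem mem_borelA {s : Equiv.Perm GolayPt} : s ∈ borelA ↔ s ∈ borel ∧ s (pt 23) = pt 23 := by
  unfold borelA
  simp only [Subgroup.mem_inf, MulAction.mem_stabilizer_iff, Equiv.Perm.smul_def]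

theorem mem_borelAE {s : Equiv.Perm GolayPt} :
    s ∈ borelAE ↔ s ∈ borel ∧ s (pt 23) = pt 23 ∧ s (pt 3) = pt 3 := by
  unfold borelAE
  simp only [Subgroup.mem_inf, MulAction.mem_stabilizer_iff, Equiv.Perm.smul_def, mem_borelA,
    and_assoc]

/-! ### The explicit elements -/

theorem borelT_all_eq : slpT borelProg (borelIdxB ++ (borelIdxA ++ borelIdxAE)) =
    borelTB ++ (borelTA ++ borelTAE) := by decide +kernel

theorem slpT_append (prog : List (ℕ × ℕ)) (l1 l2 : List ℕ) :
    slpT prog (l1 ++ l2) = slpT prog l1 ++ slpT prog l2 := List.map_append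

theorem borelT_eqs : slpT borelProg borelIdxB = borelTB ∧ slpT borelProg borelIdxA = borelTA ∧
    slpT borelProg borelIdxAE = borelTAE := by
  have h := borelT_all_eq
  rw [slpT_append, slpT_append] at h
  have h1 := List.append_inj h (by simp [slpT, borelIdxB, borelTB])
  have h2 := List.append_inj h1.2 (by simp [slpT, borelIdxA, borelTA])
  exact ⟨h1.1, h2.1, h2.2⟩

theorem borelTB_eq : slpT borelProg borelIdxB = borelTB := borelT_eqs.1

theorem borelTA_eq : slpT borelProg borelIdxA = borelTA := borelT_eqs.2.1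

theorem borelTAE_eq : slpT borelProg borelIdxAE = borelTAE := borelT_eqs.2.2

/-- elements of a straight-line program lie in `H` when their tables pass a sound check -/
theorem slpP_mem_of_check (H : Subgroup (Equiv.Perm GolayPt)) (chk : List ℕ → Bool)
    (hchk : ∀ (s : Equiv.Perm GolayPt) (t : List ℕ), Matches s t → s ∈ M24 → chk t = true → s ∈ H)
    (prog : List (ℕ × ℕ)) (idxs : List ℕ) (T : List (List ℕ)) (hT : slpT prog idxs = T)
    (hall : T.all chk = true) : ∀ g ∈ slpP prog idxs, g ∈ H := by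
  have hM := slp_match prog idxs
  rw [hT] at hM
  intro g hg
  obtain ⟨t, ht, hgt⟩ : ∃ t ∈ T, Matches g t := exists_of_forall₂_mem hM hg
  exact hchk g t hgt (slpP_mem_M24 prog idxs g hg) (List.all_eq_true.1 hall t ht)

/-- transitivity on points from a certificate on singleton masks -/
theorem point_orbit (H : Subgroup (Equiv.Perm GolayPt)) (prog : List (ℕ × ℕ)) (idxs : List ℕ)
    (T : List (List ℕ)) (hT : slpT prog idxs = T) (hH : ∀ g ∈ slpP prog idxs, g ∈ H)
    (b : ℕ) (hb : b < 24) (cert : List (ℕ × ℕ × ℕ)) (hc : orbCheck T [2 ^ b] cert = true)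
    (i : ℕ) (hi : i < 24) (hr : (reachedOf (2 ^ b) cert).contains (2 ^ i) = true) :
    ∃ g ∈ H, g (pt b) = pt i := by
  rw [List.contains_iff_mem] at hr
  have hM := slp_match prog idxs
  rw [hT] at hM
  obtain ⟨g, hg, hgb⟩ := orbit_of_cert H (slpP prog idxs) T hM hH (2 ^ b) cert hc _ hr
  refine ⟨g, hg, ?_⟩
  rw [setOf_two_pow hb, setOf_two_pow hi, Finset.smul_finset_singleton,
    Finset.singleton_inj] at hgb
  exact hgb

theorem slpB_mem : ∀ g ∈ slpP borelProg borelIdxB, g ∈ borel :=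
  slpP_mem_of_check borel borelOK (fun _ _ hm hs h => mem_borel_of_borelOK hm hs h)
    borelProg borelIdxB borelTB borelTB_eq (by decide +kernel)

/-- table check for `borelA` -/
def borelAOK (t : List ℕ) : Bool := borelOK t && (t.getD 23 0 == 23)

/-- table check for `borelAE` -/
def borelAEOK (t : List ℕ) : Bool := borelOK t && (t.getD 23 0 == 23) && (t.getD 3 0 == 3)

theorem slpA_mem : ∀ g ∈ slpP borelProg borelIdxA, g ∈ borelA :=
  slpP_mem_of_check borelA borelAOK (fun s t hm hs h => by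
      simp only [borelAOK, Bool.and_eq_true, beq_iff_eq] at h
      exact mem_borelA.2 ⟨mem_borel_of_borelOK hm hs h.1,
        matches_apply hm (by decide) (by decide) h.2⟩)
    borelProg borelIdxA borelTA borelTA_eq (by decide +kernel)

theorem slpAE_mem : ∀ g ∈ slpP borelProg borelIdxAE, g ∈ borelAE :=
  slpP_mem_of_check borelAE borelAEOK (fun s t hm hs h => by
      simp only [borelAEOK, Bool.and_eq_true, beq_iff_eq] at h
      exact mem_borelAE.2 ⟨mem_borel_of_borelOK hm hs h.1.1,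
        matches_apply hm (by decide) (by decide) h.1.2,
        matches_apply hm (by decide) (by decide) h.2⟩)
    borelProg borelIdxAE borelTAE borelTAE_eq (by decide +kernel)

/-- `borel` is transitive on the octad -/
theorem borel_trans_O : ∀ i < 24, octO.testBit i = true → ∃ g ∈ borel, g (pt 23) = pt i := by
  have h : ∀ i < 24, octO.testBit i = true →
      (reachedOf (2 ^ 23) borelCertB).contains (2 ^ i) = true := by decide +kernel
  intro i hi ho
  exact point_orbit borel borelProg borelIdxB borelTB borelTB_eq slpB_mem 23 (by decide)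
    borelCertB (by decide +kernel) i hi (h i hi ho)

/-- `borelA` moves `1` to `2` -/
theorem borelA_trans_P2 : ∃ g ∈ borelA, g (pt 1) = pt 2 :=
  point_orbit borelA borelProg borelIdxA borelTA borelTA_eq slpA_mem 1 (by decide)
    borelCertA1 (by decide +kernel) 2 (by decide) (by decide +kernel)

/-- `borelA` is transitive on `{3, 5, 14, 17}` -/
theorem borelA_trans_Y : ∀ i < 24, c4L.getD i 9 = 1 → ∃ g ∈ borelA, g (pt 3) = pt i := by
  have h : ∀ i < 24, c4L.getD i 9 = 1 →
      (reachedOf (2 ^ 3) borelCertA3).contains (2 ^ i) = true := by decide +kernel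
  intro i hi ho
  exact point_orbit borelA borelProg borelIdxA borelTA borelTA_eq slpA_mem 3 (by decide)
    borelCertA3 (by decide +kernel) i hi (h i hi ho)

/-- an element of `borelAE` moving `1, 2, 14, 17` -/
theorem borelAE_moves : ∃ g ∈ borelAE, g (pt 1) = pt 2 ∧ g (pt 2) = pt 1 ∧ g (pt 14) = pt 17 ∧
    g (pt 17) = pt 14 := by
  have hM := slp_match borelProg borelIdxAE
  rw [borelTAE_eq] at hM
  have hne : slpP borelProg borelIdxAE ≠ [] := by
    unfold slpP borelIdxAE; simp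
  obtain ⟨g, l, hgl⟩ := List.exists_cons_of_ne_nil hne
  rw [hgl] at hM
  have hg : g ∈ borelAE := slpAE_mem g (by rw [hgl]; exact List.mem_cons_self)
  unfold borelTAE at hM
  rw [List.forall₂_cons] at hM
  have hm := hM.1
  exact ⟨g, hg, matches_apply hm (by decide) (by decide) (by decide),
    matches_apply hm (by decide) (by decide) (by decide),
    matches_apply hm (by decide) (by decide) (by decide),
    matches_apply hm (by decide) (by decide) (by decide)⟩

/-! ### Normalizing permutations permute orbits -/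

/-- `n` normalizes `K` -/
def Nrm (K : Subgroup (Equiv.Perm GolayPt)) (n : Equiv.Perm GolayPt) : Prop :=
  (∀ s ∈ K, n * s * n⁻¹ ∈ K) ∧ ∀ s ∈ K, n⁻¹ * s * n ∈ K

theorem Nrm.inv {K : Subgroup (Equiv.Perm GolayPt)} {n : Equiv.Perm GolayPt} (h : Nrm K n) :
    Nrm K n⁻¹ := ⟨by simpa using h.2, by simpa using h.1⟩

theorem Nrm.mul_mem {K : Subgroup (Equiv.Perm GolayPt)} {n g : Equiv.Perm GolayPt} (h : Nrm K n)
    (hg : g ∈ K) : Nrm K (g * n) := by
  constructor
  · intro s hs
    have : g * n * s * (g * n)⁻¹ = g * (n * s * n⁻¹) * g⁻¹ := by group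
    rw [this]
    exact K.mul_mem (K.mul_mem hg (h.1 s hs)) (K.inv_mem hg)
  · intro s hs
    have : (g * n)⁻¹ * s * (g * n) = n⁻¹ * (g⁻¹ * s * g) * n := by group
    rw [this]
    exact h.2 _ (K.mul_mem (K.mul_mem (K.inv_mem hg) hs) hg)

/-- a permutation normalizing `K` and fixing `x` normalizes the stabilizer of `x` in `K` -/
theorem Nrm.stab {K : Subgroup (Equiv.Perm GolayPt)} {n : Equiv.Perm GolayPt} (h : Nrm K n)
    {x : GolayPt} (hx : n x = x) :
    Nrm (K ⊓ MulAction.stabilizer (Equiv.Perm GolayPt) x) n := by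
  have hx' : n⁻¹ x = x := by rw [Equiv.Perm.inv_eq_iff_eq, hx]
  constructor
  · intro s hs
    rw [Subgroup.mem_inf, MulAction.mem_stabilizer_iff, Equiv.Perm.smul_def] at hs ⊢
    refine ⟨h.1 s hs.1, ?_⟩
    rw [Equiv.Perm.mul_apply, Equiv.Perm.mul_apply, hx', hs.2, hx]
  · intro s hs
    rw [Subgroup.mem_inf, MulAction.mem_stabilizer_iff, Equiv.Perm.smul_def] at hs ⊢
    refine ⟨h.2 s hs.1, ?_⟩
    rw [Equiv.Perm.mul_apply, Equiv.Perm.mul_apply, hx, hs.2, hx']

/-- a permutation normalizing `K` permutes the orbits of `K` -/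
theorem pres_of_nrm (K : Subgroup (Equiv.Perm GolayPt)) (κ : GolayPt → ℕ)
    (ub : ∀ s ∈ K, ∀ p, κ (s p) = κ p) (lb : ∀ p q, κ p = κ q → ∃ s ∈ K, s p = q)
    {n : Equiv.Perm GolayPt} (hn : Nrm K n) : Pres n κ := by
  intro p q
  constructor
  · intro h
    obtain ⟨s, hs, rfl⟩ := lb p q h
    have := ub _ (hn.1 s hs) (n p)
    simp only [Equiv.Perm.mul_apply, Equiv.Perm.coe_inv, Equiv.symm_apply_apply] at this
    exact this.symm
  · intro h
    obtain ⟨s, hs, hsq⟩ := lb (n p) (n q) h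
    have := ub _ (hn.2 s hs) p
    simp only [Equiv.Perm.mul_apply, hsq, Equiv.Perm.coe_inv, Equiv.symm_apply_apply] at this
    exact this.symm

/-- a permutation preserving a colouring maps colour classes onto colour classes -/
theorem card_fiber_of_pres {n : Equiv.Perm GolayPt} {κ : GolayPt → ℕ} (h : Pres n κ)
    (p : GolayPt) :
    (Finset.univ.filter fun q => κ q = κ (n p)).card =
      (Finset.univ.filter fun q => κ q = κ p).card := by
  have : (Finset.univ.filter fun q => κ q = κ (n p)) =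
      (Finset.univ.filter fun q => κ q = κ p).map n.toEmbedding := by
    ext q
    simp only [Finset.mem_filter, Finset.mem_univ, true_and, Finset.mem_map,
      Equiv.coe_toEmbedding]
    constructor
    · intro hq
      refine ⟨n⁻¹ q, ?_, by simp⟩
      rw [h (n⁻¹ q) p]
      simpa using hq
    · rintro ⟨r, hr, rfl⟩
      exact (h r p).1 hr
  rw [this, Finset.card_map]

/-- a permutation preserving a colouring with two colours on an invariant set squares to
a colour-preserving permutation there -/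
theorem swap2 {s : Equiv.Perm GolayPt} {col : GolayPt → ℕ} (hP : Pres s col)
    (U : GolayPt → Prop) (hU : ∀ p, U p → U (s p)) (v₀ v₁ : ℕ)
    (hv : ∀ p, U p → col p = v₀ ∨ col p = v₁) : ∀ p, U p → col (s (s p)) = col p := by
  intro p hp
  by_cases h : col (s p) = col p
  · exact ((hP (s p) p).1 h).trans h
  · have h' : col (s (s p)) ≠ col (s p) := fun h' => h ((hP (s p) p).2 h')
    rcases hv p hp with h0 | h0 <;> rcases hv (s p) (hU p hp) with h1 | h1 <;>
      rcases hv (s (s p)) (hU _ (hU p hp)) with h2 | h2 <;> simp_all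

theorem pres_of_eq {s : Equiv.Perm GolayPt} {col : GolayPt → ℕ} (h : ∀ p, col (s p) = col p) :
    Pres s col := fun p q => by rw [h, h]

/-- orbit representatives: transitivity from a base point gives transitivity between any two
points of the class -/
theorem lb_of_trans (K : Subgroup (Equiv.Perm GolayPt)) (b : ℕ) (c : ℕ → Prop)
    (h : ∀ i < 24, c i → ∃ g ∈ K, g (pt b) = pt i) {p q : GolayPt} (hp : c (idx p))
    (hq : c (idx q)) : ∃ s ∈ K, s p = q := by
  obtain ⟨g, hg, hgp⟩ := h (idx p) (idx_lt p) hp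
  obtain ⟨g', hg', hgq⟩ := h (idx q) (idx_lt q) hq
  rw [pt_idx] at hgp hgq
  refine ⟨g' * g⁻¹, K.mul_mem hg' (K.inv_mem hg), ?_⟩
  rw [Equiv.Perm.mul_apply, ← hgp, Equiv.Perm.inv_def, Equiv.symm_apply_apply, hgq]

/-! ### Orbit labels -/

/-- orbit labels of `borel`: `0` on the octad, `1` outside -/
def kOL : List ℕ := [0, 0, 0, 0, 1, 0, 1, 1, 1, 1, 1, 1, 1, 1, 0, 1, 1, 0, 1, 1, 1, 1, 1, 0]

/-- orbit labels of `borelA` -/
def kAL : List ℕ := [11, 1, 1, 2, 3, 2, 3, 3, 3, 3, 3, 3, 3, 3, 2, 3, 3, 2, 3, 3, 3, 3, 3, 10]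

/-- orbit sizes of `borelA` -/
def fcL : List ℕ :=
  [1, 2, 2, 4, 16, 4, 16, 16, 16, 16, 16, 16, 16, 16, 4, 16, 16, 4, 16, 16, 16, 16, 16, 1]

/-- orbit label of a point under `borel` -/
def kO (p : GolayPt) : ℕ := kOL.getD (idx p) 9

/-- orbit label of a point under `borelA` -/
def kA (p : GolayPt) : ℕ := kAL.getD (idx p) 9

theorem eq_pt_of_idx {p : GolayPt} {i : ℕ} (h : idx p = i) : p = pt i := by rw [← h, pt_idx]

theorem mem_octO_iff (p : GolayPt) : p ∈ setOf octO ↔ kO p = 0 := by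
  rw [mem_setOf]
  exact (by decide : ∀ i < 24, octO.testBit i = true ↔ kOL.getD i 9 = 0) (idx p) (idx_lt p)

theorem kO_eq_of_mem_borel {s : Equiv.Perm GolayPt} (hs : s ∈ borel) (p : GolayPt) :
    kO (s p) = kO p := by
  have hO := (mem_borel.1 hs).2.1
  have h1 : s p ∈ setOf octO ↔ p ∈ setOf octO := by
    conv_lhs => rw [← hO]
    exact apply_mem_perm_smul_finset s _ p
  rw [mem_octO_iff, mem_octO_iff] at h1
  have h01 : ∀ q : GolayPt, kO q = 0 ∨ kO q = 1 := fun q =>
    (by decide : ∀ i < 24, kOL.getD i 9 = 0 ∨ kOL.getD i 9 = 1) (idx q) (idx_lt q)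
  rcases h01 p with h | h <;> rcases h01 (s p) with h' | h' <;> simp_all

/-- an element of `borel` fixing a point fixes its partner -/
theorem fix_partner {s : Equiv.Perm GolayPt} (hs : s ∈ borel) {i j : ℕ} (hi : i < 24) (hj : j < 24)
    (hij : c2L.getD i 9 = c2L.getD j 9)
    (huniq : ∀ l < 24, c2L.getD l 9 = c2L.getD i 9 → l = i ∨ l = j)
    (hfix : s (pt i) = pt i) : s (pt j) = pt j := by
  have h2 := (mem_borel.1 hs).2.2.2
  have h := (h2 (pt i) (pt j)).1 (by unfold k2; rw [idx_pt hi, idx_pt hj]; exact hij)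
  rw [hfix] at h
  unfold k2 at h
  rw [idx_pt hi] at h
  rcases huniq _ (idx_lt _) h.symm with h' | h'
  · have : s (pt j) = s (pt i) := by rw [hfix]; exact eq_pt_of_idx h'
    rw [s.injective this, hfix]
  · exact eq_pt_of_idx h'

theorem kA_eq_of_mem_borelA {s : Equiv.Perm GolayPt} (hs : s ∈ borelA) (p : GolayPt) :
    kA (s p) = kA p := by
  obtain ⟨hb, ha⟩ := mem_borelA.1 hs
  have hb0 : s (pt 0) = pt 0 :=
    fix_partner hb (i := 23) (j := 0) (by decide) (by decide) (by decide) (by decide) ha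
  have h4 := (mem_borel.1 hb).2.2.1
  have h2 := (mem_borel.1 hb).2.2.2
  have hO := kO_eq_of_mem_borel hb p
  -- the 4-block of `∞` is preserved
  have hX : k4 (s p) = 0 ↔ k4 p = 0 := by
    have := h4 p (pt 23)
    rw [ha] at this
    have h23 : k4 (pt 23) = 0 := by decide
    rw [h23] at this
    exact this.symm
  -- the pair of `∞` is preserved
  have hP : k2 (s p) = 0 ↔ k2 p = 0 := by
    have := h2 p (pt 23)
    rw [ha] at this
    have h23 : k2 (pt 23) = 0 := by decide
    rw [h23] at this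
    exact this.symm
  by_cases hp23 : p = pt 23
  · rw [hp23, ha]
  by_cases hp0 : p = pt 0
  · rw [hp0, hb0]
  have key : ∀ i < 24, ∀ j < 24, (i ≠ 23 ∧ i ≠ 0 ∧ j ≠ 23 ∧ j ≠ 0 ∧
      kOL.getD j 9 = kOL.getD i 9 ∧ (c4L.getD j 9 = 0 ↔ c4L.getD i 9 = 0) ∧
      (c2L.getD j 9 = 0 ↔ c2L.getD i 9 = 0)) → kAL.getD j 9 = kAL.getD i 9 := by decide
  have hne : ∀ {q : GolayPt} {i : ℕ}, i < 24 → q ≠ pt i → idx q ≠ i := fun hi hq h =>
    hq (eq_pt_of_idx h)
  refine key (idx p) (idx_lt p) (idx (s p)) (idx_lt _) ⟨hne (by decide) hp23, hne (by decide) hp0,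
    hne (by decide) ?_, hne (by decide) ?_, hO, hX, hP⟩
  · intro h; rw [← ha] at h; exact hp23 (s.injective h)
  · intro h; rw [← hb0] at h; exact hp0 (s.injective h)

/-- the pointwise stabilizer of the octad lies in `borelAE` -/
theorem fixM24_le_borelAE : fixM24 (setOf octO) ≤ borelAE := by
  intro g hg
  rw [mem_fixM24] at hg
  have hout : ∀ p, p ∉ setOf octO → g p ∉ setOf octO := by
    intro p hp hgp
    have := hg.2 _ hgp
    exact hp (by rw [← g.injective this]; exact hgp)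
  have hk : ∀ (L : List ℕ), (∀ i < 24, ∀ j < 24, kOL.getD i 9 = 1 → kOL.getD j 9 = 1 →
      L.getD i 9 = L.getD j 9) → ∀ p, L.getD (idx (g p)) 9 = L.getD (idx p) 9 := by
    intro L hL p
    by_cases hp : p ∈ setOf octO
    · rw [hg.2 p hp]
    · have h1 := hout p hp
      rw [mem_octO_iff] at hp h1
      have h01 : ∀ q : GolayPt, kO q ≠ 0 → kOL.getD (idx q) 9 = 1 := fun q =>
        (by decide : ∀ i < 24, kOL.getD i 9 ≠ 0 → kOL.getD i 9 = 1) (idx q) (idx_lt q)
      exact hL _ (idx_lt _) _ (idx_lt _) (h01 _ h1) (h01 _ hp)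
  refine mem_borelAE.2 ⟨mem_borel.2 ⟨hg.1, ?_, ?_, ?_⟩, hg.2 _ ?_, hg.2 _ ?_⟩
  · ext p
    rw [mem_perm_smul_finset]
    constructor
    · intro h
      have := hg.2 _ h
      rw [Equiv.apply_symm_apply] at this
      rw [this]; exact h
    · intro h
      have : g.symm p = p := by rw [Equiv.symm_apply_eq, hg.2 p h]
      rw [this]; exact h
  · exact pres_of_eq (hk c4L (by decide))
  · exact pres_of_eq (hk c2L (by decide))
  · rw [mem_setOf, idx_pt (by decide)]; decide
  · rw [mem_setOf, idx_pt (by decide)]; decide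

theorem borelAE_le_borelA : borelAE ≤ borelA := fun _ h => (Subgroup.mem_inf.1 h).1

theorem borelA_le_borel : borelA ≤ borel := fun _ h => (Subgroup.mem_inf.1 h).1

/-- transitivity outside the octad -/
theorem trans_out : ∀ i < 24, kOL.getD i 9 = 1 → ∃ g ∈ borelAE, g (pt 4) = pt i := by
  intro i hi ho
  have h5 : orbitOK 5 i = true :=
    (by decide : ∀ i < 24, kOL.getD i 9 = 1 → orbitOK 5 i = true) i hi ho
  obtain ⟨hmem, hmap, _⟩ := octStabElem_spec hi h5
  refine ⟨(octStabElem i)⁻¹, borelAE.inv_mem (fixM24_le_borelAE hmem), ?_⟩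
  rw [Equiv.Perm.inv_eq_iff_eq, hmap]

theorem lb_borel : ∀ p q, kO p = kO q → ∃ s ∈ borel, s p = q := by
  intro p q h
  have h01 : kO p = 0 ∨ kO p = 1 :=
    (by decide : ∀ i < 24, kOL.getD i 9 = 0 ∨ kOL.getD i 9 = 1) (idx p) (idx_lt p)
  rcases h01 with h0 | h0
  · refine lb_of_trans borel 23 (fun i => kOL.getD i 9 = 0) ?_ h0 (show kO q = 0 from h ▸ h0)
    intro i hi hc
    exact borel_trans_O i hi
      ((by decide : ∀ i < 24, kOL.getD i 9 = 0 → octO.testBit i = true) i hi hc)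
  · refine lb_of_trans borel 4 (fun i => kOL.getD i 9 = 1) ?_ h0 (show kO q = 1 from h ▸ h0)
    intro i hi hc
    obtain ⟨g, hg, hgi⟩ := trans_out i hi hc
    exact ⟨g, borelA_le_borel (borelAE_le_borelA hg), hgi⟩

theorem lb_borelA : ∀ p q, kA p = kA q → ∃ s ∈ borelA, s p = q := by
  intro p q h
  have hcases : kA p = 10 ∨ kA p = 11 ∨ kA p = 1 ∨ kA p = 2 ∨ kA p = 3 :=
    (by decide : ∀ i < 24, kAL.getD i 9 = 10 ∨ kAL.getD i 9 = 11 ∨ kAL.getD i 9 = 1 ∨
      kAL.getD i 9 = 2 ∨ kAL.getD i 9 = 3) (idx p) (idx_lt p)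
  have hone : ∀ v, (∀ i < 24, ∀ j < 24, kAL.getD i 9 = v → kAL.getD j 9 = v → i = j) →
      kA p = v → ∃ s ∈ borelA, s p = q := by
    intro v hv hp
    refine ⟨1, borelA.one_mem, ?_⟩
    have := hv _ (idx_lt p) _ (idx_lt q) hp (show kA q = v from h ▸ hp)
    exact idx_injective this
  rcases hcases with h0 | h0 | h0 | h0 | h0
  · exact hone 10 (by decide) h0
  · exact hone 11 (by decide) h0
  · refine lb_of_trans borelA 1 (fun i => kAL.getD i 9 = 1) ?_ h0 (show kA q = 1 from h ▸ h0)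
    intro i hi hc
    have : i = 1 ∨ i = 2 := (by decide : ∀ i < 24, kAL.getD i 9 = 1 → i = 1 ∨ i = 2) i hi hc
    rcases this with rfl | rfl
    · exact ⟨1, borelA.one_mem, rfl⟩
    · exact borelA_trans_P2
  · refine lb_of_trans borelA 3 (fun i => kAL.getD i 9 = 2) ?_ h0 (show kA q = 2 from h ▸ h0)
    intro i hi hc
    exact borelA_trans_Y i hi
      ((by decide : ∀ i < 24, kAL.getD i 9 = 2 → c4L.getD i 9 = 1) i hi hc)
  · refine lb_of_trans borelA 4 (fun i => kAL.getD i 9 = 3) ?_ h0 (show kA q = 3 from h ▸ h0)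
    intro i hi hc
    obtain ⟨g, hg, hgi⟩ := trans_out i hi
      ((by decide : ∀ i < 24, kAL.getD i 9 = 3 → kOL.getD i 9 = 1) i hi hc)
    exact ⟨g, borelAE_le_borelA hg, hgi⟩

/-! ### The normalizer of `borel` -/

set_option maxRecDepth 100000 in
theorem card_fiber_kO : ∀ p : GolayPt,
    (Finset.univ.filter fun q : GolayPt => kO q = kO p).card = 8 + 8 * kO p := by
  decide

set_option maxRecDepth 100000 in
theorem card_fiber_kA : ∀ p : GolayPt,
    (Finset.univ.filter fun q : GolayPt => kA q = kA p).card = fcL.getD (idx p) 0 := by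
  decide

/-- a permutation normalizing `borel` preserves the octad -/
theorem kO_eq_of_nrm {n : Equiv.Perm GolayPt} (hn : Nrm borel n) (p : GolayPt) :
    kO (n p) = kO p := by
  have hP : Pres n kO := pres_of_nrm borel kO (fun s hs p => kO_eq_of_mem_borel hs p) lb_borel hn
  have h := card_fiber_of_pres hP p
  rw [card_fiber_kO, card_fiber_kO] at h
  omega

/-- a permutation normalizing `borel` and fixing `∞` preserves the orbits of `borelA` -/
theorem kA_eq_of_nrm {n : Equiv.Perm GolayPt} (hn : Nrm borel n) (ha : n (pt 23) = pt 23)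
    (p : GolayPt) : kA (n p) = kA p := by
  have hnA : Nrm borelA n := hn.stab ha
  have hP : Pres n kA :=
    pres_of_nrm borelA kA (fun s hs p => kA_eq_of_mem_borelA hs p) lb_borelA hnA
  have h := card_fiber_of_pres hP p
  rw [card_fiber_kA, card_fiber_kA] at h
  have key : ∀ i < 24, ∀ j < 24, fcL.getD j 0 = fcL.getD i 0 →
      kAL.getD j 9 = kAL.getD i 9 ∨ (kAL.getD j 9 = 10 ∧ kAL.getD i 9 = 11) ∨
        (kAL.getD j 9 = 11 ∧ kAL.getD i 9 = 10) := by decide
  have h23 : kA (pt 23) = 10 := by decide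
  rcases key (idx p) (idx_lt p) (idx (n p)) (idx_lt _) h with h1 | ⟨h1, h2⟩ | ⟨h1, h2⟩
  · exact h1
  · -- `n p` has the label of `∞ = n ∞`
    exfalso
    have : kA p = kA (pt 23) := (hP p (pt 23)).2 (by rw [ha, h23]; exact h1)
    rw [h23] at this
    have h2' : kA p = 11 := h2
    omega
  · exfalso
    have : kA (n p) = kA (n (pt 23)) := (hP p (pt 23)).1 (by rw [h23]; exact h2)
    rw [ha, h23] at this
    have h1' : kA (n p) = 11 := h1
    omega

theorem smul_octO_of_kO {n : Equiv.Perm GolayPt} (h : ∀ p, kO (n p) = kO p) :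
    n • setOf octO = setOf octO := by
  ext p
  rw [mem_perm_smul_finset, mem_octO_iff, mem_octO_iff, ← h (n.symm p), Equiv.apply_symm_apply]

/-- descent, last step -/
theorem mem_borel_of_nrm_of_fix2 {n : Equiv.Perm GolayPt} (hM : n ∈ M24) (hn : Nrm borel n)
    (ha : n (pt 23) = pt 23) (he : n (pt 3) = pt 3) : n ∈ borel := by
  have hO := kO_eq_of_nrm hn
  have hA := kA_eq_of_nrm hn ha
  have hnAE : Nrm borelAE n := (hn.stab ha).stab he
  -- `n` fixes `5`
  have hf : n (pt 5) = pt 5 := by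
    obtain ⟨g, hg, -, -, hg14, hg17⟩ := borelAE_moves
    have hfix : ∀ s ∈ borelAE, s (pt 5) = pt 5 := by
      intro s hs
      obtain ⟨hb, -, hs3⟩ := mem_borelAE.1 hs
      exact fix_partner hb (i := 3) (j := 5) (by decide) (by decide) (by decide) (by decide) hs3
    have h1 := hfix _ (hnAE.2 g hg)
    rw [Equiv.Perm.mul_apply, Equiv.Perm.mul_apply, Equiv.Perm.inv_eq_iff_eq] at h1
    -- `g` fixes `n 5`, which lies in `{3, 5, 14, 17}`
    have h5 := hA (pt 5)
    have hc : idx (n (pt 5)) = 3 ∨ idx (n (pt 5)) = 5 ∨ idx (n (pt 5)) = 14 ∨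
        idx (n (pt 5)) = 17 := by
      have h5' : kAL.getD (idx (n (pt 5))) 9 = 2 := by
        have : kA (pt 5) = 2 := by decide
        rw [this] at h5; exact h5
      exact (by decide : ∀ i < 24, kAL.getD i 9 = 2 → i = 3 ∨ i = 5 ∨ i = 14 ∨ i = 17) _
        (idx_lt _) h5'
    rcases hc with hc | hc | hc | hc
    · exfalso
      have := eq_pt_of_idx hc
      rw [← he] at this
      exact absurd (n.injective this) (by decide)
    · exact eq_pt_of_idx hc
    · exfalso
      have := eq_pt_of_idx hc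
      rw [this, hg14] at h1
      exact absurd h1 (by decide)
    · exfalso
      have := eq_pt_of_idx hc
      rw [this, hg17] at h1
      exact absurd h1 (by decide)
  have hk2 : ∀ p, k2 (n p) = k2 p := by
    intro p
    have key : ∀ i < 24, ∀ j < 24, (kAL.getD j 9 = kAL.getD i 9 ∧ (i = 3 → j = 3) ∧
        (i = 5 → j = 5) ∧ (j = 3 → i = 3) ∧ (j = 5 → i = 5)) →
        c2L.getD j 9 = c2L.getD i 9 := by decide
    refine key (idx p) (idx_lt p) (idx (n p)) (idx_lt _) ⟨hA p, ?_, ?_, ?_, ?_⟩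
    · intro h; rw [eq_pt_of_idx h, he, idx_pt (by decide)]
    · intro h; rw [eq_pt_of_idx h, hf, idx_pt (by decide)]
    · intro h
      have := eq_pt_of_idx h
      rw [← he] at this
      rw [n.injective this, idx_pt (by decide)]
    · intro h
      have := eq_pt_of_idx h
      rw [← hf] at this
      rw [n.injective this, idx_pt (by decide)]
  have hk4 : ∀ p, k4 (n p) = k4 p := by
    intro p
    exact (by decide : ∀ i < 24, ∀ j < 24, kAL.getD j 9 = kAL.getD i 9 →
      c4L.getD j 9 = c4L.getD i 9) (idx p) (idx_lt p) (idx (n p)) (idx_lt _) (hA p)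
  exact mem_borel.2 ⟨hM, smul_octO_of_kO hO, pres_of_eq hk4, pres_of_eq hk2⟩

/-- descent, middle step -/
theorem mem_borel_of_nrm_of_fix1 {n : Equiv.Perm GolayPt} (hM : n ∈ M24) (hn : Nrm borel n)
    (ha : n (pt 23) = pt 23) : n ∈ borel := by
  have hA := kA_eq_of_nrm hn ha (pt 3)
  have h3 : kA (pt 3) = 2 := by decide
  rw [h3] at hA
  obtain ⟨g, hg, hg3⟩ := borelA_trans_Y (idx (n (pt 3))) (idx_lt _)
    ((by decide : ∀ i < 24, kAL.getD i 9 = 2 → c4L.getD i 9 = 1) _ (idx_lt _) hA)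
  rw [pt_idx] at hg3
  obtain ⟨hgb, hga⟩ := mem_borelA.1 hg
  have hm : g⁻¹ * n ∈ borel := by
    refine mem_borel_of_nrm_of_fix2 (M24.mul_mem (M24.inv_mem (mem_borel.1 hgb).1) hM)
      (hn.mul_mem (borel.inv_mem hgb)) ?_ ?_
    · rw [Equiv.Perm.mul_apply, ha, Equiv.Perm.inv_eq_iff_eq, hga]
    · rw [Equiv.Perm.mul_apply, Equiv.Perm.inv_eq_iff_eq, hg3]
  have : n = g * (g⁻¹ * n) := by group
  rw [this]
  exact borel.mul_mem hgb hm

/-- **The subgroup `borel` is self-normalizing in `M24`.** -/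
theorem mem_borel_of_nrm {n : Equiv.Perm GolayPt} (hM : n ∈ M24) (hn : Nrm borel n) :
    n ∈ borel := by
  have hO := kO_eq_of_nrm hn (pt 23)
  have h23 : kO (pt 23) = 0 := by decide
  rw [h23] at hO
  obtain ⟨g, hg, hg23⟩ := borel_trans_O (idx (n (pt 23))) (idx_lt _)
    ((by decide : ∀ i < 24, kOL.getD i 9 = 0 → octO.testBit i = true) _ (idx_lt _) hO)
  rw [pt_idx] at hg23
  have hm : g⁻¹ * n ∈ borel := by
    refine mem_borel_of_nrm_of_fix1 (M24.mul_mem (M24.inv_mem (mem_borel.1 hg).1) hM)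
      (hn.mul_mem (borel.inv_mem hg)) ?_
    rw [Equiv.Perm.mul_apply, Equiv.Perm.inv_eq_iff_eq, hg23]
  have : n = g * (g⁻¹ * n) := by group
  rw [this]
  exact borel.mul_mem hg hm

/-! ### `borel` is a 2-group -/

theorem pow_sixteen_of_mem_borel {g : Equiv.Perm GolayPt} (hg : g ∈ borel) : g ^ 16 = 1 := by
  obtain ⟨hM, -, h4, h2⟩ := mem_borel.1 hg
  have hO := kO_eq_of_mem_borel hg
  -- level 1
  have h1 : ∀ p, k4 ((g * g) p) = k4 p := by
    intro p
    by_cases hp : kO p = 0
    · refine swap2 h4 (fun p => kO p = 0) (fun p hp => by rw [hO]; exact hp) 0 1 ?_ p hp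
      intro q hq
      exact (by decide : ∀ i < 24, kOL.getD i 9 = 0 → c4L.getD i 9 = 0 ∨ c4L.getD i 9 = 1) _
        (idx_lt q) hq
    · have hp' : kO ((g * g) p) ≠ 0 := by
        rw [Equiv.Perm.mul_apply, hO, hO]; exact hp
      have key : ∀ i < 24, ∀ j < 24, kOL.getD i 9 ≠ 0 → kOL.getD j 9 ≠ 0 →
          c4L.getD j 9 = c4L.getD i 9 := by decide
      exact key _ (idx_lt p) _ (idx_lt _) hp hp'
  have hgg : g * g ∈ borel := borel.mul_mem hg hg
  obtain ⟨-, -, -, h2'⟩ := mem_borel.1 hgg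
  -- level 2
  have h2l : ∀ p, k2 (((g * g) * (g * g)) p) = k2 p := by
    intro p
    have hc : k4 p = 0 ∨ k4 p = 1 ∨ k4 p = 2 :=
      (by decide : ∀ i < 24, c4L.getD i 9 = 0 ∨ c4L.getD i 9 = 1 ∨ c4L.getD i 9 = 2) _ (idx_lt p)
    rcases hc with hp | hp | hp
    · refine swap2 h2' (fun p => k4 p = 0) (fun p hp => by rw [h1]; exact hp) 0 1 ?_ p hp
      intro q hq
      exact (by decide : ∀ i < 24, c4L.getD i 9 = 0 → c2L.getD i 9 = 0 ∨ c2L.getD i 9 = 1) _
        (idx_lt q) hq
    · refine swap2 h2' (fun p => k4 p = 1) (fun p hp => by rw [h1]; exact hp) 2 3 ?_ p hp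
      intro q hq
      exact (by decide : ∀ i < 24, c4L.getD i 9 = 1 → c2L.getD i 9 = 2 ∨ c2L.getD i 9 = 3) _
        (idx_lt q) hq
    · have hp' : k4 (((g * g) * (g * g)) p) = 2 := by
        rw [Equiv.Perm.mul_apply, h1, h1]; exact hp
      have key : ∀ i < 24, ∀ j < 24, c4L.getD i 9 = 2 → c4L.getD j 9 = 2 →
          c2L.getD j 9 = c2L.getD i 9 := by decide
      exact key _ (idx_lt p) _ (idx_lt _) hp hp'
  -- level 3
  set k := (g * g) * (g * g) with hk
  have hkP : Pres k idx := fun p q => by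
    rw [idx_eq_iff, idx_eq_iff]; exact (k.injective.eq_iff).symm
  have h3 : ∀ p, kO p = 0 → (k * k) p = p := by
    intro p hp
    have hc : k2 p = 0 ∨ k2 p = 1 ∨ k2 p = 2 ∨ k2 p = 3 :=
      (by decide : ∀ i < 24, kOL.getD i 9 = 0 → c2L.getD i 9 = 0 ∨ c2L.getD i 9 = 1 ∨
        c2L.getD i 9 = 2 ∨ c2L.getD i 9 = 3) _ (idx_lt p) hp
    apply idx_injective
    rcases hc with hp2 | hp2 | hp2 | hp2
    · refine swap2 hkP (fun p => k2 p = 0) (fun p hp => by rw [h2l]; exact hp) 23 0 ?_ p hp2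
      intro q hq
      exact (by decide : ∀ i < 24, c2L.getD i 9 = 0 → i = 23 ∨ i = 0) _ (idx_lt q) hq
    · refine swap2 hkP (fun p => k2 p = 1) (fun p hp => by rw [h2l]; exact hp) 1 2 ?_ p hp2
      intro q hq
      exact (by decide : ∀ i < 24, c2L.getD i 9 = 1 → i = 1 ∨ i = 2) _ (idx_lt q) hq
    · refine swap2 hkP (fun p => k2 p = 2) (fun p hp => by rw [h2l]; exact hp) 3 5 ?_ p hp2
      intro q hq
      exact (by decide : ∀ i < 24, c2L.getD i 9 = 2 → i = 3 ∨ i = 5) _ (idx_lt q) hq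
    · refine swap2 hkP (fun p => k2 p = 3) (fun p hp => by rw [h2l]; exact hp) 14 17 ?_ p hp2
      intro q hq
      exact (by decide : ∀ i < 24, c2L.getD i 9 = 3 → i = 14 ∨ i = 17) _ (idx_lt q) hq
  have hkM : k * k ∈ fixM24 (setOf octO) := by
    rw [mem_fixM24]
    refine ⟨?_, fun p hp => h3 p ((mem_octO_iff p).1 hp)⟩
    have hgg' := (mem_borel.1 hgg).1
    exact M24.mul_mem (M24.mul_mem hgg' hgg') (M24.mul_mem hgg' hgg')
  have := mul_self_of_mem_fixM24_octO hkM
  rw [← this, hk]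
  simp only [← pow_two, ← pow_mul]
  norm_num

theorem isPGroup_borel : IsPGroup 2 borel := by
  intro g
  refine ⟨4, Subtype.ext ?_⟩
  have := pow_sixteen_of_mem_borel g.2
  simpa using this

theorem borel_le_M24 : borel ≤ M24 := fun _ h => (mem_borel.1 h).1

end Cfsg.Agent.Lib.Helper48
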