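import Cfsg.Agent.Lib.Helper27.M24Cfg

/-!
# Data for a Sylow 2-subgroup of `M24`

A straight-line program in the three generators of `M24` producing seven elements of the stabilizer
of a nested block system on the octad `setOf octO = {∞, 0, 1, 2, 3, 5, 14, 17}`
(4-blocks `{∞,0,1,2}`, `{3,5,14,17}`; pairs `{∞,0}`, `{1,2}`, `{3,5}`, `{14,17}`), their tables and
orbit certificates.  AUTO-GENERATED (Schreier–Sims run in Python); everything is re-checked in Lean.
-/

set_option autoImplicit false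

namespace Cfsg.Agent.Lib.Helper48

/-- the straight-line program -/
def borelProg : List (ℕ × ℕ) :=
  [
   (1, 1), (1, 3), (0, 4), (0, 5), (0, 6), (1, 6), (1, 0), (9, 1), (10, 1), (11, 0), (12, 1),
   (13, 2), (14, 1), (15, 0), (3, 1), (17, 16), (18, 4), (2, 19), (18, 3), (18, 21), (2, 18),
   (23, 2), (24, 1), (0, 0), (26, 26), (26, 27), (27, 27), (29, 29), (28, 30), (2, 2), (32, 32),
   (31, 1), (1, 34), (1, 35), (31, 36), (1, 37), (33, 38), (1, 39), (31, 40), (41, 4), (17, 42),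
   (43, 33), (44, 25), (3, 45), (46, 21), (46, 3), (46, 48), (46, 49), (46, 1), (51, 2), (52, 0),
   (53, 46), (54, 18), (55, 46), (56, 46), (17, 57), (3, 42), (59, 42), (60, 58), (61, 5),
   (61, 62), (61, 21), (61, 64), (61, 3), (61, 48), (46, 66), (61, 66), (61, 49), (46, 68),
   (61, 69), (46, 71), (46, 73), (17, 31), (42, 33), (33, 76), (1, 77), (78, 20), (79, 3),
   (1, 80), (33, 81), (31, 82), (80, 83), (42, 84), (80, 85), (80, 86), (87, 4), (88, 22),
   (75, 89), (2, 0), (91, 18), (92, 2), (93, 0), (94, 46), (3, 95), (59, 89), (97, 89), (98, 96),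
   (3, 89), (100, 80), (101, 80), (102, 80), (103, 80), (104, 99), (105, 49), (105, 50),
   (105, 3), (105, 108), (61, 18), (110, 0), (111, 0), (112, 61), (113, 105), (114, 1),
   (115, 105), (116, 46), (90, 89), (118, 117), (3, 119), (3, 80), (121, 80), (122, 80),
   (31, 33), (42, 124), (33, 125), (31, 126), (80, 127), (128, 3), (129, 65), (130, 74),
   (123, 131), (132, 120), (133, 48), (133, 3), (133, 108), (133, 135), (2, 1), (138, 105),
   (139, 1), (140, 2), (141, 105), (3, 142), (3, 143), (122, 131), (145, 144), (3, 131),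
   (147, 131), (148, 146), (149, 22), (149, 47), (149, 48), (149, 135), (149, 136), (105, 153),
   (149, 3), (149, 156), (18, 61), (158, 0), (159, 18), (160, 1), (161, 133), (162, 18),
   (163, 149), (75, 31), (165, 1), (166, 164), (59, 80), (1, 33), (131, 169), (1, 170),
   (33, 171), (131, 172), (173, 3), (174, 3), (175, 106), (176, 109), (168, 177), (178, 167),
   (100, 89), (180, 89), (181, 179), (42, 89), (31, 183), (31, 184), (89, 185), (131, 186),
   (1, 187), (131, 188), (80, 189), (190, 63), (191, 3), (192, 107), (3, 193), (194, 177),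
   (195, 131), (196, 182), (3, 177), (198, 197), (3, 199), (200, 70), (200, 135), (200, 156),
   (2, 200), (204, 105), (205, 149), (206, 2), (207, 0), (3, 208), (60, 209), (122, 89),
   (89, 42), (31, 212), (42, 213), (1, 214), (193, 215), (42, 216), (177, 217), (218, 8),
   (219, 151), (220, 72), (221, 155), (222, 156), (223, 3), (211, 224), (225, 210), (147, 193),
   (227, 226), (228, 48), (228, 3), (149, 230), (228, 203), (149, 231), (224, 33), (131, 234),
   (177, 235), (33, 236), (31, 237), (238, 3), (239, 22), (240, 201), (241, 136), (61, 105),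
   (243, 61), (244, 0), (245, 0), (3, 246), (60, 177), (248, 247), (121, 224), (250, 249),
   (3, 251), (3, 242), (253, 177), (254, 242), (255, 252), (256, 67), (256, 156), (149, 258),
   (256, 3), (256, 260), (3, 4), (262, 3), (263, 229), (264, 154), (265, 258), (266, 261),
   (3, 5), (268, 22), (269, 152), (270, 202), (271, 157), (272, 3), (3, 7), (274, 150),
   (275, 257), (276, 137), (277, 156), (278, 260), (3, 3), (280, 3), (281, 134), (282, 135),
   (283, 233), (284, 260), (281, 3), (286, 3), (287, 232), (288, 3), (287, 259), (290, 260),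
   (283, 231), (292, 261)]

/-- stack positions of the elements `b1 b2 b3` (transitive on the octad) -/
def borelIdxB : List ℕ := [267, 273, 279]

/-- stack positions of the elements `a1 a2 a3` (fixing `∞`) -/
def borelIdxA : List ℕ := [285, 289, 291]

/-- stack position of the element `ae` (fixing `∞` and `3`) -/
def borelIdxAE : List ℕ := [293]

/-- tables of `b1 b2 b3` -/
def borelTB : List (List ℕ) :=
  [[23, 2, 1, 3, 16, 5, 19, 21, 18, 9, 10, 12, 11, 22, 14, 15, 4, 17, 8, 6, 20, 7, 13, 0],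
   [2, 23, 0, 3, 21, 5, 22, 4, 20, 18, 8, 10, 9, 7, 14, 12, 6, 17, 15, 16, 11, 13, 19, 1],
   [5, 14, 17, 23, 18, 0, 19, 21, 22, 15, 20, 16, 13, 12, 1, 9, 11, 2, 4, 6, 10, 7, 8, 3]]

/-- tables of `a1 a2 a3` -/
def borelTA : List (List ℕ) :=
  [[0, 2, 1, 5, 21, 3, 12, 8, 9, 13, 22, 15, 10, 7, 14, 4, 19, 17, 20, 18, 16, 11, 6, 23],
   [0, 1, 2, 5, 10, 3, 18, 8, 6, 4, 22, 19, 21, 20, 17, 13, 15, 14, 7, 12, 16, 11, 9, 23],
   [0, 1, 2, 14, 22, 17, 6, 7, 11, 20, 15, 8, 18, 16, 3, 10, 13, 5, 12, 19, 9, 21, 4, 23]]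

/-- table of `ae` -/
def borelTAE : List (List ℕ) :=
  [[0, 2, 1, 3, 6, 5, 18, 11, 10, 13, 22, 20, 9, 19, 17, 4, 7, 14, 15, 12, 16, 8, 21, 23]]

/-- orbit certificate: `⟨b1, b2, b3⟩` is transitive on the octad (base point `∞`) -/
def borelCertB : List (ℕ × ℕ × ℕ) := [(2 ^ 0, 2 ^ 23, 0), (2 ^ 1, 2 ^ 23, 1), (2 ^ 2, 2 ^ 0, 1), (2 ^ 3, 2 ^ 23, 2), (2 ^ 5, 2 ^ 0, 2), (2 ^ 14, 2 ^ 1, 2), (2 ^ 17, 2 ^ 2, 2)]

/-- orbit certificate: `⟨a1, a2, a3⟩` moves `1` to `2` -/
def borelCertA1 : List (ℕ × ℕ × ℕ) := [(2 ^ 2, 2 ^ 1, 0)]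

/-- orbit certificate: `⟨a1, a2, a3⟩` is transitive on `{3, 5, 14, 17}` (base point `3`) -/
def borelCertA3 : List (ℕ × ℕ × ℕ) := [(2 ^ 5, 2 ^ 3, 0), (2 ^ 14, 2 ^ 3, 2), (2 ^ 17, 2 ^ 5, 2)]

end Cfsg.Agent.Lib.Helper48
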