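import Cfsg.Agent.Lib.Helper48.M24SevenData
import Cfsg.Agent.Lib.Helper27.M24Classes
import Cfsg.Agent.Lib.Helper7.M24OctStab

/-!
# An explicit subgroup of order 7 of `M24`: centralizer of order 42, normalizer of order 126

`s7` has cycles `(0 1 2 3 5 14 17)`, `(6 16 15 7 11 12 13)`, `(8 9 22 18 19 21 10)` and fixed points
`4, 20, ∞`.  We compute `C7 = C_{M24}(s7)` and `N7 = N_{M24}(⟨s7⟩)` by orbit–stabilizer along
`∞, 2, 3`, using that the three `s7`-invariant octads are `cycle ∪ {fixed point}`.
-/

set_option autoImplicit false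

namespace Cfsg.Agent.Lib.Helper48

open Cfsg Cfsg.Agent.Lib.Helper7 Cfsg.Agent.Lib.Helper27
open scoped Pointwise

theorem sevenT_eq : slpT sevenProg sevenIdx = sevenT := by decide +kernel

/-- the `k`-th named element: `s, r2, r3, tau, nu1, nu2, m` -/
noncomputable def e7 (k : ℕ) : Equiv.Perm GolayPt := (slpP sevenProg sevenIdx).getD k 1

/-- its table -/
def t7 (k : ℕ) : List ℕ := sevenT.getD k idT

theorem matches_e7 (k : ℕ) : Matches (e7 k) (t7 k) := by
  have h := slp_match sevenProg sevenIdx
  rw [sevenT_eq] at h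
  exact forall₂_getD h matches_one k

theorem e7_mem_M24 (k : ℕ) : e7 k ∈ M24 := by
  unfold e7
  rw [List.getD_eq_getElem?_getD]
  cases hk : (slpP sevenProg sevenIdx)[k]? with
  | none => simp
  | some g' =>
    simp only [Option.getD_some]
    exact slpP_mem_M24 _ _ g' (List.mem_of_getElem? hk)

theorem eq_of_matches {σ σ' : Equiv.Perm GolayPt} {t : List ℕ} (h : Matches σ t)
    (h' : Matches σ' t) : σ = σ' := by
  refine Equiv.ext fun p => ?_
  apply idx_injective
  rw [h p, h' p]

/-- table of a power -/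
def powT (t : List ℕ) : ℕ → List ℕ
  | 0 => idT
  | n + 1 => compT (powT t n) t

theorem matches_pow {σ : Equiv.Perm GolayPt} {t : List ℕ} (h : Matches σ t) (n : ℕ) :
    Matches (σ ^ n) (powT t n) := by
  induction n with
  | zero => simpa [powT] using matches_one
  | succ n ih => rw [pow_succ]; exact matches_mul ih h

/-- evaluating a matched permutation at `pt i` -/
theorem matches_pt {σ : Equiv.Perm GolayPt} {t : List ℕ} (h : Matches σ t) {i : ℕ} (hi : i < 24) :
    idx (σ (pt i)) = t.getD i 0 := by
  rw [h (pt i), idx_pt hi]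

/-! ### The elements -/

instance fact_prime_seven : Fact (Nat.Prime 7) := ⟨by norm_num⟩

set_option maxRecDepth 100000

/-- the element of order seven -/
noncomputable def s7 : Equiv.Perm GolayPt := e7 0

theorem s7_mem : s7 ∈ M24 := e7_mem_M24 0

theorem matches_s7 : Matches s7 (t7 0) := matches_e7 0

theorem s7_pow_seven : s7 ^ 7 = 1 := by
  apply eq_one_of_matches_idT
  have h := matches_pow matches_s7 7
  have e : powT (t7 0) 7 = idT := by decide +kernel
  rwa [e] at h

theorem s7_ne_one : s7 ≠ 1 := by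
  intro h
  have h1 := matches_apply matches_s7 (i := 0) (j := 1) (by decide) (by decide) (by decide +kernel)
  rw [h] at h1
  have h2 : idx (pt 0) = idx (pt 1) := congrArg idx h1
  rw [idx_pt (by decide), idx_pt (by decide)] at h2
  exact absurd h2 (by decide)

theorem orderOf_s7 : orderOf s7 = 7 :=
  orderOf_eq_prime s7_pow_seven s7_ne_one

/-- fixed points of nontrivial powers of `s7` -/
theorem fixed_of_pow {k : ℕ} (hk1 : 1 ≤ k) (hk : k < 7) {p : GolayPt} (h : (s7 ^ k) p = p) :
    p = pt 4 ∨ p = pt 20 ∨ p = pt 23 := by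
  have hm := matches_pow matches_s7 k p
  rw [h] at hm
  have key : ∀ k, 1 ≤ k → k < 7 → ∀ i < 24, (powT (t7 0) k).getD i 0 = i →
      i = 4 ∨ i = 20 ∨ i = 23 := by decide +kernel
  rcases key k hk1 hk (idx p) (idx_lt p) hm.symm with h' | h' | h'
  · left; rw [← pt_idx p, h']
  · right; left; rw [← pt_idx p, h']
  · right; right; rw [← pt_idx p, h']

theorem s7_fix (i : ℕ) (hi : i = 4 ∨ i = 20 ∨ i = 23) : s7 (pt i) = pt i := by
  rcases hi with rfl | rfl | rfl <;>
    exact matches_apply matches_s7 (by decide) (by decide) (by decide +kernel)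

end Cfsg.Agent.Lib.Helper48
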