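import Cfsg.Agent.Lib.Helper48.M24Seven

/-!
# The subgroups `C7`, `N7` of `M24` and the invariant trio of `s7`
-/

set_option autoImplicit false
set_option maxRecDepth 100000

namespace Cfsg.Agent.Lib.Helper48

open Cfsg Cfsg.Agent.Lib.Helper7 Cfsg.Agent.Lib.Helper27
open scoped Pointwise

/-! ### Relations -/

theorem e7_comm {k : ℕ} (hk : k = 1 ∨ k = 2 ∨ k = 3) : e7 k * s7 = s7 * e7 k := by
  have key : compT (t7 1) (t7 0) = compT (t7 0) (t7 1) ∧ compT (t7 2) (t7 0) = compT (t7 0) (t7 2) ∧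
      compT (t7 3) (t7 0) = compT (t7 0) (t7 3) := by
    decide +kernel
  have h1 := matches_mul (matches_e7 k) matches_s7
  have h2 := matches_mul matches_s7 (matches_e7 k)
  have key' : compT (t7 k) (t7 0) = compT (t7 0) (t7 k) := by
    rcases hk with rfl | rfl | rfl
    · exact key.1
    · exact key.2.1
    · exact key.2.2
  rw [key'] at h1
  exact eq_of_matches h1 h2

theorem nu1_rel : e7 4 * s7 = s7 ^ 4 * e7 4 := by
  have key : compT (t7 4) (t7 0) = compT (powT (t7 0) 4) (t7 4) := by decide +kernel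
  have h1 := matches_mul (matches_e7 4) matches_s7
  have h2 := matches_mul (matches_pow matches_s7 4) (matches_e7 4)
  rw [key] at h1
  exact eq_of_matches h1 h2

theorem nu2_rel : e7 5 * s7 = s7 ^ 2 * e7 5 := by
  have key : compT (t7 5) (t7 0) = compT (powT (t7 0) 2) (t7 5) := by decide +kernel
  have h1 := matches_mul (matches_e7 5) matches_s7
  have h2 := matches_mul (matches_pow matches_s7 2) (matches_e7 5)
  rw [key] at h1
  exact eq_of_matches h1 h2

/-- values of the named elements -/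
theorem e7_apply {k i j : ℕ} (hi : i < 24) (hj : j < 24) (h : (t7 k).getD i 0 = j) :
    e7 k (pt i) = pt j := matches_apply (matches_e7 k) hi hj h

/-! ### The subgroups -/

/-- the subgroup of order seven -/
noncomputable def S7 : Subgroup (Equiv.Perm GolayPt) := Subgroup.zpowers s7

/-- its normalizer in `M24` -/
noncomputable def N7 : Subgroup (Equiv.Perm GolayPt) := M24 ⊓ Subgroup.normalizer (S7 : Set (Equiv.Perm GolayPt))

/-- its centralizer in `M24` -/
noncomputable def C7 : Subgroup (Equiv.Perm GolayPt) := M24 ⊓ Subgroup.centralizer {s7}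

theorem mem_C7 {g : Equiv.Perm GolayPt} : g ∈ C7 ↔ g ∈ M24 ∧ g * s7 = s7 * g := by
  unfold C7
  rw [Subgroup.mem_inf, Subgroup.mem_centralizer_singleton_iff]

theorem card_S7 : Nat.card S7 = 7 := by
  unfold S7
  rw [Nat.card_zpowers, orderOf_s7]

theorem mem_N7 {g : Equiv.Perm GolayPt} :
    g ∈ N7 ↔ g ∈ M24 ∧ ∃ k, 1 ≤ k ∧ k < 7 ∧ g * s7 = s7 ^ k * g := by
  classical
  unfold N7
  rw [Subgroup.mem_inf]
  constructor
  · rintro ⟨hM, hn⟩
    refine ⟨hM, ?_⟩
    have h1 : g * s7 * g⁻¹ ∈ S7 := (Subgroup.mem_normalizer_iff.1 hn s7).1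
      (Subgroup.mem_zpowers s7)
    unfold S7 at h1
    rw [mem_zpowers_iff_mem_range_orderOf, orderOf_s7] at h1
    obtain ⟨k, hk, hk2⟩ := Finset.mem_image.1 h1
    rw [Finset.mem_range] at hk
    have hk2' : s7 ^ k = g * s7 * g⁻¹ := hk2
    refine ⟨k, ?_, hk, ?_⟩
    · rcases Nat.eq_zero_or_pos k with h0 | h0
      · exfalso
        rw [h0, pow_zero] at hk2'
        apply s7_ne_one
        have : s7 = g⁻¹ * (g * s7 * g⁻¹) * g := by group
        rw [this, ← hk2']; group
      · exact h0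
    · rw [hk2']; group
  · rintro ⟨hM, k, _, _, hk⟩
    refine ⟨hM, ?_⟩
    have : Finite (S7 : Set (Equiv.Perm GolayPt)) := Set.toFinite _
    apply Subgroup.mem_normalizer_fintype
    intro n hn
    rw [SetLike.mem_coe] at hn ⊢
    obtain ⟨j, rfl⟩ := Subgroup.mem_zpowers_iff.1 hn
    have hc : g * s7 * g⁻¹ = s7 ^ k := by rw [hk]; group
    have : g * s7 ^ j * g⁻¹ = (g * s7 * g⁻¹) ^ j := by
      rw [← MulAut.conj_apply, ← MulAut.conj_apply, map_zpow]
    rw [this, hc]
    exact Subgroup.zpow_mem _ (Subgroup.pow_mem _ (Subgroup.mem_zpowers s7) k) j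

theorem C7_le_N7 : C7 ≤ N7 := by
  intro g hg
  rw [mem_C7] at hg
  rw [mem_N7]
  exact ⟨hg.1, 1, le_refl _, by decide, by rw [pow_one]; exact hg.2⟩

theorem N7_le_M24 : N7 ≤ M24 := fun g hg => (mem_N7.1 hg).1

theorem s7_mem_C7 : s7 ∈ C7 := mem_C7.2 ⟨s7_mem, rfl⟩

theorem e7_mem_C7 {k : ℕ} (hk : k = 1 ∨ k = 2 ∨ k = 3) : e7 k ∈ C7 :=
  mem_C7.2 ⟨e7_mem_M24 k, e7_comm hk⟩

theorem nu1_mem_N7 : e7 4 ∈ N7 := mem_N7.2 ⟨e7_mem_M24 4, 4, by decide, by decide, nu1_rel⟩

theorem nu2_mem_N7 : e7 5 ∈ N7 := mem_N7.2 ⟨e7_mem_M24 5, 2, by decide, by decide, nu2_rel⟩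

/-- conjugation relation on powers -/
theorem rel_pow {g : Equiv.Perm GolayPt} {k : ℕ} (h : g * s7 = s7 ^ k * g) (j : ℕ) :
    g * s7 ^ j = s7 ^ (k * j) * g := by
  have hs : SemiconjBy g s7 (s7 ^ k) := h
  have := hs.pow_right j
  rw [pow_mul]
  exact this

/-- an element of `N7` maps fixed points of `s7` to fixed points of `s7` -/
theorem N7_fix {g : Equiv.Perm GolayPt} (hg : g ∈ N7) {i : ℕ} (hi : i = 4 ∨ i = 20 ∨ i = 23) :
    g (pt i) = pt 4 ∨ g (pt i) = pt 20 ∨ g (pt i) = pt 23 := by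
  obtain ⟨_, k, hk1, hk7, hk⟩ := mem_N7.1 hg
  apply fixed_of_pow hk1 hk7
  have : (s7 ^ k * g) (pt i) = (g * s7) (pt i) := by rw [hk]
  rw [Equiv.Perm.mul_apply, Equiv.Perm.mul_apply, s7_fix i hi] at this
  exact this


/-! ### Invariant octads -/

theorem inv_octads : ∀ o ∈ octads, s7 • o = o →
    o = setOf octO ∨ o = setOf octM2 ∨ o = setOf octM3 := by
  apply forall_octads7
  intro m hm h
  have h1 : mapsInto (t7 0) m m = true := by
    apply mapsInto_complete matches_s7
    intro p hp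
    rw [← h]
    exact (apply_mem_perm_smul_finset s7 _ p).2 hp
  have key : ∀ m ∈ octL, mapsInto (t7 0) m m = true → m = octO ∨ m = octM2 ∨ m = octM3 := by
    decide +kernel
  rcases key m hm h1 with rfl | rfl | rfl
  · left; rfl
  · right; left; rfl
  · right; right; rfl

/-- the trio of `s7`-invariant octads -/
def T7 : Finset (Finset GolayPt) := {setOf octO, setOf octM2, setOf octM3}

theorem mem_T7 {o : Finset GolayPt} :
    o ∈ T7 ↔ o = setOf octO ∨ o = setOf octM2 ∨ o = setOf octM3 := by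
  simp [T7]

theorem T7_octads {o : Finset GolayPt} (ho : o ∈ T7) : o ∈ octads := by
  rcases mem_T7.1 ho with rfl | rfl | rfl
  · exact setOf_mem_octads7 (by decide +kernel)
  · exact setOf_mem_octads7 (by decide +kernel)
  · exact setOf_mem_octads7 (by decide +kernel)

theorem T7_inv {o : Finset GolayPt} (ho : o ∈ T7) : s7 • o = o := by
  rcases mem_T7.1 ho with rfl | rfl | rfl
  · exact smul_setOf_eq_of_mapsInto matches_s7 (by decide +kernel) (le_refl _)
  · exact smul_setOf_eq_of_mapsInto matches_s7 (by decide +kernel) (le_refl _)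
  · exact smul_setOf_eq_of_mapsInto matches_s7 (by decide +kernel) (le_refl _)

theorem pow_smul_eq {o : Finset GolayPt} (h : s7 • o = o) (k : ℕ) : (s7 ^ k) • o = o := by
  induction k with
  | zero => simp
  | succ k ih => rw [pow_succ, mul_smul, h, ih]

theorem N7_smul_T7 {g : Equiv.Perm GolayPt} (hg : g ∈ N7) {o : Finset GolayPt} (ho : o ∈ T7) :
    g • o ∈ T7 := by
  rw [mem_T7]
  apply inv_octads
  · exact (smul_mem_octads_iff (N7_le_M24 hg)).2 (T7_octads ho)
  · obtain ⟨_, k, _, _, hk⟩ := mem_N7.1 (N7.inv_mem hg)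
    have h1 : s7 * g = g * s7 ^ k := by
      have : s7 * g = g * (g⁻¹ * s7) * g := by group
      rw [this, hk]; group
    rw [← mul_smul, h1, mul_smul, pow_smul_eq (T7_inv ho)]

theorem pt23_mem : pt 23 ∈ setOf octO := by rw [mem_setOf, idx_pt (by decide)]; decide

theorem N7_smul_octO {g : Equiv.Perm GolayPt} (hg : g ∈ N7) (h23 : g (pt 23) = pt 23) :
    g • setOf octO = setOf octO := by
  have h1 : g • setOf octO ∈ T7 := N7_smul_T7 hg (mem_T7.2 (Or.inl rfl))
  have h2 : pt 23 ∈ g • setOf octO := by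
    rw [← h23]
    exact (apply_mem_perm_smul_finset g _ _).2 pt23_mem
  rcases mem_T7.1 h1 with h | h | h
  · exact h
  · rw [h, mem_setOf, idx_pt (by decide)] at h2
    exact absurd h2 (by decide)
  · rw [h, mem_setOf, idx_pt (by decide)] at h2
    exact absurd h2 (by decide)

theorem T7_mem_trios : T7 ∈ trios := by
  have hd : ∀ a b : ℕ, a &&& b = 0 → Disjoint (setOf a) (setOf b) := by
    intro a b hab
    rw [Finset.disjoint_iff_inter_eq_empty, ← Finset.card_eq_zero, card_setOf_inter, hab]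
    decide
  have h12 : Disjoint (setOf octO) (setOf octM2) := hd _ _ (by decide)
  have h13 : Disjoint (setOf octO) (setOf octM3) := hd _ _ (by decide)
  have h23 : Disjoint (setOf octM2) (setOf octM3) := hd _ _ (by decide)
  have hne : ∀ m : ℕ, pc m = 8 → (setOf m).Nonempty := by
    intro m hm
    rw [← Finset.card_pos, card_setOf, hm]; decide
  have n1 := hne octO (by decide)
  have n2 := hne octM2 (by decide)
  have n3 := hne octM3 (by decide)
  refine ⟨?_, fun o ho => T7_octads ho, ?_⟩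
  · unfold T7
    rw [Finset.card_insert_of_notMem, Finset.card_insert_of_notMem, Finset.card_singleton]
    · rw [Finset.mem_singleton]
      intro h
      rw [h] at h23
      exact n3.ne_empty (Finset.disjoint_self_iff_empty _ |>.1 h23)
    · rw [Finset.mem_insert, Finset.mem_singleton]
      rintro (h | h)
      · rw [h] at h12
        exact n2.ne_empty (Finset.disjoint_self_iff_empty _ |>.1 h12)
      · rw [h] at h13
        exact n3.ne_empty (Finset.disjoint_self_iff_empty _ |>.1 h13)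
  · intro o ho o' ho' hne'
    rcases mem_T7.1 ho with rfl | rfl | rfl <;> rcases mem_T7.1 ho' with rfl | rfl | rfl
    · exact absurd rfl hne'
    · exact h12
    · exact h13
    · exact h12.symm
    · exact absurd rfl hne'
    · exact h23
    · exact h13.symm
    · exact h23.symm
    · exact absurd rfl hne'

theorem N7_smul_trio {g : Equiv.Perm GolayPt} (hg : g ∈ N7) : g • T7 = T7 := by
  apply Finset.eq_of_subset_of_card_le
  · intro x hx
    rw [Finset.mem_smul_finset] at hx
    obtain ⟨o, ho, rfl⟩ := hx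
    exact N7_smul_T7 hg ho
  · rw [Finset.card_smul_finset]

end Cfsg.Agent.Lib.Helper48
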