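import Cfsg.Agent.Lib.Helper48.M24SevenB

/-!
# `|C7| = 42`, `|N7| = 126` by orbit–stabilizer along `∞, 2, 3, 4`
-/

set_option autoImplicit false
set_option maxRecDepth 100000

namespace Cfsg.Agent.Lib.Helper48

open Cfsg Cfsg.Agent.Lib.Helper7 Cfsg.Agent.Lib.Helper27
open scoped Pointwise

theorem pt_ne {i j : ℕ} (hi : i < 24) (hj : j < 24) (h : i ≠ j) : pt i ≠ pt j := by
  intro e
  apply h
  have := congrArg idx e
  rwa [idx_pt hi, idx_pt hj] at this

/-- values of powers of `s7` -/
theorem s7_pow_apply {n i j : ℕ} (hi : i < 24) (hj : j < 24)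
    (h : (powT (t7 0) n).getD i 0 = j) : (s7 ^ n) (pt i) = pt j :=
  matches_apply (matches_pow matches_s7 n) hi hj h

/-- how a normalizing element acts on the orbit of `pt 2` -/
theorem apply_orbit {g : Equiv.Perm GolayPt} {k : ℕ} (h : g * s7 = s7 ^ k * g)
    (h2 : g (pt 2) = pt 2) (j : ℕ) : g ((s7 ^ j) (pt 2)) = (s7 ^ (k * j)) (pt 2) := by
  have := rel_pow h j
  have e : (g * s7 ^ j) (pt 2) = (s7 ^ (k * j) * g) (pt 2) := by rw [this]
  rw [Equiv.Perm.mul_apply, Equiv.Perm.mul_apply, h2] at e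
  exact e

/-- the points of `octO` are `pt 23` and the orbit of `pt 2` -/
theorem octO_pts : ∀ i < 24, octO.testBit i = true →
    i = 23 ∨ ∃ j < 7, (powT (t7 0) j).getD 2 0 = i := by decide +kernel

theorem mem_octO_cases {p : GolayPt} (hp : p ∈ setOf octO) :
    p = pt 23 ∨ ∃ j < 7, p = (s7 ^ j) (pt 2) := by
  rw [mem_setOf] at hp
  rcases octO_pts (idx p) (idx_lt p) hp with h | ⟨j, hj, h⟩
  · left; rw [← pt_idx p, h]
  · right
    refine ⟨j, hj, ?_⟩
    rw [s7_pow_apply (by decide) (idx_lt p) h, pt_idx]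

/-- a centralizing element fixing `pt 23` and `pt 2` fixes `octO` pointwise -/
theorem mem_fixM24_of_comm {g : Equiv.Perm GolayPt} (hg : g ∈ C7) (h23 : g (pt 23) = pt 23)
    (h2 : g (pt 2) = pt 2) : g ∈ fixM24 (setOf octO) := by
  rw [mem_C7] at hg
  rw [mem_fixM24]
  refine ⟨hg.1, fun p hp => ?_⟩
  rcases mem_octO_cases hp with rfl | ⟨j, _, rfl⟩
  · exact h23
  · have h : g * s7 = s7 ^ 1 * g := by rw [pow_one]; exact hg.2
    rw [apply_orbit h h2 j, one_mul]

/-- an element of `M24` fixing six points of `octO` (the base points in it) fixes `octO`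
pointwise -/
theorem mem_fixM24_of_fixes6 {h : Equiv.Perm GolayPt} (hM : h ∈ M24)
    (h5 : ∀ j < 5, h (bp j) = bp j) (h6 : h (bp 6) = bp 6) : h ∈ fixM24 (setOf octO) := by
  have hok := orbitOK_of_fixes hM (i := 5) (by decide) h5
  set q := idx (h (bp 5)) with hq
  have hq24 : q < 24 := idx_lt _
  obtain ⟨hmem, hmap, hinv⟩ := octStabElem_spec hq24 hok
  have hmem' := mem_fixM24.1 hmem
  have h1 : octStabElem q * h = 1 := by
    apply eq_one_of_fixes_base (M24.mul_mem hmem'.1 hM)
    intro j hj
    rw [Equiv.Perm.mul_apply]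
    by_cases hj5 : j = 5
    · subst hj5
      have hpq : pt q = h (bp 5) := by rw [hq, pt_idx]
      rw [← hpq, hmap]
      rfl
    · have hb : h (bp j) = bp j := by
        by_cases hj' : j < 5
        · exact h5 j hj'
        · have : j = 6 := by omega
          subst this; exact h6
      rw [hb]
      exact hmem'.2 _ (bp_mem_setOf_octO hj hj5)
  have : h = octStabElem q := by
    calc h = (octStabElem q * octStabElem q) * h := by rw [hinv, one_mul]
      _ = octStabElem q * (octStabElem q * h) := by rw [mul_assoc]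
      _ = octStabElem q := by rw [h1, mul_one]
  rw [this]; exact hmem

theorem bp0_eq : bp 0 = pt 23 := rfl
theorem bp1_eq : bp 1 = pt 0 := rfl
theorem bp2_eq : bp 2 = pt 1 := rfl
theorem bp3_eq : bp 3 = pt 2 := rfl
theorem bp4_eq : bp 4 = pt 3 := rfl
theorem bp6_eq : bp 6 = pt 5 := rfl

/-- inversion of `s7` is not induced by an element of `M24` fixing `pt 23` and `pt 2` -/
theorem no_k6 {g : Equiv.Perm GolayPt} (hM : g ∈ M24) (h : g * s7 = s7 ^ 6 * g)
    (h23 : g (pt 23) = pt 23) (h2 : g (pt 2) = pt 2) : False := by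
  -- values of `g` on the orbit of `pt 2`
  have g1 : g (pt 1) = pt 3 := by
    have := apply_orbit h h2 6
    rwa [s7_pow_apply (i := 2) (j := 1) (by decide) (by decide) (by decide +kernel),
      s7_pow_apply (i := 2) (j := 3) (by decide) (by decide) (by decide +kernel)] at this
  have g3 : g (pt 3) = pt 1 := by
    have := apply_orbit h h2 1
    rwa [s7_pow_apply (i := 2) (j := 3) (by decide) (by decide) (by decide +kernel),
      s7_pow_apply (i := 2) (j := 1) (by decide) (by decide) (by decide +kernel)] at this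
  have g0 : g (pt 0) = pt 5 := by
    have := apply_orbit h h2 5
    rwa [s7_pow_apply (i := 2) (j := 0) (by decide) (by decide) (by decide +kernel),
      s7_pow_apply (i := 2) (j := 5) (by decide) (by decide) (by decide +kernel)] at this
  have g5 : g (pt 5) = pt 0 := by
    have := apply_orbit h h2 2
    rwa [s7_pow_apply (i := 2) (j := 5) (by decide) (by decide) (by decide +kernel),
      s7_pow_apply (i := 2) (j := 0) (by decide) (by decide) (by decide +kernel)] at this
  have g14 : g (pt 14) = pt 17 := by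
    have := apply_orbit h h2 3
    rwa [s7_pow_apply (i := 2) (j := 14) (by decide) (by decide) (by decide +kernel),
      s7_pow_apply (i := 2) (j := 17) (by decide) (by decide) (by decide +kernel)] at this
  -- the element `m`
  have m23 : e7 6 (pt 23) = pt 23 := e7_apply (by decide) (by decide) (by decide +kernel)
  have m2 : e7 6 (pt 2) = pt 2 := e7_apply (by decide) (by decide) (by decide +kernel)
  have m3 : e7 6 (pt 3) = pt 1 := e7_apply (by decide) (by decide) (by decide +kernel)
  have m1 : e7 6 (pt 1) = pt 3 := e7_apply (by decide) (by decide) (by decide +kernel)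
  have m5 : e7 6 (pt 5) = pt 0 := e7_apply (by decide) (by decide) (by decide +kernel)
  have m0 : e7 6 (pt 0) = pt 5 := e7_apply (by decide) (by decide) (by decide +kernel)
  have m14 : e7 6 (pt 14) = pt 14 := e7_apply (by decide) (by decide) (by decide +kernel)
  have hmem : g * e7 6 ∈ fixM24 (setOf octO) := by
    apply mem_fixM24_of_fixes6 (M24.mul_mem hM (e7_mem_M24 6))
    · have key : ∀ j < 5, j = 0 ∨ j = 1 ∨ j = 2 ∨ j = 3 ∨ j = 4 := by decide
      intro j hj
      rw [Equiv.Perm.mul_apply]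
      rcases key j hj with rfl | rfl | rfl | rfl | rfl
      · rw [bp0_eq, m23, h23]
      · rw [bp1_eq, m0, g5]
      · rw [bp2_eq, m1, g3]
      · rw [bp3_eq, m2, h2]
      · rw [bp4_eq, m3, g1]
    · rw [Equiv.Perm.mul_apply, bp6_eq, m5, g0]
  have h14 : (g * e7 6) (pt 14) = pt 14 := by
    apply (mem_fixM24.1 hmem).2
    rw [mem_setOf, idx_pt (by decide)]; decide
  rw [Equiv.Perm.mul_apply, m14, g14] at h14
  exact pt_ne (i := 17) (j := 14) (by decide) (by decide) (by decide) h14

theorem s7_pow_mod (n : ℕ) : s7 ^ n = s7 ^ (n % 7) := by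
  conv_lhs => rw [← Nat.div_add_mod n 7, pow_add, pow_mul, s7_pow_seven, one_pow, one_mul]

theorem no_k3 {g : Equiv.Perm GolayPt} (hM : g ∈ M24) (h : g * s7 = s7 ^ 3 * g)
    (h23 : g (pt 23) = pt 23) (h2 : g (pt 2) = pt 2) : False := by
  apply no_k6 (g := e7 5 * g) (M24.mul_mem (e7_mem_M24 5) hM)
  · have := rel_pow nu2_rel 3
    rw [mul_assoc, h, ← mul_assoc, this, mul_assoc]
  · rw [Equiv.Perm.mul_apply, h23]
    exact e7_apply (by decide) (by decide) (by decide +kernel)
  · rw [Equiv.Perm.mul_apply, h2]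
    exact e7_apply (by decide) (by decide) (by decide +kernel)

theorem no_k5 {g : Equiv.Perm GolayPt} (hM : g ∈ M24) (h : g * s7 = s7 ^ 5 * g)
    (h23 : g (pt 23) = pt 23) (h2 : g (pt 2) = pt 2) : False := by
  apply no_k6 (g := e7 4 * g) (M24.mul_mem (e7_mem_M24 4) hM)
  · have := rel_pow nu1_rel 5
    rw [mul_assoc, h, ← mul_assoc, this, mul_assoc, s7_pow_mod (4 * 5)]
  · rw [Equiv.Perm.mul_apply, h23]
    exact e7_apply (by decide) (by decide) (by decide +kernel)
  · rw [Equiv.Perm.mul_apply, h2]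
    exact e7_apply (by decide) (by decide) (by decide +kernel)


/-! ### Counting -/

/-- the stabilizer of `pt i` -/
abbrev stb (i : ℕ) : Subgroup (Equiv.Perm GolayPt) :=
  MulAction.stabilizer (Equiv.Perm GolayPt) (pt i)

theorem mem_stb {i : ℕ} {g : Equiv.Perm GolayPt} : g ∈ stb i ↔ g (pt i) = pt i :=
  MulAction.mem_stabilizer_iff

theorem card_level1 (K : Subgroup (Equiv.Perm GolayPt)) (h1 : C7 ≤ K) (h2 : K ≤ N7) :
    Nat.card K = 3 * Nat.card ↥(K ⊓ stb 23) := by
  have h := card_eq_card_mul_card_inf_stabilizer K (pt 23)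
    ({pt 4, pt 20, pt 23} : Finset GolayPt)
    (by
      intro g hg
      have := N7_fix (h2 hg) (i := 23) (Or.inr (Or.inr rfl))
      simp only [Finset.mem_insert, Finset.mem_singleton, Equiv.Perm.smul_def]
      exact this)
    (by
      intro q hq
      simp only [Finset.mem_insert, Finset.mem_singleton] at hq
      rcases hq with rfl | rfl | rfl
      · exact ⟨e7 1, h1 (e7_mem_C7 (Or.inl rfl)),
          e7_apply (by decide) (by decide) (by decide +kernel)⟩
      · exact ⟨e7 2, h1 (e7_mem_C7 (Or.inr (Or.inl rfl))),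
          e7_apply (by decide) (by decide) (by decide +kernel)⟩
      · exact ⟨1, K.one_mem, rfl⟩)
  rw [h]
  have : ({pt 4, pt 20, pt 23} : Finset GolayPt).card = 3 := by decide
  rw [this]

/-- the orbit of `pt 2` -/
def Z1 : Finset GolayPt := (setOf octO).erase (pt 23)

theorem card_Z1 : Z1.card = 7 := by
  unfold Z1
  rw [Finset.card_erase_of_mem pt23_mem, card_setOf]
  decide

theorem Z1_pts : ∀ i < 24, octO.testBit i = true → i ≠ 23 →
    ∃ j < 7, (powT (t7 0) j).getD i 0 = 2 := by decide +kernel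

theorem s7_pow_mem_C7 (j : ℕ) : s7 ^ j ∈ C7 := C7.pow_mem s7_mem_C7 j

theorem s7_pow_fix (j : ℕ) {i : ℕ} (hi : i = 4 ∨ i = 20 ∨ i = 23) : (s7 ^ j) (pt i) = pt i := by
  induction j with
  | zero => simp
  | succ j ih => rw [pow_succ, Equiv.Perm.mul_apply, s7_fix i hi, ih]

theorem card_level2 (K : Subgroup (Equiv.Perm GolayPt)) (h1 : C7 ≤ K) (h2 : K ≤ N7) :
    Nat.card ↥(K ⊓ stb 23) = 7 * Nat.card ↥(K ⊓ stb 23 ⊓ stb 2) := by
  have h := card_eq_card_mul_card_inf_stabilizer (K ⊓ stb 23) (pt 2) Z1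
    (by
      intro g hg
      rw [Subgroup.mem_inf, mem_stb] at hg
      have ho := N7_smul_octO (h2 hg.1) hg.2
      have h2m : pt 2 ∈ setOf octO := by rw [mem_setOf, idx_pt (by decide)]; decide
      have : g (pt 2) ∈ g • setOf octO := (apply_mem_perm_smul_finset g _ _).2 h2m
      rw [ho] at this
      unfold Z1
      rw [Finset.mem_erase]
      refine ⟨?_, this⟩
      intro e
      rw [← hg.2] at e
      exact pt_ne (i := 2) (j := 23) (by decide) (by decide) (by decide) (g.injective e))
    (by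
      intro q hq
      unfold Z1 at hq
      rw [Finset.mem_erase, mem_setOf] at hq
      have hne : idx q ≠ 23 := by
        intro e
        apply hq.1
        rw [← pt_idx q, e]
      obtain ⟨j, _, hj⟩ := Z1_pts (idx q) (idx_lt q) hq.2 hne
      refine ⟨s7 ^ j, ?_, ?_⟩
      · rw [Subgroup.mem_inf, mem_stb]
        exact ⟨h1 (s7_pow_mem_C7 j), s7_pow_fix j (Or.inr (Or.inr rfl))⟩
      · have := s7_pow_apply (n := j) (idx_lt q) (by decide) hj
        rwa [pt_idx] at this)
  rw [h, card_Z1]

/-- the bottom of the chain -/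
theorem bottom_eq_bot : C7 ⊓ stb 23 ⊓ stb 2 ⊓ stb 4 = ⊥ := by
  rw [eq_bot_iff]
  intro g hg
  simp only [Subgroup.mem_inf, mem_stb] at hg
  obtain ⟨⟨⟨hC, h23⟩, h2⟩, h4⟩ := hg
  exact Subgroup.mem_bot.2 (eq_one_of_mem_fixM24_octO (mem_fixM24_of_comm hC h23 h2) h4)

theorem card_level3C : Nat.card ↥(C7 ⊓ stb 23 ⊓ stb 2) = 2 := by
  have h := card_eq_card_mul_card_inf_stabilizer (C7 ⊓ stb 23 ⊓ stb 2) (pt 4)
    ({pt 4, pt 20} : Finset GolayPt)
    (by
      intro g hg
      simp only [Subgroup.mem_inf, mem_stb] at hg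
      obtain ⟨⟨hC, h23⟩, h2⟩ := hg
      simp only [Finset.mem_insert, Finset.mem_singleton, Equiv.Perm.smul_def]
      rcases N7_fix (C7_le_N7 hC) (i := 4) (Or.inl rfl) with h | h | h
      · exact Or.inl h
      · exact Or.inr h
      · exfalso
        rw [← h23] at h
        exact pt_ne (i := 4) (j := 23) (by decide) (by decide) (by decide) (g.injective h))
    (by
      intro q hq
      simp only [Finset.mem_insert, Finset.mem_singleton] at hq
      rcases hq with rfl | rfl
      · exact ⟨1, Subgroup.one_mem _, rfl⟩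
      · refine ⟨e7 3, ?_, e7_apply (by decide) (by decide) (by decide +kernel)⟩
        simp only [Subgroup.mem_inf, mem_stb]
        exact ⟨⟨e7_mem_C7 (Or.inr (Or.inr rfl)),
          e7_apply (by decide) (by decide) (by decide +kernel)⟩,
          e7_apply (by decide) (by decide) (by decide +kernel)⟩)
  rw [h, bottom_eq_bot]
  have : ({pt 4, pt 20} : Finset GolayPt).card = 2 := by decide
  rw [this]
  simp

theorem card_C7 : Nat.card C7 = 42 := by
  rw [card_level1 C7 (le_refl _) C7_le_N7, card_level2 C7 (le_refl _) C7_le_N7, card_level3C]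

theorem k_values : ∀ k, 1 ≤ k → k < 7 →
    (powT (t7 0) (k * 1)).getD 2 0 = [0, 3, 5, 14, 17, 0, 1].getD k 0 := by decide +kernel

theorem level3N_eq : N7 ⊓ stb 23 ⊓ stb 2 ⊓ stb 3 = C7 ⊓ stb 23 ⊓ stb 2 := by
  ext g
  simp only [Subgroup.mem_inf, mem_stb]
  constructor
  · rintro ⟨⟨⟨hN, h23⟩, h2⟩, h3⟩
    refine ⟨⟨?_, h23⟩, h2⟩
    obtain ⟨hM, k, hk1, hk7, hk⟩ := mem_N7.1 hN
    have e := apply_orbit hk h2 1
    rw [s7_pow_apply (n := 1) (i := 2) (j := 3) (by decide) (by decide) (by decide +kernel), h3,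
      s7_pow_apply (n := k * 1) (i := 2) (j := [0, 3, 5, 14, 17, 0, 1].getD k 0) (by decide)
        (by interval_cases k <;> decide) (k_values k hk1 hk7)] at e
    have e' := congrArg idx e
    rw [idx_pt (by decide), idx_pt (by interval_cases k <;> decide)] at e'
    have hk' : k = 1 := by
      interval_cases k
      · rfl
      all_goals exact absurd e' (by decide)
    rw [hk', pow_one] at hk
    exact mem_C7.2 ⟨hM, hk⟩
  · rintro ⟨⟨hC, h23⟩, h2⟩
    refine ⟨⟨⟨C7_le_N7 hC, h23⟩, h2⟩, ?_⟩
    have := (mem_fixM24.1 (mem_fixM24_of_comm hC h23 h2)).2 (pt 3)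
      (by rw [mem_setOf, idx_pt (by decide)]; decide)
    exact this

theorem card_level3N : Nat.card ↥(N7 ⊓ stb 23 ⊓ stb 2) = 6 := by
  have h := card_eq_card_mul_card_inf_stabilizer (N7 ⊓ stb 23 ⊓ stb 2) (pt 3)
    ({pt 3, pt 5, pt 17} : Finset GolayPt)
    (by
      intro g hg
      simp only [Subgroup.mem_inf, mem_stb] at hg
      obtain ⟨⟨hN, h23⟩, h2⟩ := hg
      simp only [Finset.mem_insert, Finset.mem_singleton, Equiv.Perm.smul_def]
      obtain ⟨hM, k, hk1, hk7, hk⟩ := mem_N7.1 hN
      have e := apply_orbit hk h2 1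
      rw [s7_pow_apply (n := 1) (i := 2) (j := 3) (by decide) (by decide) (by decide +kernel),
        s7_pow_apply (n := k * 1) (i := 2) (j := [0, 3, 5, 14, 17, 0, 1].getD k 0) (by decide)
          (by interval_cases k <;> decide) (k_values k hk1 hk7)] at e
      interval_cases k
      · exact Or.inl e
      · exact Or.inr (Or.inl e)
      · exact (no_k3 hM hk h23 h2).elim
      · exact Or.inr (Or.inr e)
      · exact (no_k5 hM hk h23 h2).elim
      · exact (no_k6 hM hk h23 h2).elim)
    (by
      intro q hq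
      simp only [Finset.mem_insert, Finset.mem_singleton] at hq
      rcases hq with rfl | rfl | rfl
      · exact ⟨1, Subgroup.one_mem _, rfl⟩
      · refine ⟨e7 4, ?_, e7_apply (by decide) (by decide) (by decide +kernel)⟩
        simp only [Subgroup.mem_inf, mem_stb]
        exact ⟨⟨nu1_mem_N7, e7_apply (by decide) (by decide) (by decide +kernel)⟩,
          e7_apply (by decide) (by decide) (by decide +kernel)⟩
      · refine ⟨e7 5, ?_, e7_apply (by decide) (by decide) (by decide +kernel)⟩
        simp only [Subgroup.mem_inf, mem_stb]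
        exact ⟨⟨nu2_mem_N7, e7_apply (by decide) (by decide) (by decide +kernel)⟩,
          e7_apply (by decide) (by decide) (by decide +kernel)⟩)
  rw [h, level3N_eq, card_level3C]
  have : ({pt 3, pt 5, pt 17} : Finset GolayPt).card = 3 := by decide
  rw [this]

theorem card_N7 : Nat.card N7 = 126 := by
  rw [card_level1 N7 C7_le_N7 (le_refl _), card_level2 N7 C7_le_N7 (le_refl _), card_level3N]

/-- `C7` is not abelian -/
theorem C7_nonabelian : e7 1 * e7 3 ≠ e7 3 * e7 1 := by
  intro h
  have h1 := matches_mul (matches_e7 1) (matches_e7 3)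
  have h2 := matches_mul (matches_e7 3) (matches_e7 1)
  rw [h] at h1
  have e : ∀ i < 24, (compT (t7 1) (t7 3)).getD i 0 = (compT (t7 3) (t7 1)).getD i 0 := by
    intro i hi
    have a := h1 (pt i)
    have b := h2 (pt i)
    rw [idx_pt hi] at a b
    rw [← a, ← b]
  exact absurd e (by decide +kernel)

end Cfsg.Agent.Lib.Helper48
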