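import Cfsg.Agent.Lib.Helper48.M24SevenC
import Cfsg.Prelude.Def_SporadicCombinatorics

/-!
# Subgroups of order seven of `↥M24`: normalizer of order 126, centralizer of order 42 (nonabelian),
and an invariant trio (`good7`)
-/

set_option autoImplicit false

namespace Cfsg.Agent.Lib.Helper48

open Cfsg Cfsg.Agent.Lib.Helper7 Cfsg.Agent.Lib.Helper27
open scoped Pointwise

/-! ### Generalities -/

/-- subgroups of prime order `p` with `p ^ 2 ∤ |G|` are conjugate -/
theorem exists_conj_of_card_prime {G : Type*} [Group G] [Finite G] {p : ℕ} [Fact p.Prime]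
    (hp2 : ¬ p ^ 2 ∣ Nat.card G) (S S' : Subgroup G) (hS : Nat.card S = p)
    (hS' : Nat.card S' = p) : ∃ g : G, S' = S.map (MulAut.conj g).toMonoidHom := by
  have hp := (Fact.out : p.Prime)
  have key : ∀ T : Subgroup G, Nat.card T = p → ∃ P : Sylow p G, (P : Subgroup G) = T := by
    intro T hT
    have hT' : IsPGroup p T := IsPGroup.of_card (n := 1) (by rw [hT, pow_one])
    obtain ⟨P, hP⟩ := hT'.exists_le_sylow
    refine ⟨P, ?_⟩
    obtain ⟨n, hn⟩ := IsPGroup.iff_card.1 P.isPGroup'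
    have h1 : p ^ n ∣ Nat.card G := hn ▸ Subgroup.card_subgroup_dvd_card (P : Subgroup G)
    have h2 : p ∣ p ^ n := by
      have := Subgroup.card_dvd_of_le hP
      rwa [hT, hn] at this
    have hn1 : n = 1 := by
      have hlt : n < 2 := by
        by_contra hcon
        exact hp2 ((pow_dvd_pow p (by omega)).trans h1)
      have hpos : n ≠ 0 := by
        rintro rfl
        rw [pow_zero] at h2
        exact hp.one_lt.ne' (Nat.dvd_one.1 h2)
      omega
    rw [hn1, pow_one] at hn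
    exact (Subgroup.eq_of_le_of_card_ge hP (by rw [hn, hT])).symm
  obtain ⟨P, hP⟩ := key S hS
  obtain ⟨P', hP'⟩ := key S' hS'
  obtain ⟨g, hg⟩ := MulAction.exists_smul_eq G P P'
  refine ⟨g, ?_⟩
  rw [← hP', ← hg, Sylow.coe_subgroup_smul, hP]
  rfl

theorem smul_mem_trios7 {g : Equiv.Perm GolayPt} (hg : g ∈ M24) {X : Finset (Finset GolayPt)}
    (hX : X ∈ trios) : g • X ∈ trios := by
  obtain ⟨h3, hoct, hd⟩ := hX
  refine ⟨by rw [Finset.card_smul_finset]; exact h3, ?_, ?_⟩
  · intro t ht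
    obtain ⟨t', ht', rfl⟩ := Finset.mem_smul_finset.1 ht
    exact (smul_mem_octads_iff hg).2 (hoct t' ht')
  · intro t ht u hu' htu
    obtain ⟨t', ht', rfl⟩ := Finset.mem_smul_finset.1 ht
    obtain ⟨u', hu'', rfl⟩ := Finset.mem_smul_finset.1 hu'
    have hne : t' ≠ u' := fun h => htu (by rw [h])
    exact (Finset.disjoint_image (MulAction.injective g)).2 (hd t' ht' u' hu'' hne)

/-! ### The subgroup of order seven inside `↥M24` -/

/-- `s7` as an element of `↥M24` -/
noncomputable def s7' : ↥M24 := ⟨s7, s7_mem⟩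

theorem coe_s7' : (s7' : Equiv.Perm GolayPt) = s7 := by
  unfold s7'
  exact Subtype.coe_mk _ _

/-- the named elements as elements of `↥M24` -/
noncomputable def e7' (k : ℕ) : ↥M24 := ⟨e7 k, e7_mem_M24 k⟩

theorem coe_e7' (k : ℕ) : (e7' k : Equiv.Perm GolayPt) = e7 k := by
  unfold e7'
  exact Subtype.coe_mk _ _

/-- the subgroup it generates -/
noncomputable def S7' : Subgroup ↥M24 := Subgroup.zpowers s7'

theorem S7_le_M24 : S7 ≤ M24 := by
  unfold S7
  rw [Subgroup.zpowers_le]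
  exact s7_mem

theorem S7'_eq : S7' = S7.subgroupOf M24 := by
  ext x
  unfold S7' S7
  rw [Subgroup.mem_subgroupOf, Subgroup.mem_zpowers_iff, Subgroup.mem_zpowers_iff]
  constructor
  · rintro ⟨k, rfl⟩
    exact ⟨k, by simp [s7']⟩
  · rintro ⟨k, hk⟩
    exact ⟨k, Subtype.ext (by simpa [s7'] using hk)⟩

theorem card_S7' : Nat.card S7' = 7 := by
  rw [S7'_eq, Nat.card_congr (Subgroup.subgroupOfEquivOfLe S7_le_M24).toEquiv, card_S7]

theorem normalizer_S7' : Subgroup.normalizer (S7' : Set ↥M24) = N7.subgroupOf M24 := by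
  rw [S7'_eq, ← Subgroup.subgroupOf_normalizer_eq S7_le_M24]
  unfold N7
  rw [Subgroup.inf_subgroupOf_left]

theorem centralizer_S7' : Subgroup.centralizer (S7' : Set ↥M24) = C7.subgroupOf M24 := by
  ext x
  rw [Subgroup.mem_subgroupOf, mem_C7, Subgroup.mem_centralizer_iff]
  constructor
  · intro h
    refine ⟨x.2, ?_⟩
    have h1 := h s7' (Subgroup.mem_zpowers s7')
    have h2 := congrArg Subtype.val h1
    rw [Subgroup.coe_mul, Subgroup.coe_mul, coe_s7'] at h2
    exact h2.symm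
  · rintro ⟨_, h⟩ y hy
    obtain ⟨k, rfl⟩ := Subgroup.mem_zpowers_iff.1 hy
    have hc : Commute s7' x := Subtype.ext (by
      rw [Subgroup.coe_mul, Subgroup.coe_mul, coe_s7']; exact h.symm)
    exact (hc.zpow_left k).eq

/-- the statement for a given subgroup -/
def Good7 (S : Subgroup ↥M24) : Prop :=
  Nat.card ↥(Subgroup.normalizer (S : Set ↥M24)) = 126 ∧
  Nat.card ↥(Subgroup.centralizer (S : Set ↥M24)) = 42 ∧
  (∃ x ∈ Subgroup.centralizer (S : Set ↥M24), ∃ y ∈ Subgroup.centralizer (S : Set ↥M24),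
    x * y ≠ y * x) ∧
  ∃ T ∈ trios, ∀ n ∈ Subgroup.normalizer (S : Set ↥M24),
    ((n : ↥M24) : Equiv.Perm GolayPt) • T = T

theorem good7_S7' : Good7 S7' := by
  refine ⟨?_, ?_, ?_, ?_⟩
  · rw [normalizer_S7', Nat.card_congr (Subgroup.subgroupOfEquivOfLe N7_le_M24).toEquiv, card_N7]
  · rw [centralizer_S7', Nat.card_congr (Subgroup.subgroupOfEquivOfLe
      (C7_le_N7.trans N7_le_M24)).toEquiv, card_C7]
  · rw [centralizer_S7']
    refine ⟨e7' 1, ?_, e7' 3, ?_, ?_⟩
    · rw [Subgroup.mem_subgroupOf, coe_e7']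
      exact e7_mem_C7 (Or.inl rfl)
    · rw [Subgroup.mem_subgroupOf, coe_e7']
      exact e7_mem_C7 (Or.inr (Or.inr rfl))
    · intro h
      have h2 := congrArg Subtype.val h
      rw [Subgroup.coe_mul, Subgroup.coe_mul, coe_e7', coe_e7'] at h2
      exact C7_nonabelian h2
  · refine ⟨T7, T7_mem_trios, fun n hn => ?_⟩
    rw [normalizer_S7', Subgroup.mem_subgroupOf] at hn
    exact N7_smul_trio hn

theorem good7_conj {S : Subgroup ↥M24} (h : Good7 S) (g : ↥M24) :
    Good7 (S.map (MulAut.conj g).toMonoidHom) := by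
  obtain ⟨hN, hC, ⟨x, hx, y, hy, hxy⟩, T, hT, hTn⟩ := h
  have eN : Subgroup.normalizer ((S.map (MulAut.conj g).toMonoidHom : Subgroup ↥M24) : Set ↥M24) =
      (Subgroup.normalizer (S : Set ↥M24)).map (MulAut.conj g).toMonoidHom :=
    (Subgroup.map_equiv_normalizer_eq S (MulAut.conj g)).symm
  have memC : ∀ z : ↥M24, z ∈ Subgroup.centralizer
      ((S.map (MulAut.conj g).toMonoidHom : Subgroup ↥M24) : Set ↥M24) ↔
      g⁻¹ * z * g ∈ Subgroup.centralizer (S : Set ↥M24) := by
    intro z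
    rw [Subgroup.mem_centralizer_iff, Subgroup.mem_centralizer_iff]
    constructor
    · intro hz s hs
      have := hz (g * s * g⁻¹) (by
        rw [SetLike.mem_coe, Subgroup.mem_map]
        exact ⟨s, hs, by simp [MulAut.conj_apply]⟩)
      have e1 : s * (g⁻¹ * z * g) = g⁻¹ * (g * s * g⁻¹ * z) * g := by group
      have e2 : g⁻¹ * z * g * s = g⁻¹ * (z * (g * s * g⁻¹)) * g := by group
      rw [e1, e2, this]
    · intro hz s hs
      rw [SetLike.mem_coe, Subgroup.mem_map] at hs
      obtain ⟨s', hs', rfl⟩ := hs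
      have := hz s' hs'
      have e0 : (MulAut.conj g).toMonoidHom s' = g * s' * g⁻¹ := by simp [MulAut.conj_apply]
      have e1 : g * s' * g⁻¹ * z = g * (s' * (g⁻¹ * z * g)) * g⁻¹ := by group
      have e2 : z * (g * s' * g⁻¹) = g * (g⁻¹ * z * g * s') * g⁻¹ := by group
      rw [e0, e1, e2, this]
  have eC : Subgroup.centralizer ((S.map (MulAut.conj g).toMonoidHom : Subgroup ↥M24) : Set ↥M24) =
      (Subgroup.centralizer (S : Set ↥M24)).map (MulAut.conj g).toMonoidHom := by
    ext z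
    rw [memC, Subgroup.mem_map_equiv]
    have : (MulAut.conj g).symm z = g⁻¹ * z * g := by simp [MulAut.conj_symm_apply]
    rw [this]
  refine ⟨?_, ?_, ?_, ?_⟩
  · rw [eN, Subgroup.card_map_of_injective (MulAut.conj g).injective, hN]
  · rw [eC, Subgroup.card_map_of_injective (MulAut.conj g).injective, hC]
  · refine ⟨g * x * g⁻¹, ?_, g * y * g⁻¹, ?_, ?_⟩
    · rw [memC]
      have : g⁻¹ * (g * x * g⁻¹) * g = x := by group
      rw [this]; exact hx
    · rw [memC]
      have : g⁻¹ * (g * y * g⁻¹) * g = y := by group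
      rw [this]; exact hy
    · intro e
      apply hxy
      have e1 : x * y = g⁻¹ * (g * x * g⁻¹ * (g * y * g⁻¹)) * g := by group
      have e2 : y * x = g⁻¹ * (g * y * g⁻¹ * (g * x * g⁻¹)) * g := by group
      rw [e1, e2, e]
  · refine ⟨(g : Equiv.Perm GolayPt) • T, smul_mem_trios7 g.2 hT, fun n hn => ?_⟩
    rw [eN, Subgroup.mem_map_equiv] at hn
    have h1 : (MulAut.conj g).symm n = g⁻¹ * n * g := by simp [MulAut.conj_symm_apply]
    rw [h1] at hn
    have h2 := hTn _ hn
    have h3 : ((g⁻¹ * n * g : ↥M24) : Equiv.Perm GolayPt) =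
        (g : Equiv.Perm GolayPt)⁻¹ * (n : Equiv.Perm GolayPt) * (g : Equiv.Perm GolayPt) := by
      simp
    rw [h3, mul_smul, mul_smul, inv_smul_eq_iff] at h2
    exact h2

theorem not_49_dvd : ¬ 7 ^ 2 ∣ Nat.card ↥M24 := by
  rw [card_M24]; decide

theorem good7 (S : Subgroup ↥M24) (hS : Nat.card S = 7) : Good7 S := by
  have : Finite ↥M24 := Nat.finite_of_card_ne_zero (by rw [card_M24]; decide)
  obtain ⟨g, rfl⟩ := exists_conj_of_card_prime (p := 7) not_49_dvd S7' S card_S7' hS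
  exact good7_conj good7_S7' g

end Cfsg.Agent.Lib.Helper48
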