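import Cfsg.Agent.Lib.Helper27.M24Cfg

/-!
# Data for the normalizer of a subgroup of order 7 of `M24`

A straight-line program in the three generators of `M24` producing an element `s` of order 7
(cycles `(0 1 2 3 5 14 17)`, `(6 16 15 7 11 12 13)`, `(8 9 22 18 19 21 10)`, fixed points `4, 20, ∞`),
elements `r2, r3, tau` commuting with it, elements `nu1, nu2` normalizing `⟨s⟩` (conjugating `s` to
`s^4`, `s^2`) and an element `m` acting on the octad `{∞,0,1,2,3,5,14,17}` as `(3 1)(5 0)`.
AUTO-GENERATED (Schreier–Sims run in Python); everything is re-checked in Lean.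
-/

set_option autoImplicit false

namespace Cfsg.Agent.Lib.Helper48

/-- the straight-line program -/
def sevenProg : List (ℕ × ℕ) :=
  [
   (1, 1), (1, 3), (0, 4), (0, 5), (1, 6), (1, 0), (8, 1), (9, 1), (10, 0), (11, 1), (12, 2),
   (13, 1), (14, 0), (3, 1), (16, 15), (17, 4), (2, 18), (17, 3), (17, 20), (2, 17), (22, 2),
   (23, 1), (0, 0), (25, 25), (25, 26), (26, 26), (28, 28), (27, 29), (2, 2), (31, 31), (30, 1),
   (1, 33), (1, 34), (30, 35), (1, 36), (32, 37), (1, 38), (30, 39), (40, 4), (16, 41), (42, 32),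
   (43, 24), (3, 44), (45, 20), (45, 3), (45, 47), (45, 48), (45, 1), (50, 2), (51, 0), (52, 45),
   (53, 17), (54, 45), (55, 45), (16, 56), (3, 41), (58, 41), (59, 57), (60, 5), (60, 61),
   (60, 20), (60, 63), (60, 3), (45, 65), (60, 65), (60, 48), (45, 66), (60, 67), (45, 69),
   (45, 71), (16, 30), (41, 32), (32, 74), (1, 75), (76, 19), (77, 3), (1, 78), (32, 79),
   (30, 80), (78, 81), (41, 82), (78, 83), (78, 84), (85, 4), (86, 21), (73, 87), (2, 0),
   (89, 17), (90, 2), (91, 0), (92, 45), (3, 93), (58, 87), (95, 87), (96, 94), (3, 87),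
   (98, 78), (99, 78), (100, 78), (101, 78), (102, 97), (103, 48), (103, 49), (103, 3),
   (103, 106), (60, 17), (108, 0), (109, 0), (110, 60), (111, 103), (112, 1), (113, 103),
   (114, 45), (88, 87), (116, 115), (3, 117), (3, 78), (119, 78), (120, 78), (30, 32), (41, 122),
   (32, 123), (30, 124), (78, 125), (126, 3), (127, 64), (128, 72), (121, 129), (130, 118),
   (131, 46), (17, 132), (131, 47), (131, 3), (131, 106), (131, 135), (2, 1), (138, 103),
   (139, 1), (140, 2), (141, 103), (3, 142), (3, 143), (120, 129), (145, 144), (3, 129),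
   (147, 129), (148, 146), (149, 21), (149, 46), (149, 135), (149, 136), (103, 152), (149, 3),
   (149, 155), (17, 60), (157, 0), (158, 17), (159, 1), (160, 131), (161, 17), (162, 149),
   (73, 30), (164, 1), (165, 163), (58, 78), (1, 32), (129, 168), (1, 169), (32, 170),
   (129, 171), (172, 3), (173, 3), (174, 104), (175, 107), (167, 176), (177, 166), (98, 87),
   (179, 87), (180, 178), (41, 87), (30, 182), (30, 183), (87, 184), (129, 185), (1, 186),
   (129, 187), (78, 188), (189, 62), (190, 3), (191, 105), (3, 192), (193, 176), (194, 129),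
   (195, 181), (3, 176), (197, 196), (3, 198), (199, 20), (17, 200), (199, 47), (199, 68),
   (199, 155), (199, 3), (2, 199), (206, 103), (207, 149), (208, 2), (209, 0), (3, 210),
   (59, 211), (120, 87), (87, 41), (30, 214), (41, 215), (1, 216), (192, 217), (41, 218),
   (176, 219), (220, 7), (221, 151), (222, 70), (223, 154), (224, 155), (225, 3), (213, 226),
   (227, 212), (147, 192), (229, 228), (230, 20), (230, 47), (230, 137), (230, 3), (149, 234),
   (230, 156), (230, 204), (230, 235), (149, 236), (89, 2), (240, 17), (241, 60), (242, 149),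
   (3, 243), (58, 226), (245, 41), (246, 244), (180, 247), (193, 192), (249, 248), (197, 176),
   (226, 32), (129, 252), (176, 253), (32, 254), (30, 255), (256, 3), (257, 21), (258, 203),
   (259, 136), (251, 260), (261, 176), (262, 250), (3, 263), (264, 135), (264, 3), (60, 103),
   (267, 60), (268, 0), (269, 0), (3, 270), (59, 176), (272, 271), (119, 226), (274, 273),
   (3, 275), (3, 260), (277, 176), (278, 260), (279, 276), (280, 156), (230, 281), (280, 3),
   (0, 131), (284, 1), (285, 103), (286, 280), (287, 2), (288, 280), (289, 0), (290, 280),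
   (73, 291), (58, 292), (129, 87), (87, 294), (30, 295), (30, 296), (297, 3), (298, 150),
   (299, 202), (300, 3), (301, 238), (119, 302), (303, 293), (193, 304), (251, 302), (306, 260),
   (307, 305), (3, 302), (309, 302), (310, 308), (311, 135), (311, 155), (311, 205), (311, 266),
   (264, 17), (316, 230), (317, 149), (318, 280), (319, 1), (32, 122), (41, 321), (87, 322),
   (176, 323), (324, 3), (325, 201), (326, 70), (327, 137), (328, 239), (329, 3), (42, 330),
   (331, 320), (3, 332), (119, 87), (334, 129), (335, 333), (148, 226), (337, 336), (251, 226),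
   (339, 338), (310, 340), (341, 314), (3, 3), (343, 133), (344, 67), (345, 233), (346, 237),
   (347, 3), (348, 315), (3, 18), (350, 64), (351, 68), (352, 312), (353, 237), (354, 283),
   (355, 342), (343, 3), (357, 3), (358, 3), (359, 3), (360, 3), (361, 342), (343, 231),
   (344, 134), (364, 265), (365, 282), (366, 3), (367, 342), (363, 232), (369, 153), (370, 313),
   (371, 283), (356, 356), (368, 368)]

/-- stack positions of the elements `s, r2, r3, tau, nu1, nu2, m` -/
def sevenIdx : List ℕ := [349, 356, 373, 362, 368, 374, 372]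

/-- tables of `s, r2, r3, tau, nu1, nu2, m` -/
def sevenT : List (List ℕ) :=
  [[1, 2, 3, 5, 4, 14, 16, 11, 9, 22, 8, 12, 13, 6, 17, 7, 15, 0, 19, 21, 20, 10, 18, 23],
   [12, 13, 6, 16, 23, 15, 8, 18, 2, 3, 1, 19, 21, 10, 7, 22, 9, 11, 14, 17, 4, 0, 5, 20],
   [21, 10, 8, 9, 20, 22, 2, 14, 6, 16, 13, 17, 0, 1, 18, 5, 3, 19, 7, 11, 23, 12, 15, 4],
   [0, 1, 2, 3, 20, 5, 8, 18, 6, 16, 13, 19, 21, 10, 14, 22, 9, 17, 7, 11, 4, 12, 15, 23],
   [1, 14, 2, 17, 4, 3, 6, 12, 8, 19, 18, 15, 13, 7, 0, 16, 11, 5, 21, 22, 20, 10, 9, 23],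
   [14, 0, 2, 5, 4, 17, 6, 13, 8, 22, 21, 16, 7, 12, 1, 11, 15, 3, 10, 9, 20, 18, 19, 23],
   [5, 3, 2, 1, 19, 0, 13, 6, 15, 11, 20, 8, 10, 16, 14, 9, 7, 17, 12, 21, 18, 22, 4, 23]]

/-- mask of the octad `{6,7,11,12,13,15,16,20}` -/
def octM2 : ℕ := 1161408

/-- mask of the octad `{4,8,9,10,18,19,21,22}` -/
def octM3 : ℕ := 7079696

end Cfsg.Agent.Lib.Helper48
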