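/-
helper48 shared library: tools for showing that the image of a `2`-subgroup in a quotient is a
large extraspecial subgroup.

* `isLargeExtraspecial_of_elementwise` : elementwise constructor of `Cfsg.IsLargeExtraspecial`;
* `exists_odd_lift` : (Schur-Zassenhaus) an odd order subgroup of `Γ ⧸ N`, `N` central of order two,
  lifts to a canonical subgroup of `Γ` of the same order;
* `eq_bot_of_two_inverting` : a finite subgroup on which the involutions `z`, `u` and `z u` act
  fixed point freely is trivial;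
* `inf_eq_bot_of_odd_of_isPGroup`, `eq_one_of_sq_of_odd`.
-/
import Mathlib
import Cfsg.Prelude.Def_MonsterType
import Cfsg.Agent.Lib.Helper90.OrderTwo
import Cfsg.Agent.Lib.Helper90.Invert
import Cfsg.Agent.Lib.Helper48.LargeES2

set_option autoImplicit false

namespace Cfsg.Agent.Lib.Helper48

open Cfsg

/-- Elementwise constructor of `IsLargeExtraspecial`. -/
theorem isLargeExtraspecial_of_elementwise {H : Type*} [Group H] (D : Subgroup H) (ζ : H)
    (hES : IsExtraspecial 2 ↥D) (hζD : ζ ∈ D) (hζc : ∀ y ∈ D, y * ζ = ζ * y)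
    (hcent : ∀ c : H, (∀ y ∈ D, y * c = c * y) → c = 1 ∨ c = ζ)
    (hnorm : ∀ c : H, c * ζ = ζ * c → ∀ y ∈ D, c * y * c⁻¹ ∈ D)
    (hodd : ∀ K : Subgroup H, Odd (Nat.card K) → D ≤ Subgroup.normalizer (K : Set H) → K = ⊥) :
    IsLargeExtraspecial D := by
  have hZ : ∀ x : H, x ∈ (Subgroup.center ↥D).map D.subtype ↔ (x = 1 ∨ x = ζ) := by
    intro x
    rw [Cfsg.Agent.Lib.Helper90.mem_center_map_iff]
    constructor
    · rintro ⟨-, hx⟩
      exact hcent x hx
    · rintro (h | h)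
      · rw [h]; exact ⟨D.one_mem, fun q _ => by rw [mul_one, one_mul]⟩
      · rw [h]; exact ⟨hζD, hζc⟩
  refine ⟨hES, ?_, ?_, hodd⟩
  · ext c
    rw [hZ, Subgroup.mem_centralizer_iff]
    constructor
    · intro hc
      exact hcent c (fun y hy => hc y hy)
    · rintro (h | h) y hy
      · rw [h, mul_one, one_mul]
      · rw [h]; exact hζc y hy
  · apply le_normalizer_of_forall_conj_mem
    intro c hc y hy
    apply hnorm c _ y hy
    have := Subgroup.mem_centralizer_iff.mp hc ζ ((hZ ζ).mpr (Or.inr rfl))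
    exact this.symm

/-- An odd order subgroup meets a `2`-subgroup trivially. -/
theorem inf_eq_bot_of_odd_of_isPGroup {G : Type*} [Group G] [Finite G] {X P : Subgroup G}
    (hX : Odd (Nat.card X)) (hP : IsPGroup 2 P) : X ⊓ P = ⊥ := by
  have : Fact (Nat.Prime 2) := ⟨Nat.prime_two⟩
  obtain ⟨n, hn⟩ := hP.exists_card_eq
  apply Subgroup.inf_eq_bot_of_coprime
  rw [hn]
  exact Nat.Coprime.pow_right n hX.coprime_two_right

/-- In an odd order subgroup the only element of square one is the identity. -/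
theorem eq_one_of_sq_of_odd {G : Type*} [Group G] {X : Subgroup G}
    (hX : Odd (Nat.card X)) {x : G} (hx : x ∈ X) (hxx : x * x = 1) : x = 1 := by
  have h1 : orderOf x ∣ 2 := orderOf_dvd_of_pow_eq_one (by rw [pow_two]; exact hxx)
  have h2 : orderOf x ∣ Nat.card X := Subgroup.orderOf_dvd_natCard X hx
  have h3 : orderOf x ∣ Nat.gcd 2 (Nat.card X) := Nat.dvd_gcd h1 h2
  have h4 : Nat.gcd 2 (Nat.card X) = 1 := Nat.coprime_two_left.mpr hX
  rw [h4, Nat.dvd_one] at h3
  exact orderOf_eq_one_iff.mp h3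

/-- A finite subgroup on which the involutions `z`, `u` and `z u` act fixed point freely is trivial. -/
theorem eq_bot_of_two_inverting {G : Type*} [Group G] [Finite G] (X : Subgroup G) (z u : G)
    (hzz : z * z = 1) (huu : u * u = 1)
    (hzN : z ∈ Subgroup.normalizer (X : Set G)) (huN : u ∈ Subgroup.normalizer (X : Set G))
    (h1 : ∀ x ∈ X, z * x = x * z → x = 1) (h2 : ∀ x ∈ X, u * x = x * u → x = 1)
    (h3 : ∀ x ∈ X, (z * u) * x = x * (z * u) → x = 1) : X = ⊥ := by
  have hz := Cfsg.Agent.Lib.Helper90.inverts_of_fixedPointFree X z hzz hzN h1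
  have hu := Cfsg.Agent.Lib.Helper90.inverts_of_fixedPointFree X u huu huN h2
  rw [Subgroup.eq_bot_iff_forall]
  intro x hx
  apply h3 x hx
  have e1 : u * x = x⁻¹ * u := by
    have := hu x hx
    calc u * x = (u * x * u⁻¹) * u := by group
      _ = x⁻¹ * u := by rw [this]
  have e2 : z * x⁻¹ = x * z := by
    have := hz x⁻¹ (X.inv_mem hx)
    rw [inv_inv] at this
    calc z * x⁻¹ = (z * x⁻¹ * z⁻¹) * z := by group
      _ = x * z := by rw [this]
  calc z * u * x = z * (u * x) := by group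
    _ = z * (x⁻¹ * u) := by rw [e1]
    _ = (z * x⁻¹) * u := by group
    _ = (x * z) * u := by rw [e2]
    _ = x * (z * u) := by group

/-- **Schur-Zassenhaus lift.** If `N` is a central subgroup of order two of the finite group `Γ` and
`K` is a subgroup of odd order `m` of `Γ ⧸ N`, then the elements `x` of `Γ` with image in `K` and
`x ^ m = 1` form a subgroup of order `m` mapping onto `K`. -/
theorem exists_odd_lift {Γ : Type*} [Group Γ] [Finite Γ] (N : Subgroup Γ) [hN : N.Normal]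
    (hNc : ∀ n ∈ N, ∀ x : Γ, n * x = x * n) (hN2 : ∀ n ∈ N, n * n = 1)
    (hcard : Nat.card N = 2)
    (K : Subgroup (Γ ⧸ N)) (hK : Odd (Nat.card K)) :
    ∃ X : Subgroup Γ, Nat.card X = Nat.card K ∧ X.map (QuotientGroup.mk' N) = K ∧
      ∀ x : Γ, x ∈ X ↔ (QuotientGroup.mk' N x ∈ K ∧ x ^ Nat.card K = 1) := by
  set π := QuotientGroup.mk' N with hπ
  set m := Nat.card K with hm
  set K0 := K.comap π with hK0
  have hπN : ∀ n ∈ N, π n = 1 := by
    intro n hn
    rw [hπ, QuotientGroup.mk'_apply]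
    exact (QuotientGroup.eq_one_iff n).mpr hn
  have hNK : N ≤ K0 := by
    intro n hn
    rw [hK0, Subgroup.mem_comap, hπN n hn]
    exact K.one_mem
  have hmap : K0.map π = K :=
    Subgroup.map_comap_eq_self_of_surjective (QuotientGroup.mk'_surjective N) K
  have hrel : N.relIndex K0 = m := by
    have := Subgroup.relIndex_ker K0 π
    rw [hπ, QuotientGroup.ker_mk', ← hπ, hmap] at this
    exact this
  have hNkcard : Nat.card (N.subgroupOf K0) = 2 := by
    rw [← hcard]
    exact Nat.card_congr (Subgroup.subgroupOfEquivOfLe hNK).toEquiv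
  have hcop : (Nat.card (N.subgroupOf K0)).Coprime (N.subgroupOf K0).index := by
    rw [hNkcard]
    show Nat.Coprime 2 (N.relIndex K0)
    rw [hrel]
    exact Nat.coprime_two_left.mpr hK
  obtain ⟨X0, hX0⟩ := Subgroup.exists_right_complement'_of_coprime hcop
  have hX0card : Nat.card X0 = m := by
    have := hX0.symm.index_eq_card
    rw [← this]
    exact hrel
  -- decomposition of elements of `K0`
  have hdec : ∀ x ∈ K0, ∃ a ∈ N, ∃ b : Γ, (∃ hb : b ∈ K0, (⟨b, hb⟩ : ↥K0) ∈ X0) ∧ x = a * b := by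
    intro x hx
    obtain ⟨⟨n, y⟩, hny⟩ := hX0.2 ⟨x, hx⟩
    refine ⟨((n : ↥K0) : Γ), n.2, ((y : ↥K0) : Γ), ⟨(y : ↥K0).2, y.2⟩, ?_⟩
    have := congrArg Subtype.val hny
    exact this.symm
  have hpowX0 : ∀ b : Γ, (∃ hb : b ∈ K0, (⟨b, hb⟩ : ↥K0) ∈ X0) → b ^ m = 1 := by
    rintro b ⟨hb, hbX⟩
    have h1 : (⟨⟨b, hb⟩, hbX⟩ : ↥X0) ^ Nat.card X0 = 1 := pow_card_eq_one'
    rw [hX0card] at h1
    have h2 := congrArg (fun w : ↥X0 => ((w : ↥K0) : Γ)) h1
    simpa using h2
  have hpowN : ∀ a ∈ N, a ^ m = a := by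
    intro a ha
    obtain ⟨k, hk⟩ := hK
    rw [hk, pow_succ, pow_mul, pow_two, hN2 a ha, one_pow, one_mul]
  refine ⟨X0.map K0.subtype, ?_, ?_, ?_⟩
  · rw [Subgroup.card_map_of_injective K0.subtype_injective, hX0card]
  · apply le_antisymm
    · rintro _ ⟨_, ⟨x, -, rfl⟩, rfl⟩
      exact x.2
    · intro k hk
      obtain ⟨g, rfl⟩ := QuotientGroup.mk'_surjective N k
      have hg : g ∈ K0 := hk
      obtain ⟨a, ha, b, ⟨hb, hbX⟩, rfl⟩ := hdec g hg
      refine ⟨b, ⟨⟨b, hb⟩, hbX, rfl⟩, ?_⟩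
      rw [map_mul, hπN a ha, one_mul]
  · intro x
    constructor
    · rintro ⟨x', hx', rfl⟩
      exact ⟨x'.2, hpowX0 _ ⟨x'.2, hx'⟩⟩
    · rintro ⟨hxK, hxm⟩
      have hx : x ∈ K0 := hxK
      obtain ⟨a, ha, b, ⟨hb, hbX⟩, rfl⟩ := hdec x hx
      have hab : Commute a b := hNc a ha b
      rw [hab.mul_pow, hpowN a ha, hpowX0 b ⟨hb, hbX⟩, mul_one] at hxm
      rw [hxm, one_mul]
      exact ⟨⟨b, hb⟩, hbX, rfl⟩

end Cfsg.Agent.Lib.Helper48
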