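/-
helper48 shared library: more tools around `QuotInv.lean`.

* `eq_one_of_fpf_conj` : if `u` acts fixed point freely on `K` and `q u q⁻¹ = z u` with `q` normalizing
  `K`, then `z u` acts fixed point freely on `K`;
* `eq_one_of_odd_mul_invol`, `eq_one_of_pow_two_pow_of_odd`;
* `mem_centralizer_sup_iff`;
* `center_inf_centralizer` : `Z(C_Q(A)) = {1, z}` for an odd order group `A` acting on `Q`;
* `central_order_two_structure` : a group `W` of order not divisible by `4` with a central involution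
  `z` is `O(W) × ⟨z⟩`.
-/
import Mathlib
import Cfsg.Prelude.Def_MonsterType
import Cfsg.Prelude.Def_CaseTheorems
import Cfsg.Agent.Lib.Helper90.ESCoprime
import Cfsg.Agent.Lib.Helper48.QuotInv

set_option autoImplicit false

namespace Cfsg.Agent.Lib.Helper48

open Cfsg Cfsg.Agent.Lib.Helper90

/-- If `u` acts fixed point freely on `K`, so does its conjugate `z u = q u q⁻¹`. -/
theorem eq_one_of_fpf_conj {H : Type*} [Group H] (K : Subgroup H) {z u q : H}
    (hq : q ∈ Subgroup.normalizer (K : Set H)) (hqu : q * u * q⁻¹ = z * u)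
    (h2 : ∀ x ∈ K, u * x = x * u → x = 1) :
    ∀ x ∈ K, (z * u) * x = x * (z * u) → x = 1 := by
  intro x hx hxzu
  have hx' : q⁻¹ * x * q ∈ K := by
    have := (Subgroup.mem_normalizer_iff.mp (Subgroup.inv_mem _ hq) x).mp hx
    rwa [inv_inv] at this
  have hcomm : u * (q⁻¹ * x * q) = (q⁻¹ * x * q) * u := by
    calc u * (q⁻¹ * x * q) = q⁻¹ * ((q * u * q⁻¹) * x) * q := by group
      _ = q⁻¹ * ((z * u) * x) * q := by rw [hqu]
      _ = q⁻¹ * (x * (z * u)) * q := by rw [hxzu]
      _ = q⁻¹ * (x * (q * u * q⁻¹)) * q := by rw [hqu]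
      _ = (q⁻¹ * x * q) * u := by group
  have := h2 _ hx' hcomm
  calc x = q * (q⁻¹ * x * q) * q⁻¹ := by group
    _ = 1 := by rw [this]; group

/-- If `a` lies in an odd order subgroup, commutes with the involution `s` and `a s` has square one,
then `a = 1`. -/
theorem eq_one_of_odd_mul_invol {G : Type*} [Group G] {A : Subgroup G} (hA : Odd (Nat.card A))
    {a s : G} (ha : a ∈ A) (has : a * s = s * a) (hss : s * s = 1)
    (h : (a * s) * (a * s) = 1) : a = 1 := by
  apply eq_one_of_sq_of_odd hA ha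
  calc a * a = a * a * (s * s) := by rw [hss, mul_one]
    _ = a * (a * s) * s := by group
    _ = a * (s * a) * s := by rw [has]
    _ = (a * s) * (a * s) := by group
    _ = 1 := h

/-- An element of `2`-power order in an odd order subgroup is trivial. -/
theorem eq_one_of_pow_two_pow_of_odd {G : Type*} [Group G] {X : Subgroup G}
    (hX : Odd (Nat.card X)) {x : G} (hx : x ∈ X) {j : ℕ} (h : x ^ (2 ^ j) = 1) : x = 1 := by
  have h1 : orderOf x ∣ 2 ^ j := orderOf_dvd_of_pow_eq_one h
  have h2 : orderOf x ∣ Nat.card X := Subgroup.orderOf_dvd_natCard X hx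
  have h3 : orderOf x ∣ Nat.gcd (2 ^ j) (Nat.card X) := Nat.dvd_gcd h1 h2
  have h4 : Nat.gcd (2 ^ j) (Nat.card X) = 1 :=
    Nat.Coprime.pow_left j (Nat.coprime_two_left.mpr hX)
  rw [h4, Nat.dvd_one] at h3
  exact orderOf_eq_one_iff.mp h3

theorem mem_centralizer_sup_iff {G : Type*} [Group G] (H K : Subgroup G) (x : G) :
    x ∈ Subgroup.centralizer ((H ⊔ K : Subgroup G) : Set G) ↔
      (∀ h ∈ H, h * x = x * h) ∧ (∀ k ∈ K, k * x = x * k) := by
  constructor
  · intro hx
    exact ⟨fun h hh => Subgroup.mem_centralizer_iff.mp hx h ((le_sup_left : H ≤ H ⊔ K) hh),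
      fun k hk => Subgroup.mem_centralizer_iff.mp hx k ((le_sup_right : K ≤ H ⊔ K) hk)⟩
  · rintro ⟨h1, h2⟩
    have hle : H ⊔ K ≤ Subgroup.centralizer ({x} : Set G) := by
      apply sup_le
      · intro h hh; exact Subgroup.mem_centralizer_singleton_iff.mpr (h1 h hh)
      · intro k hk; exact Subgroup.mem_centralizer_singleton_iff.mpr (h2 k hk)
    rw [Subgroup.mem_centralizer_iff]
    intro y hy
    exact Subgroup.mem_centralizer_singleton_iff.mp (hle hy)

/-- The centre of `C_Q(A)` is `{1, z}` when the odd order group `A` acts on the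
extraspecial-type group `Q`. -/
theorem center_inf_centralizer {G : Type*} [Group G] [Finite G] {Q : Subgroup G} {z : G}
    (h : ESData Q z) (hsq : ∀ q ∈ Q, q * q = 1 ∨ q * q = z)
    (A : Subgroup G) (hA : A ≤ Subgroup.normalizer (Q : Set G)) (hAodd : Odd (Nat.card ↥A)) :
    ∀ x ∈ Q ⊓ Subgroup.centralizer (A : Set G),
      (∀ y ∈ Q ⊓ Subgroup.centralizer (A : Set G), y * x = x * y) → x = 1 ∨ x = z := by
  intro x hx hall
  by_cases hA1 : A = ⊥
  · apply h.cent x
    intro q hq
    have hqc : q ∈ Subgroup.centralizer (A : Set G) := by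
      rw [hA1, Subgroup.mem_centralizer_iff]
      intro a ha
      rw [SetLike.mem_coe, Subgroup.mem_bot] at ha
      rw [ha, one_mul, mul_one]
    exact hall q ⟨hq, hqc⟩
  · obtain ⟨c1, c2, -, -⟩ := h.coprime_decomp hsq A hA hAodd hA1
    apply h.cent x
    have hle : (Q ⊓ Subgroup.centralizer (A : Set G)) ⊔ ⁅Q, A⁆ ≤
        Subgroup.centralizer ({x} : Set G) := by
      apply sup_le
      · intro y hy; exact Subgroup.mem_centralizer_singleton_iff.mpr (hall y hy)
      · intro y hy; exact Subgroup.mem_centralizer_singleton_iff.mpr (c2 x hx y hy).symm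
    rw [c1] at hle
    intro q hq
    exact Subgroup.mem_centralizer_singleton_iff.mp (hle hq)

/-- A finite group `W` of order not divisible by `4` with a central involution `z` is the direct
product of its odd core and `⟨z⟩`. -/
theorem central_order_two_structure {G : Type*} [Group G] [Finite G] (W : Subgroup G) {z : G}
    (hzW : z ∈ W) (hzc : ∀ w ∈ W, w * z = z * w) (hzz : z * z = 1) (hz1 : z ≠ 1)
    (h4 : ¬ 4 ∣ Nat.card W) :
    ∀ c ∈ W, ∃ x ∈ (oddCore ↥W).map W.subtype, c = x ∨ c = x * z := by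
  set ζ : ↥W := ⟨z, hzW⟩ with hζ
  have hζc : ∀ w : ↥W, w * ζ = ζ * w := fun w => Subtype.ext (hzc w w.2)
  have hζζ : ζ * ζ = 1 := Subtype.ext hzz
  have hζ1 : ζ ≠ 1 := fun h => hz1 (congrArg Subtype.val h)
  have hNmem : ∀ n : ↥W, n ∈ Subgroup.zpowers ζ ↔ (n = 1 ∨ n = ζ) :=
    fun n => mem_zpowers_of_involution ζ hζζ n
  have hNc : ∀ n ∈ Subgroup.zpowers ζ, ∀ x : ↥W, n * x = x * n := by
    intro n hn x
    rcases (hNmem n).mp hn with h | h
    · rw [h, one_mul, mul_one]
    · rw [h]; exact (hζc x).symm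
  have hNn : (Subgroup.zpowers ζ).Normal := by
    refine ⟨fun n hn g => ?_⟩
    have : g * n * g⁻¹ = n := by
      rw [← hNc n hn g]; group
    rw [this]; exact hn
  have hN2 : ∀ n ∈ Subgroup.zpowers ζ, n * n = 1 := by
    intro n hn
    rcases (hNmem n).mp hn with h | h
    · rw [h, one_mul]
    · rw [h]; exact hζζ
  have hcardN : Nat.card (Subgroup.zpowers ζ) = 2 := by
    rw [Nat.card_zpowers]
    exact orderOf_eq_prime (by rw [pow_two]; exact hζζ) hζ1
  have hcard := Subgroup.card_eq_card_quotient_mul_card_subgroup (Subgroup.zpowers ζ)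
  rw [hcardN] at hcard
  have hodd : Odd (Nat.card (⊤ : Subgroup (↥W ⧸ Subgroup.zpowers ζ))) := by
    rw [Subgroup.card_top]
    rcases Nat.even_or_odd (Nat.card (↥W ⧸ Subgroup.zpowers ζ)) with he | ho
    · exfalso
      apply h4
      obtain ⟨k, hk⟩ := he
      rw [hcard, hk]
      exact ⟨k, by ring⟩
    · exact ho
  obtain ⟨X, hXcard, hXmap, hXmem⟩ := exists_odd_lift (Subgroup.zpowers ζ) hNc hN2 hcardN ⊤ hodd
  have hXn : X.Normal := by
    refine ⟨fun x hx g => ?_⟩
    rw [hXmem] at hx ⊢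
    refine ⟨Subgroup.mem_top _, ?_⟩
    rw [conj_pow, hx.2, mul_one, mul_inv_cancel]
  have hXodd : Odd (Nat.card X) := by rw [hXcard]; exact hodd
  have hXle : X ≤ oddCore ↥W := le_sSup ⟨hXn, Nat.coprime_two_right.mpr hXodd⟩
  intro c hc
  have hmem : QuotientGroup.mk' (Subgroup.zpowers ζ) ⟨c, hc⟩ ∈
      X.map (QuotientGroup.mk' (Subgroup.zpowers ζ)) := by
    rw [hXmap]; exact Subgroup.mem_top _
  obtain ⟨x, hx, hxc⟩ := hmem
  refine ⟨(x : G), ⟨x, hXle hx, rfl⟩, ?_⟩
  rw [QuotientGroup.mk'_apply, QuotientGroup.mk'_apply, QuotientGroup.eq, hNmem] at hxc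
  rcases hxc with h | h
  · left
    have : x = ⟨c, hc⟩ := inv_mul_eq_one.mp h
    rw [this]
  · right
    have : (⟨c, hc⟩ : ↥W) = x * ζ := by
      rw [← h]; group
    have := congrArg Subtype.val this
    simpa using this

end Cfsg.Agent.Lib.Helper48
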