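import Mathlib
import Cfsg.Agent.S0271

/-!
# `O_2(Sp_{2m}(2)) = 1` (module [SP6-O2] for helper8's S2136)

A normal `2`-subgroup of `Sp_{2m}(𝔽₂)` (`1 ≤ m`) is trivial: it fixes a non-zero vector, hence all
of them by transitivity (S0271).
-/

set_option autoImplicit false

namespace Cfsg.Agent.Lib.Helper48

/-- the natural action of the symplectic group on vectors -/
@[reducible] noncomputable def spVecAction (m : ℕ) (F : Type*) [Field F] :
    MulAction (Matrix.symplecticGroup (Fin m) F) (Fin m ⊕ Fin m → F) where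
  smul g v := g.1.mulVec v
  one_smul v := by
    change (1 : Matrix (Fin m ⊕ Fin m) (Fin m ⊕ Fin m) F).mulVec v = v
    exact Matrix.one_mulVec v
  mul_smul g h v := by
    change (g.1 * h.1).mulVec v = g.1.mulVec (h.1.mulVec v)
    exact (Matrix.mulVec_mulVec v g.1 h.1).symm

theorem spn_core_trivial (m : ℕ) (hm : 1 ≤ m)
    (N : Subgroup (Matrix.symplecticGroup (Fin m) (ZMod 2))) (hN : N.Normal)
    (h2 : IsPGroup 2 N) : N = ⊥ := by
  let _ : MulAction (Matrix.symplecticGroup (Fin m) (ZMod 2)) (Fin m ⊕ Fin m → ZMod 2) :=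
    spVecAction m (ZMod 2)
  have hsmul : ∀ (g : Matrix.symplecticGroup (Fin m) (ZMod 2)) (v : Fin m ⊕ Fin m → ZMod 2),
      g • v = (g : Matrix (Fin m ⊕ Fin m) (Fin m ⊕ Fin m) (ZMod 2)).mulVec v := fun _ _ => rfl
  have : Fact (Nat.Prime 2) := ⟨Nat.prime_two⟩
  have hcard : 2 ∣ Nat.card (Fin m ⊕ Fin m → ZMod 2) := by
    rw [Nat.card_eq_fintype_card]
    simp only [Fintype.card_fun, ZMod.card, Fintype.card_sum, Fintype.card_fin]
    exact dvd_pow_self 2 (by omega)
  have h0 : (0 : Fin m ⊕ Fin m → ZMod 2) ∈ MulAction.fixedPoints N (Fin m ⊕ Fin m → ZMod 2) := by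
    intro n
    change (n : Matrix.symplecticGroup (Fin m) (ZMod 2)) • (0 : Fin m ⊕ Fin m → ZMod 2) = 0
    rw [hsmul]; exact Matrix.mulVec_zero _
  obtain ⟨v0, hv0, hne⟩ := h2.exists_fixed_point_of_prime_dvd_card_of_fixed_point
    (Fin m ⊕ Fin m → ZMod 2) hcard h0
  have hv0' : ∀ n ∈ N, (n : Matrix (Fin m ⊕ Fin m) (Fin m ⊕ Fin m) (ZMod 2)).mulVec v0 = v0 := by
    intro n hn
    have := hv0 ⟨n, hn⟩
    exact this
  -- every element of `N` fixes every vector
  have hall : ∀ n ∈ N, ∀ w : Fin m ⊕ Fin m → ZMod 2,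
      (n : Matrix (Fin m ⊕ Fin m) (Fin m ⊕ Fin m) (ZMod 2)).mulVec w = w := by
    intro n hn w
    by_cases hw : w = 0
    · rw [hw]; exact Matrix.mulVec_zero _
    · obtain ⟨g, hg⟩ := Cfsg.Agent.S0271.result (F := ZMod 2) m v0 w (Ne.symm hne) hw
      have hconj : g⁻¹ * n * g ∈ N := by
        have := hN.conj_mem n hn g⁻¹
        rwa [inv_inv] at this
      have h1 := hv0' _ hconj
      -- n w = n g v0 = g (g⁻¹ n g) v0 = g v0 = w
      have h2' : g * (g⁻¹ * n * g) = n * g := by group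
      have h3 : ((g * (g⁻¹ * n * g) : Matrix.symplecticGroup (Fin m) (ZMod 2)) :
          Matrix (Fin m ⊕ Fin m) (Fin m ⊕ Fin m) (ZMod 2)).mulVec v0 = w := by
        rw [Submonoid.coe_mul, ← Matrix.mulVec_mulVec, h1, hg]
      rw [h2', Submonoid.coe_mul, ← Matrix.mulVec_mulVec, hg] at h3
      exact h3
  rw [Subgroup.eq_bot_iff_forall]
  intro n hn
  apply Subtype.ext
  ext i j
  have := congrFun (hall n hn (Pi.single j 1)) i
  rw [Matrix.mulVec_single_one] at this
  simp only [Matrix.col_apply] at this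
  rw [this]
  change _ = (1 : Matrix (Fin m ⊕ Fin m) (Fin m ⊕ Fin m) (ZMod 2)) i j
  rw [Matrix.one_apply, Pi.single_apply]

/-- **[SP6-O2]** -/
theorem sp6_core_trivial (N : Subgroup (Matrix.symplecticGroup (Fin 3) (ZMod 2)))
    (hN : N.Normal) (h2 : IsPGroup 2 N) : N = ⊥ :=
  spn_core_trivial 3 (by norm_num) N hN h2

end Cfsg.Agent.Lib.Helper48
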