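import Mathlib

/-!
# Sylow 3-subgroups of `Sym(n)` contain 3-cycles covering all but at most two points (helper48)
-/

set_option autoImplicit false

namespace Cfsg.Agent.Lib.Helper48

open Equiv Equiv.Perm

/-- Any `p`-subgroup can be conjugated into a given Sylow `p`-subgroup. -/
theorem exists_conj_mem_sylow {G : Type*} [Group G] [Finite G] {p : ℕ} [Fact p.Prime]
    (A : Subgroup G) (hA : IsPGroup p A) (P : Sylow p G) :
    ∃ g : G, ∀ a ∈ A, g * a * g⁻¹ ∈ (P : Subgroup G) := by
  obtain ⟨P₀, hP₀⟩ := hA.exists_le_sylow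
  obtain ⟨g, hg⟩ := MulAction.exists_smul_eq G P₀ P
  refine ⟨g, fun a ha => ?_⟩
  rw [← hg, Sylow.coe_subgroup_smul]
  have := Subgroup.smul_mem_pointwise_smul a (MulAut.conj g) (P₀ : Subgroup G) (hP₀ ha)
  simpa using this

/-- A group generated by pairwise commuting elements of order dividing `p` is a `p`-group. -/
theorem isPGroup_closure_of_commute {G : Type*} [Group G] (p : ℕ) (S : Set G)
    (hcomm : ∀ a ∈ S, ∀ b ∈ S, a * b = b * a) (hpow : ∀ a ∈ S, a ^ p = 1) :
    IsPGroup p (Subgroup.closure S) := by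
  have hc : ∀ x ∈ Subgroup.closure S, ∀ y ∈ Subgroup.closure S, x * y = y * x := by
    have h1 : Subgroup.closure S ≤ Subgroup.centralizer S := by
      rw [Subgroup.closure_le]
      intro a ha
      rw [SetLike.mem_coe, Subgroup.mem_centralizer_iff]
      intro b hb
      exact hcomm b hb a ha
    intro x hx y hy
    have h2 : y ∈ Subgroup.centralizer (Subgroup.closure S : Set G) := by
      rw [Subgroup.centralizer_closure]
      exact h1 hy
    exact Subgroup.mem_centralizer_iff.mp h2 x hx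
  have hp : ∀ x ∈ Subgroup.closure S, x ^ p = 1 := by
    intro x hx
    induction hx using Subgroup.closure_induction with
    | mem a ha => exact hpow a ha
    | one => exact one_pow p
    | mul a b ha hb iha ihb =>
      have : Commute a b := hc a ha b hb
      rw [this.mul_pow, iha, ihb, one_mul]
    | inv a _ iha => rw [inv_pow, iha, inv_one]
  intro g
  refine ⟨1, ?_⟩
  rw [pow_one]
  exact Subtype.ext (by simpa using hp g.1 g.2)

/-- The embedding `Fin 3 ↪ Fin n`, `j ↦ 3 i + j`. -/
def tripleEmb (n i : ℕ) (hi : 3 * i + 3 ≤ n) : Fin 3 ↪ Fin n :=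
  ⟨fun j => ⟨3 * i + j, by omega⟩, fun a b h => by
    simp only [Fin.mk.injEq] at h
    exact Fin.ext (by omega)⟩

/-- The 3-cycle `(3i, 3i+1, 3i+2)` of `Fin n`. -/
def tripleCycle (n i : ℕ) (hi : 3 * i + 3 ≤ n) : Perm (Fin n) :=
  (finRotate 3).viaFintypeEmbedding (tripleEmb n i hi)

theorem isThreeCycle_tripleCycle (n i : ℕ) (hi : 3 * i + 3 ≤ n) :
    (tripleCycle n i hi).IsThreeCycle := by
  unfold tripleCycle Equiv.Perm.viaFintypeEmbedding
  rw [IsThreeCycle, cycleType_extendDomain]
  exact cycleType_finRotate (n := 1)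

theorem mem_range_tripleEmb {n i : ℕ} (hi : 3 * i + 3 ≤ n) (z : Fin n) :
    z ∈ Set.range (tripleEmb n i hi) ↔ 3 * i ≤ z.val ∧ z.val < 3 * i + 3 := by
  constructor
  · rintro ⟨j, rfl⟩
    show 3 * i ≤ 3 * i + j.val ∧ 3 * i + j.val < 3 * i + 3
    omega
  · rintro ⟨h1, h2⟩
    refine ⟨⟨z.val - 3 * i, by omega⟩, ?_⟩
    apply Fin.ext
    show 3 * i + (z.val - 3 * i) = z.val
    omega

theorem tripleCycle_apply_of_not {n i : ℕ} (hi : 3 * i + 3 ≤ n) (z : Fin n)
    (hz : ¬ (3 * i ≤ z.val ∧ z.val < 3 * i + 3)) : tripleCycle n i hi z = z := by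
  unfold tripleCycle
  apply Equiv.Perm.viaFintypeEmbedding_apply_notMem_range
  rwa [mem_range_tripleEmb]

theorem tripleCycle_apply_ne {n i : ℕ} (hi : 3 * i + 3 ≤ n) (z : Fin n)
    (hz : 3 * i ≤ z.val ∧ z.val < 3 * i + 3) : tripleCycle n i hi z ≠ z := by
  obtain ⟨j, rfl⟩ := (mem_range_tripleEmb hi z).mpr hz
  unfold tripleCycle
  rw [Equiv.Perm.viaFintypeEmbedding_apply_image]
  intro h
  have h1 := (tripleEmb n i hi).injective h
  have h2 : ∀ j : Fin 3, finRotate 3 j ≠ j := by decide
  exact h2 j h1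

theorem tripleCycle_commute {n i j : ℕ} (hi : 3 * i + 3 ≤ n) (hj : 3 * j + 3 ≤ n) :
    tripleCycle n i hi * tripleCycle n j hj = tripleCycle n j hj * tripleCycle n i hi := by
  by_cases hij : i = j
  · subst hij; rfl
  · have hd : Perm.Disjoint (tripleCycle n i hi) (tripleCycle n j hj) := by
      intro z
      by_cases hz : 3 * i ≤ z.val ∧ z.val < 3 * i + 3
      · right
        apply tripleCycle_apply_of_not
        omega
      · left
        exact tripleCycle_apply_of_not hi z hz
    exact hd.commute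

/-- Every Sylow 3-subgroup of `Sym(n)` contains 3-cycles whose supports cover all but at most two
points. -/
theorem exists_cover_of_sylow_three (n : ℕ) (P : Sylow 3 (Perm (Fin n))) :
    ∃ U : Finset (Fin n), n ≤ U.card + 2 ∧
      ∀ y ∈ U, ∃ c ∈ (P : Subgroup (Perm (Fin n))), c.IsThreeCycle ∧ y ∈ c.support := by
  classical
  set S : Set (Perm (Fin n)) := {c | ∃ (i : ℕ) (hi : 3 * i + 3 ≤ n), c = tripleCycle n i hi} with hS
  have hA : IsPGroup 3 (Subgroup.closure S) := by
    apply isPGroup_closure_of_commute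
    · rintro a ⟨i, hi, rfl⟩ b ⟨j, hj, rfl⟩
      exact tripleCycle_commute hi hj
    · rintro a ⟨i, hi, rfl⟩
      have := (isThreeCycle_tripleCycle n i hi).orderOf
      rw [← this]
      exact pow_orderOf_eq_one _
  obtain ⟨g, hg⟩ := exists_conj_mem_sylow (Subgroup.closure S) hA P
  set U₀ : Finset (Fin n) := Finset.univ.filter (fun z => z.val < 3 * (n / 3)) with hU₀
  have hU₀card : U₀.card = 3 * (n / 3) := by
    have h3 : 3 * (n / 3) ≤ n := Nat.mul_div_le n 3
    have : U₀ = (Finset.univ : Finset (Fin (3 * (n / 3)))).map (Fin.castLEEmb h3) := by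
      ext z
      simp only [hU₀, Finset.mem_filter, Finset.mem_univ, true_and, Finset.mem_map]
      constructor
      · intro hz
        exact ⟨⟨z.val, hz⟩, Fin.ext rfl⟩
      · rintro ⟨w, rfl⟩
        exact w.2
    rw [this, Finset.card_map, Finset.card_univ, Fintype.card_fin]
  refine ⟨U₀.map g.toEmbedding, ?_, ?_⟩
  · rw [Finset.card_map, hU₀card]
    omega
  · intro y hy
    obtain ⟨z, hz, rfl⟩ := Finset.mem_map.mp hy
    rw [hU₀, Finset.mem_filter] at hz
    have hi : 3 * (z.val / 3) + 3 ≤ n := by omega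
    have hcS : tripleCycle n (z.val / 3) hi ∈ Subgroup.closure S :=
      Subgroup.subset_closure ⟨_, hi, rfl⟩
    refine ⟨g * tripleCycle n (z.val / 3) hi * g⁻¹, hg _ hcS, ?_, ?_⟩
    · rw [IsThreeCycle, cycleType_conj]
      exact isThreeCycle_tripleCycle n _ hi
    · rw [Perm.mem_support]
      simp only [Equiv.coe_toEmbedding, Perm.mul_apply]
      intro h
      have h' : g⁻¹ (g z) = z := by simp
      rw [h'] at h
      exact tripleCycle_apply_ne hi z (by omega) (g.injective h)

end Cfsg.Agent.Lib.Helper48
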