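/-
helper48 shared library: extremal ("central") form of the Thompson transfer lemma.

* `dvd_card_of_forall_dvd_index` : class equation consequence — if `d` divides the index of every
  point stabilizer then `d ∣ |X|`.
* `four_dvd_card_support_of_sign_eq_one` : an even involutory permutation moves `4k` points.
* `le_normalizer_of_card_eq_two_mul` : index-two subgroups are normal (ambient form).
* `thompson_transfer_central` : `P` Sylow `2`, `Q ≤ P` of index `2`, `u ∈ Z(P)` an involution outside
  `Q`.  Then `G` has a normal subgroup of index `2` missing `u`, or some `h ∈ N_G(P)` conjugates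
  `u` into `Q`.
-/
import Mathlib
import Cfsg.Agent.Lib.Helper48.SPE

set_option autoImplicit false

namespace Cfsg.Agent.Lib.Helper48

/-- Class equation consequence: if `d` divides the index of every point stabilizer then `d` divides
`|X|`. -/
theorem dvd_card_of_forall_dvd_index {H X : Type*} [Group H] [Finite H] [MulAction H X] [Finite X]
    (d : ℕ) (h : ∀ x : X, d ∣ (MulAction.stabilizer H x).index) : d ∣ Nat.card X := by
  classical
  have e := MulAction.selfEquivSigmaOrbitsQuotientStabilizer H X
  rw [Nat.card_congr e]
  have : Fintype (Quotient (MulAction.orbitRel H X)) := Fintype.ofFinite _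
  rw [Nat.card_sigma]
  apply Finset.dvd_sum
  intro ω _
  exact h _

/-- An involutory permutation of sign `1` moves a number of points divisible by `4`. -/
theorem four_dvd_card_support_of_sign_eq_one {α : Type*} [Fintype α] [DecidableEq α]
    (σ : Equiv.Perm α) (h2 : σ * σ = 1) (hs : Equiv.Perm.sign σ = 1) : 4 ∣ σ.support.card := by
  by_cases h1 : σ = 1
  · subst h1
    simp
  · have ho : orderOf σ = 2 := by
      refine orderOf_eq_prime ?_ h1
      rw [sq, h2]
    obtain ⟨n, hn⟩ := Equiv.Perm.cycleType_prime_order (σ := σ) (by rw [ho]; exact Nat.prime_two)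
    rw [ho] at hn
    have hsum : σ.cycleType.sum = (n + 1) * 2 := by
      rw [hn, Multiset.sum_replicate, smul_eq_mul]
    have hc : Multiset.card σ.cycleType = n + 1 := by
      rw [hn, Multiset.card_replicate]
    rw [Equiv.Perm.sign_of_cycleType, hsum, hc] at hs
    have heven : Even (n + 1) := by
      by_contra hodd
      rw [Nat.not_even_iff_odd] at hodd
      have h3 : Odd ((n + 1) * 2 + (n + 1)) := by
        have : Even ((n + 1) * 2) := ⟨n + 1, by ring⟩
        exact this.add_odd hodd
      rw [h3.neg_one_pow] at hs
      exact absurd hs (by decide)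
    rw [← Equiv.Perm.sum_cycleType, hsum]
    obtain ⟨k, hk⟩ := heven
    exact ⟨k, by rw [hk]; ring⟩

/-- A subgroup of index two is normalized by its overgroup (ambient form, via cardinalities). -/
theorem le_normalizer_of_card_eq_two_mul {G : Type*} [Group G] [Finite G] {Q P : Subgroup G}
    (hQP : Q ≤ P) (hcard : Nat.card P = 2 * Nat.card Q) :
    P ≤ Subgroup.normalizer (Q : Set G) := by
  have h1 : (Q.subgroupOf P).index * Nat.card (Q.subgroupOf P) = Nat.card P :=
    Subgroup.index_mul_card _
  have h2 : Nat.card (Q.subgroupOf P) = Nat.card Q :=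
    Nat.card_congr (Subgroup.subgroupOfEquivOfLe hQP).toEquiv
  rw [h2, hcard] at h1
  have h3 : (Q.subgroupOf P).index = 2 :=
    Nat.eq_of_mul_eq_mul_right Nat.card_pos h1
  have hn : (Q.subgroupOf P).Normal := Subgroup.normal_of_index_eq_two h3
  exact (Subgroup.normal_subgroupOf_iff_le_normalizer hQP).mp hn

/-- **Thompson transfer, central extremal form.**  `P` a Sylow `2`-subgroup, `Q ≤ P` of index `2`,
`u` an involution in the centre of `P` outside `Q`.  Then either `G` has a normal subgroup of index
`2` not containing `u`, or some element of `N_G(P)` conjugates `u` into `Q`. -/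
theorem thompson_transfer_central {G : Type*} [Group G] [Finite G] (P : Sylow 2 G)
    (Q : Subgroup G) (hQP : Q ≤ (P : Subgroup G)) (hQi : Q.relIndex (P : Subgroup G) = 2) (u : G)
    (hu : orderOf u = 2) (huc : ∀ t ∈ (P : Subgroup G), t * u = u * t) :
    (∃ M : Subgroup G, M.Normal ∧ M.index = 2 ∧ u ∉ M) ∨
      ∃ h ∈ Subgroup.normalizer ((P : Subgroup G) : Set G), h * u * h⁻¹ ∈ Q := by
  classical
  have : Fact (Nat.Prime 2) := ⟨Nat.prime_two⟩
  have : Fintype (G ⧸ Q) := Fintype.ofFinite _
  let φ : G →* Equiv.Perm (G ⧸ Q) := MulAction.toPermHom G (G ⧸ Q)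
  let f : G →* ℤˣ := (Equiv.Perm.sign).comp φ
  have huu : u * u = 1 := by
    have := pow_orderOf_eq_one u
    rwa [hu, sq] at this
  have huinv : u⁻¹ = u := inv_eq_of_mul_eq_one_left huu
  by_cases hs : f u = 1
  · right
    -- the number of moved points is divisible by `4`
    have h4 : 4 ∣ (φ u).support.card := by
      apply four_dvd_card_support_of_sign_eq_one (φ u) _ hs
      rw [← map_mul, huu, map_one]
    -- `|G / Q| = 2 * odd`
    have hidx : Q.index = 2 * (P : Subgroup G).index := by
      rw [← Subgroup.relIndex_mul_index hQP, hQi]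
    have hcardΩ : Fintype.card (G ⧸ Q) = 2 * (P : Subgroup G).index := by
      rw [← hidx, Subgroup.index_eq_card, Nat.card_eq_fintype_card]
    have hPodd : Odd (P : Subgroup G).index := by
      rw [← Nat.not_even_iff_odd, even_iff_two_dvd]
      exact P.not_dvd_index
    -- `|P| = 2 |Q|`
    have hcardPQ : Nat.card (P : Subgroup G) = 2 * Nat.card Q := by
      have h1 : (Q.subgroupOf (P : Subgroup G)).index * Nat.card (Q.subgroupOf (P : Subgroup G)) =
          Nat.card (P : Subgroup G) := Subgroup.index_mul_card _
      have h2 : Nat.card (Q.subgroupOf (P : Subgroup G)) = Nat.card Q :=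
        Nat.card_congr (Subgroup.subgroupOfEquivOfLe hQP).toEquiv
      rw [h2] at h1
      rw [← h1]
      show Q.relIndex (P : Subgroup G) * Nat.card Q = 2 * Nat.card Q
      rw [hQi]
    -- the fixed points of `u`, as a `P`-set
    let F : SubMulAction (P : Subgroup G) (G ⧸ Q) :=
      { carrier := {x | u • x = x}
        smul_mem' := by
          intro t x hx
          show u • (t • x) = t • x
          have hx : u • x = x := hx
          have e : t • x = (t : G) • x := rfl
          rw [e, smul_smul, ← huc t t.2, ← smul_smul, hx] }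
    have hFcard : Nat.card F + (φ u).support.card = Fintype.card (G ⧸ Q) := by
      have h1 : Nat.card F = (Finset.univ.filter (fun x : G ⧸ Q => u • x = x)).card := by
        rw [← Fintype.card_subtype, ← Nat.card_eq_fintype_card]
        rfl
      have h2 : (Finset.univ.filter (fun x : G ⧸ Q => u • x = x)) = (φ u).supportᶜ := by
        ext x
        simp only [Finset.mem_filter, Finset.mem_univ, true_and, Finset.mem_compl,
          Equiv.Perm.mem_support, not_not]
        rfl
      rw [h1, h2, Finset.card_compl]
      have := Finset.card_le_univ (φ u).support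
      omega
    have hF4 : ¬ 4 ∣ Nat.card F := by
      intro h
      have h5 : 4 ∣ Fintype.card (G ⧸ Q) := by
        rw [← hFcard]
        exact Dvd.dvd.add h h4
      rw [hcardΩ] at h5
      obtain ⟨k, hk⟩ := hPodd
      omega
    -- a point with small orbit
    have hex : ∃ x : F, ¬ 4 ∣ (MulAction.stabilizer (P : Subgroup G) x).index := by
      by_contra hcon
      push Not at hcon
      exact hF4 (dvd_card_of_forall_dvd_index 4 hcon)
    obtain ⟨⟨x, hx⟩, hxs⟩ := hex
    rw [SubMulAction.stabilizer_of_subMul] at hxs
    have hx : u • x = x := hx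
    induction x using QuotientGroup.induction_on with
    | H g =>
      -- `g⁻¹ u g ∈ Q`
      have hgu : g⁻¹ * u * g ∈ Q := by
        rw [MulAction.Quotient.smul_mk, QuotientGroup.eq] at hx
        have h1 := Q.inv_mem hx
        have e : ((u • g)⁻¹ * g)⁻¹ = g⁻¹ * u * g := by
          rw [smul_eq_mul]; group
        rwa [e] at h1
      set St := MulAction.stabilizer (P : Subgroup G) ((g : G) : G ⧸ Q) with hSt
      -- index of the stabilizer is `1` or `2`
      have hidx2 : Nat.card (P : Subgroup G) ≤ 2 * Nat.card St := by
        obtain ⟨n, hn⟩ := (P.isPGroup').index St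
        have hn1 : n ≤ 1 := by
          by_contra hcon
          push Not at hcon
          apply hxs
          rw [hn]
          exact pow_dvd_pow 2 hcon
        have h1 : St.index * Nat.card St = Nat.card (P : Subgroup G) := Subgroup.index_mul_card _
        rw [← h1, hn]
        have : 2 ^ n ≤ 2 := by
          calc 2 ^ n ≤ 2 ^ 1 := Nat.pow_le_pow_right (by norm_num) hn1
            _ = 2 := by norm_num
        exact Nat.mul_le_mul_right _ this
      -- the stabilizer sits in `P ∩ gQg⁻¹`
      set Qg : Subgroup G := Q.map (MulAut.conj g).toMonoidHom with hQg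
      have hStle : St.map (P : Subgroup G).subtype ≤ (P : Subgroup G) ⊓ Qg := by
        rintro _ ⟨t, ht, rfl⟩
        refine ⟨t.2, ?_⟩
        have ht' : t • ((g : G) : G ⧸ Q) = ((g : G) : G ⧸ Q) := ht
        have e0 : t • ((g : G) : G ⧸ Q) = (t : G) • ((g : G) : G ⧸ Q) := rfl
        rw [e0, MulAction.Quotient.smul_mk, QuotientGroup.eq] at ht'
        have h1 := Q.inv_mem ht'
        have e : (((t : G) • g)⁻¹ * g)⁻¹ = g⁻¹ * (t : G) * g := by
          rw [smul_eq_mul]; group
        rw [e] at h1
        refine ⟨g⁻¹ * (t : G) * g, h1, ?_⟩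
        simp only [MulEquiv.coe_toMonoidHom, MulAut.conj_apply, Subgroup.coe_subtype]
        group
      have hcardSt : Nat.card St ≤ Nat.card ((P : Subgroup G) ⊓ Qg : Subgroup G) := by
        have h1 : Nat.card (St.map (P : Subgroup G).subtype) = Nat.card St :=
          Subgroup.card_map_of_injective (Subgroup.subtype_injective _)
        rw [← h1]
        exact Subgroup.card_le_of_le hStle
      have hcardQg : Nat.card Qg = Nat.card Q := card_map_conj Q g
      have hQgP : Qg ≤ (P : Subgroup G) := by
        have h1 : (P : Subgroup G) ⊓ Qg = Qg := by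
          apply Subgroup.eq_of_le_of_card_ge inf_le_right
          omega
        rw [← h1]
        exact inf_le_left
      -- `P' = g⁻¹ P g` contains `Q` with index two
      set P' : Subgroup G := (P : Subgroup G).map (MulAut.conj g⁻¹).toMonoidHom with hP'
      have hQP' : Q ≤ P' := by
        intro q hq
        refine ⟨g * q * g⁻¹, hQgP ⟨q, hq, rfl⟩, ?_⟩
        simp only [MulEquiv.coe_toMonoidHom, MulAut.conj_apply]
        group
      have hcardP' : Nat.card P' = Nat.card (P : Subgroup G) := card_map_conj _ _
      have hP'N : P' ≤ Subgroup.normalizer (Q : Set G) :=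
        le_normalizer_of_card_eq_two_mul hQP' (by rw [hcardP', hcardPQ])
      have hPN : (P : Subgroup G) ≤ Subgroup.normalizer (Q : Set G) :=
        le_normalizer_of_card_eq_two_mul hQP hcardPQ
      have hP'2 : IsPGroup 2 P' := P.isPGroup'.map _
      obtain ⟨n, hnN, hn⟩ := exists_conj_le_sylow (Subgroup.normalizer (Q : Set G)) P hPN P' hP'N hP'2
      refine ⟨n * g⁻¹, ?_, ?_⟩
      · apply Subgroup.mem_normalizer_fintype
        intro t ht
        have h1 : g⁻¹ * t * g⁻¹⁻¹ ∈ P' := ⟨t, ht, rfl⟩
        have h2 := hn ⟨_, h1, rfl⟩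
        simp only [MulEquiv.coe_toMonoidHom, MulAut.conj_apply] at h2
        have e : n * g⁻¹ * t * (n * g⁻¹)⁻¹ = n * (g⁻¹ * t * g⁻¹⁻¹) * n⁻¹ := by group
        rw [e]
        exact h2
      · have e : n * g⁻¹ * u * (n * g⁻¹)⁻¹ = n * (g⁻¹ * u * g) * n⁻¹ := by group
        rw [e]
        exact (Subgroup.mem_normalizer_iff.mp hnN _).mp hgu
  · left
    have hfu : f u = -1 := (Int.units_eq_one_or (f u)).resolve_left hs
    refine ⟨f.ker, MonoidHom.normal_ker f, ?_, ?_⟩
    · rw [Subgroup.index_ker]
      have hdvd : Nat.card f.range ∣ Nat.card ℤˣ := Subgroup.card_subgroup_dvd_card _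
      have h2 : Nat.card ℤˣ = 2 := by
        rw [Nat.card_eq_fintype_card]; rfl
      rw [h2] at hdvd
      rcases (Nat.dvd_prime Nat.prime_two).mp hdvd with h1 | h1
      · exfalso
        have hbot : f.range = ⊥ := Subgroup.card_eq_one.mp h1
        have hmem : f u ∈ f.range := ⟨u, rfl⟩
        rw [hbot, Subgroup.mem_bot] at hmem
        exact hs hmem
      · exact h1
    · intro hmem
      rw [MonoidHom.mem_ker] at hmem
      exact hs hmem

end Cfsg.Agent.Lib.Helper48
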