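/-
helper48 shared library: the rings `ℤ/2^(m+1)` and the reduction `ℤ/2^(m+1) → ℤ/2^m`
(kernel `{0, 2^m}`, units vs. even elements).
-/
import Mathlib

set_option autoImplicit false

namespace Cfsg.Agent.Lib.Helper48.ZTwoPow

variable (m : ℕ)

/-- reduction `ℤ/2^(m+1) → ℤ/2^m` -/
noncomputable def red : ZMod (2 ^ (m + 1)) →+* ZMod (2 ^ m) :=
  ZMod.castHom (pow_dvd_pow 2 (Nat.le_succ m)) (ZMod (2 ^ m))

theorem exists_nat (y : ZMod (2 ^ (m + 1))) : ∃ n : ℕ, y = (n : ZMod (2 ^ (m + 1))) :=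
  ⟨y.val, (ZMod.natCast_zmod_val y).symm⟩

theorem red_natCast (n : ℕ) : red m (n : ZMod (2 ^ (m + 1))) = (n : ZMod (2 ^ m)) := map_natCast _ n

theorem two_pow_ne_zero : (2 ^ m : ZMod (2 ^ (m + 1))) ≠ 0 := by
  have h : ((2 ^ m : ℕ) : ZMod (2 ^ (m + 1))) ≠ 0 := by
    rw [Ne, ZMod.natCast_eq_zero_iff]
    intro h
    have := Nat.le_of_dvd (by positivity) h
    rw [pow_succ] at this
    have h2 : 0 < 2 ^ m := by positivity
    omega
  simpa using h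

theorem two_mul_two_pow : (2 : ZMod (2 ^ (m + 1))) * 2 ^ m = 0 := by
  have h : ((2 ^ (m + 1) : ℕ) : ZMod (2 ^ (m + 1))) = 0 := ZMod.natCast_self _
  rw [← h]
  push_cast
  ring

theorem two_pow_mul_two_pow (hm : 1 ≤ m) : (2 ^ m : ZMod (2 ^ (m + 1))) * 2 ^ m = 0 := by
  obtain ⟨j, rfl⟩ : ∃ j, m = j + 1 := ⟨m - 1, by omega⟩
  have : (2 ^ (j + 1) : ZMod (2 ^ (j + 1 + 1))) * 2 ^ (j + 1) = (2 * 2 ^ (j + 1)) * 2 ^ j := by ring
  rw [this, two_mul_two_pow, zero_mul]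

/-- `2 y = 0 ⟹ y ≡ 0 mod 2^m` -/
theorem red_eq_zero_of_two_mul (y : ZMod (2 ^ (m + 1))) (h : 2 * y = 0) : red m y = 0 := by
  obtain ⟨n, rfl⟩ := exists_nat m y
  rw [red_natCast, ZMod.natCast_eq_zero_iff]
  have h2 : ((2 * n : ℕ) : ZMod (2 ^ (m + 1))) = 0 := by push_cast; exact h
  rw [ZMod.natCast_eq_zero_iff, pow_succ, mul_comm] at h2
  exact Nat.dvd_of_mul_dvd_mul_left (by norm_num) h2

/-- the kernel of the reduction is `{0, 2^m}` -/
theorem eq_of_red_eq_zero (y : ZMod (2 ^ (m + 1))) (h : red m y = 0) : y = 0 ∨ y = 2 ^ m := by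
  obtain ⟨n, rfl⟩ := exists_nat m y
  rw [red_natCast, ZMod.natCast_eq_zero_iff] at h
  obtain ⟨q, rfl⟩ := h
  rcases Nat.even_or_odd' q with ⟨r, rfl | rfl⟩
  · left
    rw [ZMod.natCast_eq_zero_iff]
    exact ⟨r, by ring⟩
  · right
    have : (2 ^ m * (2 * r + 1) : ℕ) = 2 ^ (m + 1) * r + 2 ^ m := by ring
    rw [this]
    push_cast
    have h : ((2 ^ (m + 1) : ℕ) : ZMod (2 ^ (m + 1))) = 0 := ZMod.natCast_self _
    push_cast at h
    rw [h, zero_mul, zero_add]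

theorem red_two_pow : red m (2 ^ m) = 0 := by
  have : red m ((2 ^ m : ℕ) : ZMod (2 ^ (m + 1))) = 0 := by
    rw [red_natCast]; exact ZMod.natCast_self _
  simpa using this

/-- `y ≡ 0 mod 2^m ⟹ ∃ z, y = 2^m z` -/
theorem exists_mul_of_red_eq_zero (y : ZMod (2 ^ (m + 1))) (h : red m y = 0) : ∃ z : ZMod (2 ^ (m + 1)), y = 2 ^ m * z := by
  rcases eq_of_red_eq_zero m y h with rfl | rfl
  · exact ⟨0, by simp⟩
  · exact ⟨1, by simp⟩

/-- every element is a unit or even -/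
theorem isUnit_or_even (t : ZMod (2 ^ (m + 1))) : IsUnit t ∨ ∃ s, t = 2 * s := by
  obtain ⟨n, rfl⟩ := exists_nat m t
  rcases Nat.even_or_odd' n with ⟨r, rfl | rfl⟩
  · right; exact ⟨r, by push_cast; ring⟩
  · left
    rw [ZMod.isUnit_iff_coprime]
    apply Nat.Coprime.pow_right
    rw [Nat.coprime_two_right]
    exact ⟨r, rfl⟩

theorem not_isUnit_two : ¬ IsUnit (2 : ZMod (2 ^ (m + 1))) := by
  intro h
  have h1 := two_mul_two_pow m
  have := h.mul_right_eq_zero.mp h1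
  exact two_pow_ne_zero m this

/-- `2^m y = 0 ⟹ y` even -/
theorem even_of_two_pow_mul (y : ZMod (2 ^ (m + 1))) (h : 2 ^ m * y = 0) : ∃ s, y = 2 * s := by
  rcases isUnit_or_even m y with hu | hs
  · exfalso
    have := hu.mul_left_eq_zero.mp h
    exact two_pow_ne_zero m this
  · exact hs

end Cfsg.Agent.Lib.Helper48.ZTwoPow
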